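import Mathlib
import Groth.Agent.Lib.CubicH28.Basic

/-!
Products of three linear forms on a tangent plane; elementary facts on cubic polynomials.
-/

set_option autoImplicit false

open MvPolynomial

namespace Groth.Agent.PfaffH28

open CubicH28

universe u

section Closed

variable {K : Type u} [Field K] [IsAlgClosed K]

theorem binary_quad (A B C : K) : ∃ l₁ l₂ m₁ m₂ : K, ∀ y z,
    A * y ^ 2 + B * (y * z) + C * z ^ 2 = (l₁ * y + l₂ * z) * (m₁ * y + m₂ * z) := by
  by_cases hA : A = 0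
  · exact ⟨0, 1, B, C, fun y z => by rw [hA]; ring⟩
  obtain ⟨r, hr⟩ := IsAlgClosed.exists_root
    (Polynomial.C A * Polynomial.X ^ 2 + Polynomial.C B * Polynomial.X + Polynomial.C C)
    (by rw [Polynomial.degree_quadratic hA]; norm_num)
  simp only [Polynomial.IsRoot, Polynomial.eval_add, Polynomial.eval_mul, Polynomial.eval_C, Polynomial.eval_pow,
    Polynomial.eval_X] at hr
  exact ⟨1, -r, A, B + A * r, fun y z => by linear_combination (z ^ 2) * hr⟩

theorem binary_cubic (c₀ c₁ c₂ c₃ : K) : ∃ l₁ l₂ A B C : K, ∀ y z,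
    c₀ * y ^ 3 + c₁ * (y ^ 2 * z) + c₂ * (y * z ^ 2) + c₃ * z ^ 3 =
      (l₁ * y + l₂ * z) * (A * y ^ 2 + B * (y * z) + C * z ^ 2) := by
  by_cases h0 : c₀ = 0
  · exact ⟨0, 1, c₁, c₂, c₃, fun y z => by rw [h0]; ring⟩
  obtain ⟨r, hr⟩ := IsAlgClosed.exists_root
    (Polynomial.C c₀ * Polynomial.X ^ 3 + Polynomial.C c₁ * Polynomial.X ^ 2 + Polynomial.C c₂ * Polynomial.X + Polynomial.C c₃)
    (by rw [Polynomial.degree_cubic h0]; norm_num)
  simp only [Polynomial.IsRoot, Polynomial.eval_add, Polynomial.eval_mul, Polynomial.eval_C, Polynomial.eval_pow,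
    Polynomial.eval_X] at hr
  exact ⟨1, -r, c₀, c₁ + c₀ * r, c₂ + (c₁ + c₀ * r) * r, fun y z => by linear_combination (z ^ 3) * hr⟩

end Closed

section Expand

variable {k : Type u} [Field k] [CharZero k] {f : MvPolynomial (Fin 4) k} (hf : f.IsHomogeneous 3)
include hf

theorem six_eval3 (x y z : k) (a u w : Fin 4 → k) :
    6 * eval (x • a + y • u + z • w) f = x ^ 3 * T f a a a + 3 * x ^ 2 * y * T f a a u + 3 * x ^ 2 * z * T f a a w
      + 3 * x * y ^ 2 * T f a u u + 6 * x * y * z * T f a u w + 3 * x * z ^ 2 * T f a w w + y ^ 3 * T f u u u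
      + 3 * y ^ 2 * z * T f u u w + 3 * y * z ^ 2 * T f u w w + z ^ 3 * T f w w w := by
  rw [← T_self hf]
  simp only [T_add hf, T_add₂ hf, T_add₃ hf, T_smul hf, T_smul₂ hf, T_smul₃ hf]
  have e1 : T f a u a = T f a a u := T_symm23 f a u a
  have e2 : T f u a a = T f a a u := by rw [T_symm12 f u a a, e1]
  have e3 : T f a w a = T f a a w := T_symm23 f a w a
  have e4 : T f w a a = T f a a w := by rw [T_symm12 f w a a, e3]
  have e5 : T f u a u = T f a u u := T_symm12 f u a u
  have e6 : T f u u a = T f a u u := by rw [T_symm23 f u u a, e5]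
  have e7 : T f w a w = T f a w w := T_symm12 f w a w
  have e8 : T f w w a = T f a w w := by rw [T_symm23 f w w a, e7]
  have e9 : T f a w u = T f a u w := T_symm23 f a w u
  have e10 : T f u a w = T f a u w := T_symm12 f u a w
  have e11 : T f u w a = T f a u w := by rw [T_symm23 f u w a, e10]
  have e12 : T f w a u = T f a u w := by rw [T_symm12 f w a u, e9]
  have e13 : T f w u a = T f a u w := by rw [T_symm23 f w u a, e12]
  have e14 : T f u w u = T f u u w := T_symm23 f u w u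
  have e15 : T f w u u = T f u u w := by rw [T_symm12 f w u u, e14]
  have e16 : T f w u w = T f u w w := T_symm12 f w u w
  have e17 : T f w w u = T f u w w := by rw [T_symm23 f w w u, e16]
  simp only [e1, e2, e3, e4, e5, e6, e7, e8, e9, e10, e11, e12, e13, e14, e15, e16, e17]
  ring

theorem six_eval2 (x y : k) (a v : Fin 4 → k) :
    6 * eval (x • a + y • v) f = x ^ 3 * T f a a a + 3 * x ^ 2 * y * T f a a v + 3 * x * y ^ 2 * T f a v v + y ^ 3 * T f v v v := by
  have := six_eval3 hf x y 0 a v v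
  rw [zero_smul, add_zero] at this
  linear_combination this

omit [CharZero k] in
theorem T_map {K : Type*} [Field K] (φ : k →+* K) (x y z : Fin 4 → k) :
    T (MvPolynomial.map φ f) (φ ∘ x) (φ ∘ y) (φ ∘ z) = φ (T f x y z) := by
  have h : ∀ v : Fin 4 → k, eval (φ ∘ v) (MvPolynomial.map φ f) = φ (eval v f) := fun v => by
    rw [eval_map, eval₂_comp]
  have hadd : ∀ v v' : Fin 4 → k, (φ ∘ v + φ ∘ v' : Fin 4 → K) = φ ∘ (v + v') := fun v v' => funext fun i => by simp
  simp only [T, hadd, h, map_add, map_sub]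

omit hf in
omit [CharZero k] in
/-- A polynomial vanishing on a hyperplane is a multiple of the linear form. -/
theorem mem_span_of_vanish [Infinite k] (ℓ G : MvPolynomial (Fin 4) k) (c : Fin 4 → k) (hℓ : ℓ = ∑ i, C (c i) * X i)
    (x₀ : Fin 4 → k) (hx₀ : ∑ i, c i * x₀ i = 1)
    (hG : ∀ P : Fin 4 → k, eval P ℓ = 0 → eval P G = 0) : G ∈ Ideal.span {ℓ} := by
  let π : Fin 4 → MvPolynomial (Fin 4) k := fun j => X j - C (x₀ j) * ℓ
  have h0 : aeval π G = 0 := MvPolynomial.funext fun P => by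
    have e : eval P (aeval π G) = eval (fun j => P j - x₀ j * eval P ℓ) G := by
      rw [aeval_def, eval₂_comp_left (eval P)]
      have h1 : (eval P).comp (algebraMap k (MvPolynomial (Fin 4) k)) = RingHom.id k := RingHom.ext fun r => by simp
      rw [h1, ← eval₂_id]
      congr 1
      funext j
      simp [π]
    rw [e, map_zero]
    refine hG _ ?_
    have hP : eval P ℓ = ∑ i, c i * P i := by simp [hℓ]
    rw [hℓ, map_sum]
    simp only [map_mul, eval_C, eval_X]
    rw [← hℓ, hP]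
    simp only [mul_sub, Finset.sum_sub_distrib, ← mul_assoc, ← Finset.sum_mul, hx₀, one_mul, sub_self]
  have h1 : Ideal.Quotient.mk (Ideal.span {ℓ}) (aeval π G) = Ideal.Quotient.mk (Ideal.span {ℓ}) G := by
    have : ((Ideal.Quotient.mkₐ k (Ideal.span {ℓ})).comp (aeval π)) = Ideal.Quotient.mkₐ k (Ideal.span {ℓ}) :=
      MvPolynomial.algHom_ext fun j => by
        simp only [AlgHom.comp_apply, aeval_X, π, map_sub, map_mul, Ideal.Quotient.mkₐ_eq_mk]
        rw [Ideal.Quotient.eq_zero_iff_mem.2 (Ideal.mem_span_singleton_self ℓ), mul_zero, sub_zero]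
    exact DFunLike.congr_fun this G
  rw [h0, map_zero] at h1
  exact Ideal.Quotient.eq_zero_iff_mem.1 h1.symm

end Expand

section Main

variable {k : Type u} [Field k] [CharZero k]

/-- The binary forms attached to a point and two vectors of its tangent plane. -/
theorem tpoint_of_forms {f : MvPolynomial (Fin 4) k} (hf : f.IsHomogeneous 3)
    (B : Module.Basis (Fin 4) k (Fin 4 → k)) (a u w x₀ : Fin 4 → k) (hB : ⇑B = ![a, u, w, x₀])
    (c : Fin 4 → k) (ha : ∑ i, c i * a i = 0) (hu : ∑ i, c i * u i = 0) (hw : ∑ i, c i * w i = 0)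
    (hx₀ : ∑ i, c i * x₀ i = 1)
    (ha1 : T f a a a = 0) (ha2 : T f a a u = 0) (ha3 : T f a a w = 0)
    (ℓ : MvPolynomial (Fin 4) (AlgebraicClosure k))
    (hℓ : ℓ = ∑ i, C (algebraMap k (AlgebraicClosure k) (c i)) * X i)
    (hcase : (T f a u u = 0 ∧ T f a u w = 0 ∧ T f a w w = 0) ∨ ∃ α β : k,
      T f u u u = 3 * α * T f a u u ∧ 3 * T f u u w = 3 * β * T f a u u + 6 * α * T f a u w ∧
      3 * T f u w w = 6 * β * T f a u w + 3 * α * T f a w w ∧ T f w w w = 3 * β * T f a w w) :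
    ∃ L₁ L₂ L₃ : MvPolynomial (Fin 4) (AlgebraicClosure k), L₁.IsHomogeneous 1 ∧ L₂.IsHomogeneous 1 ∧ L₃.IsHomogeneous 1 ∧
      MvPolynomial.map (algebraMap k (AlgebraicClosure k)) f - L₁ * L₂ * L₃ ∈ Ideal.span {ℓ} := by
  let K := AlgebraicClosure k
  let φ : k →+* K := algebraMap k K
  let co : Fin 4 → (Fin 4 → K) → K := fun i P => ∑ j, φ (B.repr (Pi.single j (1 : k)) i) * P j
  let Lin : (Fin 4 → K) → MvPolynomial (Fin 4) K := fun d =>
    ∑ j, C (∑ i, d i * φ (B.repr (Pi.single j (1 : k)) i)) * X j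
  have hLin : ∀ d P, eval P (Lin d) = ∑ i, d i * co i P := fun d P => by
    simp only [Lin, co, map_sum, map_mul, eval_C, eval_X, Finset.sum_mul, Finset.mul_sum]
    rw [Finset.sum_comm]
    exact Finset.sum_congr rfl fun i _ => Finset.sum_congr rfl fun j _ => by ring
  have hhom : ∀ d, (Lin d).IsHomogeneous 1 := fun d =>
    IsHomogeneous.sum _ _ _ fun j _ => (isHomogeneous_X K j).C_mul _
  have hdec : ∀ P : Fin 4 → K, P = co 0 P • (φ ∘ a) + co 1 P • (φ ∘ u) + co 2 P • (φ ∘ w) + co 3 P • (φ ∘ x₀) := by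
    intro P
    have hj : ∀ j l : Fin 4, ∑ i, φ (B.repr (Pi.single j (1 : k)) i) * φ (B i l) = if j = l then 1 else 0 := by
      intro j l
      have h := congrArg φ (congrFun (B.sum_repr (Pi.single j (1 : k))) l)
      simp only [Finset.sum_apply, Pi.smul_apply, smul_eq_mul, map_sum, map_mul] at h
      rw [h]
      by_cases e : j = l
      · subst e; simp
      · simp [Pi.single_eq_of_ne (Ne.symm e), e]
    funext l
    calc P l = ∑ j, (if j = l then (1 : K) else 0) * P j := by simp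
      _ = ∑ j, (∑ i, φ (B.repr (Pi.single j (1 : k)) i) * φ (B i l)) * P j := by simp only [hj]
      _ = ∑ i, co i P * φ (B i l) := by
        rw [Finset.sum_congr rfl fun j _ => Finset.sum_mul _ _ _, Finset.sum_comm]
        refine Finset.sum_congr rfl fun i _ => ?_
        show _ = (∑ j, φ (B.repr (Pi.single j (1 : k)) i) * P j) * _
        rw [Finset.sum_mul]
        exact Finset.sum_congr rfl fun j _ => by ring
      _ = _ := by simp [Fin.sum_univ_four, hB]
  have hl : ∀ P, eval P ℓ = co 3 P := by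
    intro P
    have hc : ∀ v : Fin 4 → k, ∑ i, φ (c i) * (φ ∘ v) i = φ (∑ i, c i * v i) := fun v => by
      simp [map_sum]
    have e : eval P ℓ = ∑ i, φ (c i) * P i := by simp [hℓ, φ, K]
    rw [e]
    conv_lhs => rw [hdec P]
    simp only [Pi.add_apply, Pi.smul_apply, smul_eq_mul, mul_add, Finset.sum_add_distrib]
    simp only [mul_left_comm (φ (c _)) (co _ P), ← Finset.mul_sum, hc, ha, hu, hw, hx₀, map_zero, map_one,
      mul_zero, mul_one, zero_add]
  have hexp : ∀ P, eval P ℓ = 0 → 6 * eval P (MvPolynomial.map φ f) =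
      3 * co 0 P * co 1 P ^ 2 * φ (T f a u u) + 6 * co 0 P * co 1 P * co 2 P * φ (T f a u w)
      + 3 * co 0 P * co 2 P ^ 2 * φ (T f a w w) + co 1 P ^ 3 * φ (T f u u u)
      + 3 * co 1 P ^ 2 * co 2 P * φ (T f u u w) + 3 * co 1 P * co 2 P ^ 2 * φ (T f u w w)
      + co 2 P ^ 3 * φ (T f w w w) := by
    intro P hP
    rw [hl] at hP
    have hP' := hdec P
    rw [hP, zero_smul, add_zero] at hP'
    conv_lhs => rw [hP']
    rw [six_eval3 (hf.map φ)]
    simp only [T_map hf, ha1, ha2, ha3, map_zero, mul_zero, zero_add]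
  have hfin : ∀ L₁ L₂ L₃ : Fin 4 → K, (∀ P, eval P ℓ = 0 → eval P (MvPolynomial.map φ f) =
      eval P (Lin L₁) * eval P (Lin L₂) * eval P (Lin L₃)) →
      ∃ L₁ L₂ L₃ : MvPolynomial (Fin 4) K, L₁.IsHomogeneous 1 ∧ L₂.IsHomogeneous 1 ∧ L₃.IsHomogeneous 1 ∧
        MvPolynomial.map φ f - L₁ * L₂ * L₃ ∈ Ideal.span {ℓ} := by
    intro L₁ L₂ L₃ h
    refine ⟨Lin L₁, Lin L₂, Lin L₃, hhom _, hhom _, hhom _,
      mem_span_of_vanish ℓ _ (fun i => φ (c i)) hℓ (φ ∘ x₀) ?_ fun P hP => ?_⟩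
    · rw [← map_one φ, ← hx₀, map_sum]; simp
    · rw [map_sub, map_mul, map_mul, h P hP, sub_self]
  rcases hcase with ⟨h1, h2, h3⟩ | ⟨α, β, h1, h2, h3, h4⟩
  · obtain ⟨l₁, l₂, A, B', C', hcub⟩ := binary_cubic (φ (T f u u u) / 6) (φ (T f u u w) / 2) (φ (T f u w w) / 2) (φ (T f w w w) / 6)
    obtain ⟨m₁, m₂, n₁, n₂, hquad⟩ := binary_quad A B' C'
    refine hfin ![0, l₁, l₂, 0] ![0, m₁, m₂, 0] ![0, n₁, n₂, 0] fun P hP => ?_
    have h := hexp P hP
    simp only [h1, h2, h3, map_zero, mul_zero, zero_add] at h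
    simp only [hLin, Fin.sum_univ_four]
    simp
    rw [eval_map] at h
    have h5 := hcub (co 1 P) (co 2 P)
    rw [hquad] at h5
    linear_combination (1 / 6 : K) * h + h5
  · obtain ⟨m₁, m₂, n₁, n₂, hquad⟩ := binary_quad (φ (T f a u u) / 2) (φ (T f a u w)) (φ (T f a w w) / 2)
    refine hfin ![1, φ α, φ β, 0] ![0, m₁, m₂, 0] ![0, n₁, n₂, 0] fun P hP => ?_
    have h := hexp P hP
    have e1 := congrArg φ h1
    have e2 := congrArg φ h2
    have e3 := congrArg φ h3
    have e4 := congrArg φ h4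
    simp only [map_mul, map_add, map_ofNat] at e1 e2 e3 e4
    simp only [hLin, Fin.sum_univ_four]
    simp
    rw [eval_map] at h
    have h5 := hquad (co 1 P) (co 2 P)
    linear_combination (1 / 6 : K) * h + (co 0 P + φ α * co 1 P + φ β * co 2 P) * h5
      + (co 1 P ^ 3 / 6) * e1 + (co 1 P ^ 2 * co 2 P / 6) * e2 + (co 1 P * co 2 P ^ 2 / 6) * e3 + (co 2 P ^ 3 / 6) * e4

end Main

end Groth.Agent.PfaffH28
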