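import Mathlib
import Groth.Agent.Lib.CubicH28.Basic

/-!
A cubic surface through five points in general position is linearly Pfaffian: the five points are
cut out by the five products of non-adjacent sides of a pentagon.
-/

set_option autoImplicit false

open MvPolynomial

namespace Groth.Agent.PfaffH28

universe u

theorem det6 {R : Type*} [CommRing R] (y0 y1 y2 y3 y4 l0 l1 l2 l3 l4 : R) :
    (!![0, y0, 0, 0, -y4, l0; -y0, 0, y1, 0, 0, l1; 0, -y1, 0, y2, 0, l2; 0, 0, -y2, 0, y3, l3;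
      y4, 0, 0, -y3, 0, l4; -l0, -l1, -l2, -l3, -l4, 0] : Matrix (Fin 6) (Fin 6) R).det
      = (l0 * (y1 * y3) + l1 * (y2 * y4) + l2 * (y3 * y0) + l3 * (y4 * y1) + l4 * (y0 * y2)) ^ 2 := by
  simp [Matrix.det_succ_row_zero, Fin.sum_univ_succ, Fin.succAbove]
  ring

variable {k : Type u} [Field k]

/-- Products of three forms, two of them non-adjacent. -/
noncomputable def adjW (Y : Fin 5 → MvPolynomial (Fin 4) k) : Submodule k (MvPolynomial (Fin 4) k) :=
  Submodule.span k (Set.range fun p : Fin 5 × Fin 5 => Y (p.1 + 1) * Y (p.1 + 3) * Y p.2)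

theorem mem_adjW (Y : Fin 5 → MvPolynomial (Fin 4) k) (a b c : Fin 5) (h : b = a + 2 ∨ a = b + 2) :
    Y a * Y b * Y c ∈ adjW Y := by
  rcases h with rfl | rfl
  · refine Submodule.subset_span ⟨(a + 4, c), ?_⟩
    simp only [show a + 4 + 1 = a by rw [add_assoc]; exact add_zero a,
      show a + 4 + 3 = a + 2 by rw [add_assoc]; rfl]
  · refine Submodule.subset_span ⟨(b + 4, c), ?_⟩
    simp only [show b + 4 + 1 = b by rw [add_assoc]; exact add_zero b,
      show b + 4 + 3 = b + 2 by rw [add_assoc]; rfl]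
    ring

/-- The reduced classes. -/
noncomputable def adjV (Y : Fin 5 → MvPolynomial (Fin 4) k) : Submodule k (MvPolynomial (Fin 4) k) :=
  adjW Y ⊔ Submodule.span k (Set.range fun i : Fin 5 => Y i * Y i * Y (i + 1))

theorem prod_mem_adjV (Y : Fin 5 → MvPolynomial (Fin 4) k) (hY : ∑ i, Y i = 0) (a b c : Fin 5) :
    Y a * Y b * Y c ∈ adjV Y := by
  have hW : ∀ a b c, (b = a + 2 ∨ a = b + 2) → Y a * Y b * Y c ∈ adjV Y := fun a b c h =>
    Submodule.mem_sup_left (mem_adjW Y a b c h)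
  have hE : ∀ i, Y i * Y i * Y (i + 1) ∈ adjV Y := fun i =>
    Submodule.mem_sup_right (Submodule.subset_span ⟨i, rfl⟩)
  have hsum : ∀ i, Y i + Y (i + 1) + Y (i + 2) + Y (i + 3) + Y (i + 4) = 0 := by
    intro i
    rw [Fin.sum_univ_five] at hY
    fin_cases i <;> simp <;> linear_combination hY
  have hadd : ∀ i : Fin 5, i + 1 = i + 4 + 2 := by decide
  have hmid : ∀ i, Y i * Y (i + 1) * Y (i + 1) ∈ adjV Y := by
    intro i
    have e : Y i * Y (i + 1) * Y (i + 1) =
        -(Y i * Y i * Y (i + 1) + Y i * Y (i + 2) * Y (i + 1) + Y (i + 1) * Y (i + 3) * Y i + Y (i + 1) * Y (i + 4) * Y i) := by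
      linear_combination (Y i * Y (i + 1)) * hsum i
    rw [e]
    exact neg_mem (add_mem (add_mem (add_mem (hE i) (hW _ _ _ (Or.inl rfl))) (hW _ _ _ (Or.inl (by rw [add_assoc]; rfl))))
      (hW _ _ _ (Or.inr (hadd i))))
  have hcube : ∀ i, Y i * Y i * Y i ∈ adjV Y := by
    intro i
    have e : Y i * Y i * Y i =
        -(Y i * Y i * Y (i + 1) + Y i * Y (i + 2) * Y i + Y i * Y (i + 3) * Y i + Y (i + 4) * Y i * Y i) := by
      linear_combination (Y i * Y i) * hsum i
    rw [e]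
    refine neg_mem (add_mem (add_mem (add_mem (hE i) (hW _ _ _ (Or.inl rfl)))
      (hW _ _ _ (Or.inr (by rw [add_assoc]; exact (add_zero i).symm)))) ?_)
    have := hmid (i + 4)
    rwa [show i + 4 + 1 = i by rw [add_assoc]; exact add_zero i] at this
  have hcases : ∀ a b c : Fin 5, (b = a + 2 ∨ a = b + 2) ∨ (c = a + 2 ∨ a = c + 2) ∨ (c = b + 2 ∨ b = c + 2) ∨
      (a = b ∧ b = c) ∨ (a = b ∧ c = a + 1) ∨ (a = c ∧ b = a + 1) ∨ (b = c ∧ a = b + 1) ∨
      (b = c ∧ b = a + 1) ∨ (a = c ∧ a = b + 1) ∨ (a = b ∧ a = c + 1) := by decide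
  rcases hcases a b c with h | h | h | ⟨rfl, rfl⟩ | ⟨rfl, rfl⟩ | ⟨rfl, rfl⟩ | ⟨rfl, rfl⟩ | ⟨rfl, rfl⟩ | ⟨rfl, rfl⟩ | ⟨rfl, rfl⟩
  · exact hW _ _ _ h
  · rw [mul_right_comm]; exact hW _ _ _ h
  · rw [mul_assoc, mul_comm]; exact hW _ _ _ h
  · exact hcube _
  · exact hE _
  · rw [mul_right_comm]; exact hE _
  · rw [mul_assoc, mul_comm]; exact hE _
  · exact hmid _
  · rw [show Y (b + 1) * Y b * Y (b + 1) = Y b * Y (b + 1) * Y (b + 1) by ring]; exact hmid _
  · rw [show Y (c + 1) * Y (c + 1) * Y c = Y c * Y (c + 1) * Y (c + 1) by ring]; exact hmid _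

theorem exists_forms (Y : Fin 5 → MvPolynomial (Fin 4) k) (hY : ∑ i, Y i = 0) (hY1 : ∀ i, (Y i).IsHomogeneous 1)
    (P : Fin 5 → Fin 4 → k) (hP : ∀ i j, eval (P i) (Y j) = (if j = i then 1 else 0) - (if j = i + 1 then 1 else 0))
    (G : MvPolynomial (Fin 5) k) (hG : G.IsHomogeneous 3) (h0 : ∀ i, eval (P i) (aeval Y G) = 0) :
    ∃ l : Fin 5 → MvPolynomial (Fin 4) k, (∀ i, (l i).IsHomogeneous 1) ∧
      aeval Y G = ∑ i, l i * (Y (i + 1) * Y (i + 3)) := by
  classical
  have hV : aeval Y G ∈ adjV Y := CubicH28.cubic_induction (P := fun g => aeval Y g ∈ adjV Y)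
    (by simp) (fun f g hf hg => by rw [map_add]; exact add_mem hf hg)
    (fun r f hf => by rw [map_smul]; exact Submodule.smul_mem _ r hf)
    (fun a b c => by rw [map_mul, map_mul, aeval_X, aeval_X, aeval_X]; exact prod_mem_adjV Y hY a b c) hG
  obtain ⟨w, hw, e, he, hwe⟩ := Submodule.mem_sup.1 hV
  obtain ⟨c, rfl⟩ := (Submodule.mem_span_range_iff_exists_fun k).1 he
  obtain ⟨d, rfl⟩ := (Submodule.mem_span_range_iff_exists_fun k).1 hw
  have hval : ∀ i j, eval (P i) (Y (j + 1) * Y (j + 3)) = 0 := by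
    intro i j
    rw [map_mul, hP, hP]
    fin_cases i <;> fin_cases j <;> simp
  have hc : ∀ i, c i = 0 := by
    intro i
    have := h0 i
    rw [← hwe, map_add, map_sum, map_sum] at this
    have h1 : ∀ p : Fin 5 × Fin 5, eval (P i) (d p • (Y (p.1 + 1) * Y (p.1 + 3) * Y p.2)) = 0 := fun p => by
      rw [smul_eval, map_mul, hval, zero_mul, mul_zero]
    rw [Finset.sum_eq_zero fun p _ => h1 p, zero_add] at this
    simp only [smul_eval, map_mul, hP] at this
    fin_cases i <;> simpa [Fin.sum_univ_five] using this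
  refine ⟨fun i => ∑ j, d (i, j) • Y j, fun i => ?_, ?_⟩
  · refine IsHomogeneous.sum _ _ _ fun j _ => ?_
    rw [smul_eq_C_mul]
    exact (hY1 j).C_mul _
  · rw [← hwe]
    simp only [hc, zero_smul, Finset.sum_const_zero, add_zero, Fintype.sum_prod_type, Finset.sum_mul]
    refine Finset.sum_congr rfl fun i _ => Finset.sum_congr rfl fun j _ => ?_
    rw [smul_mul_assoc, mul_comm]

theorem isHomogeneous_linear {n : ℕ} (f : Fin n → k) : (∑ i, C (f i) * X i : MvPolynomial (Fin n) k).IsHomogeneous 1 :=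
  IsHomogeneous.sum _ _ _ fun i _ => (isHomogeneous_X k i).C_mul _

theorem aeval_sub_eq (B : Module.Basis (Fin 4) k (Fin 4 → k)) (α : Fin 4 → k) (hα : ∀ i, α i ≠ 0)
    (e : Fin 4 → Fin 4 → k) (he : ∀ i, B i = e i) (Y : Fin 5 → MvPolynomial (Fin 4) k)
    (ξ : Fin 4 → MvPolynomial (Fin 4) k) (hξ : ξ = fun i => ∑ j, C (B.repr (Pi.single j (1 : k)) i / α i) * X j)
    (sub : Fin 4 → MvPolynomial (Fin 5) k) (hsub : ∀ j, sub j = C (α 0 * e 0 j) * X 0 + C (α 1 * e 1 j) * (X 0 + X 1)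
      + C (α 2 * e 2 j) * (X 0 + X 1 + X 2) + C (α 3 * e 3 j) * (X 0 + X 1 + X 2 + X 3))
    (hY : Y 0 = ξ 0 ∧ Y 1 = ξ 1 - ξ 0 ∧ Y 2 = ξ 2 - ξ 1 ∧ Y 3 = ξ 3 - ξ 2) (F : MvPolynomial (Fin 4) k) :
    aeval Y (aeval sub F) = F := by
  obtain ⟨h0, h1, h2, h3⟩ := hY
  have hX : ∀ j, aeval Y (sub j) = X j := fun j => by
    have hxi : aeval Y (sub j) = ∑ i : Fin 4, C (α i * e i j) * ξ i := by
      simp only [hsub, map_add, map_mul, aeval_C, aeval_X, Fin.sum_univ_four, algebraMap_eq, h0, h1, h2, h3]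
      ring
    rw [hxi, hξ]
    simp only [Finset.mul_sum, ← mul_assoc, ← C_mul]
    rw [Finset.sum_comm]
    have hl : ∀ l, ∑ i : Fin 4, C (α i * e i j * (B.repr (Pi.single l (1 : k)) i / α i)) * X l
        = C ((Pi.single l (1 : k) : Fin 4 → k) j) * (X l : MvPolynomial (Fin 4) k) := fun l => by
      rw [← Finset.sum_mul, ← map_sum]
      congr 2
      have h := congrFun (B.sum_repr (Pi.single l (1 : k))) j
      rw [Finset.sum_apply] at h
      rw [← h]
      refine Finset.sum_congr rfl fun i _ => ?_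
      rw [Pi.smul_apply, he, smul_eq_mul]
      field_simp [hα i]
    rw [Finset.sum_congr rfl fun l _ => hl l, Finset.sum_eq_single j]
    · simp
    · intro l _ hlj; simp [Pi.single_eq_of_ne (Ne.symm hlj)]
    · simp
  rw [← AlgHom.comp_apply, show (aeval Y).comp (aeval sub) = AlgHom.id k _ from
    MvPolynomial.algHom_ext fun j => by rw [AlgHom.comp_apply, aeval_X, hX, AlgHom.id_apply], AlgHom.id_apply]

set_option maxHeartbeats 800000 in
theorem exists_pfaffianRep [CharZero k] (F : MvPolynomial (Fin 4) k) (hF : F.IsHomogeneous 3) (p : Fin 5 → Fin 4 → k)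
    (hp0 : ∀ j, eval (p j) F = 0) (hp : ∀ j : Fin 5, LinearIndependent k (fun i : Fin 4 => p (j.succAbove i))) :
    ∃ M : Matrix (Fin 6) (Fin 6) (MvPolynomial (Fin 4) k), (∀ i j, (M i j).IsHomogeneous 1) ∧
      M.transpose = -M ∧ (∀ i, M i i = 0) ∧ ∃ c : k, c ≠ 0 ∧ M.det = C c * F ^ 2 := by
  classical
  have hli : LinearIndependent k (fun i : Fin 4 => p i.castSucc) := by
    have h4 := hp (Fin.last 4)
    simp only [Fin.succAbove_last] at h4
    exact h4
  let B := basisOfLinearIndependentOfCardEqFinrank hli (by simp)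
  have hB : ∀ i, B i = p i.castSucc := fun i => by simp [B]
  have hα : ∀ i, B.repr (p 4) i ≠ 0 := by
    intro i h
    have hsum := B.sum_repr (p 4)
    have hind := Fintype.linearIndependent_iff.1 (hp i.castSucc)
    fin_cases i <;>
      first
      | exact one_ne_zero (α := k) ((neg_eq_zero).1 (hind ![B.repr (p 4) 1, B.repr (p 4) 2, B.repr (p 4) 3, -1] (by
          rw [Fin.sum_univ_four] at hsum ⊢
          simp [hB, Fin.succAbove] at hsum h ⊢
          rw [h] at hsum
          linear_combination (norm := module) hsum) 3))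
      | exact one_ne_zero (α := k) ((neg_eq_zero).1 (hind ![B.repr (p 4) 0, B.repr (p 4) 2, B.repr (p 4) 3, -1] (by
          rw [Fin.sum_univ_four] at hsum ⊢
          simp [hB, Fin.succAbove] at hsum h ⊢
          rw [h] at hsum
          linear_combination (norm := module) hsum) 3))
      | exact one_ne_zero (α := k) ((neg_eq_zero).1 (hind ![B.repr (p 4) 0, B.repr (p 4) 1, B.repr (p 4) 3, -1] (by
          rw [Fin.sum_univ_four] at hsum ⊢
          simp [hB, Fin.succAbove] at hsum h ⊢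
          rw [h] at hsum
          linear_combination (norm := module) hsum) 3))
      | exact one_ne_zero (α := k) ((neg_eq_zero).1 (hind ![B.repr (p 4) 0, B.repr (p 4) 1, B.repr (p 4) 2, -1] (by
          rw [Fin.sum_univ_four] at hsum ⊢
          simp [hB, Fin.succAbove] at hsum h ⊢
          rw [h] at hsum
          linear_combination (norm := module) hsum) 3))
  -- linear forms
  let ξ : Fin 4 → MvPolynomial (Fin 4) k := fun i =>
    ∑ j, C (B.repr (Pi.single j (1 : k)) i / B.repr (p 4) i) * X j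
  have hξ1 : ∀ i, (ξ i).IsHomogeneous 1 := fun i => isHomogeneous_linear _
  have hξ : ∀ i x, eval x (ξ i) = B.repr x i / B.repr (p 4) i := by
    intro i x
    simp only [ξ, map_sum, map_mul, eval_C, eval_X]
    conv_rhs => rw [pi_eq_sum_univ' x, map_sum, Finsupp.finsetSum_apply, Finset.sum_div]
    refine Finset.sum_congr rfl fun j _ => ?_
    rw [map_smul, Finsupp.smul_apply, smul_eq_mul]
    ring
  let Y : Fin 5 → MvPolynomial (Fin 4) k := ![ξ 0, ξ 1 - ξ 0, ξ 2 - ξ 1, ξ 3 - ξ 2, -ξ 3]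
  have hY : ∑ i, Y i = 0 := by simp [Y, Fin.sum_univ_five]
  have hY1 : ∀ i, (Y i).IsHomogeneous 1 := by
    intro i
    fin_cases i
    · exact hξ1 0
    · exact (hξ1 1).sub (hξ1 0)
    · exact (hξ1 2).sub (hξ1 1)
    · exact (hξ1 3).sub (hξ1 2)
    · exact (hξ1 3).neg
  let P : Fin 5 → Fin 4 → k := ![B.repr (p 4) 0 • p 0, B.repr (p 4) 1 • p 1, B.repr (p 4) 2 • p 2,
    B.repr (p 4) 3 • p 3, -p 4]
  have hrepr : ∀ i : Fin 4, B.repr (p i.castSucc) = Finsupp.single i 1 := fun i => by rw [← hB, B.repr_self]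
  have hP : ∀ i j, eval (P i) (Y j) = (if j = i then 1 else 0) - (if j = i + 1 then 1 else 0) := by
    have h0 := hrepr 0; have h1 := hrepr 1; have h2 := hrepr 2; have h3 := hrepr 3
    simp at h0 h1 h2 h3
    have a0 := hα 0; have a1 := hα 1; have a2 := hα 2; have a3 := hα 3
    intro i j
    fin_cases i <;> fin_cases j <;> simp [P, Y, hξ, h0, h1, h2, h3, a0, a1, a2, a3]
  have hFP : ∀ i, eval (P i) F = 0 := by
    intro i
    have hs : ∀ (c : k) (x : Fin 4 → k), eval x F = 0 → eval (c • x) F = 0 := fun c x hx => by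
      have := CubicH28.T_self hF (c • x)
      rw [CubicH28.T_smul hF, CubicH28.T_smul₂ hF, CubicH28.T_smul₃ hF] at this
      rw [CubicH28.T_self hF, hx] at this
      simpa using this
    fin_cases i
    · exact hs _ _ (hp0 0)
    · exact hs _ _ (hp0 1)
    · exact hs _ _ (hp0 2)
    · exact hs _ _ (hp0 3)
    · show eval (-p 4) F = 0
      rw [← neg_one_smul k (p 4)]
      exact hs _ _ (hp0 4)
  let sub : Fin 4 → MvPolynomial (Fin 5) k := fun j =>
    C (B.repr (p 4) 0 * p 0 j) * X 0 + C (B.repr (p 4) 1 * p 1 j) * (X 0 + X 1)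
      + C (B.repr (p 4) 2 * p 2 j) * (X 0 + X 1 + X 2) + C (B.repr (p 4) 3 * p 3 j) * (X 0 + X 1 + X 2 + X 3)
  have hsub1 : ∀ j, (sub j).IsHomogeneous 1 := fun j => by
    have := fun i : Fin 5 => isHomogeneous_X k i
    exact ((((this 0).C_mul _).add (((this 0).add (this 1)).C_mul _)).add
      ((((this 0).add (this 1)).add (this 2)).C_mul _)).add (((((this 0).add (this 1)).add (this 2)).add (this 3)).C_mul _)
  let G : MvPolynomial (Fin 5) k := aeval sub F
  have hG : G.IsHomogeneous 3 := by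
    have h := hF.aeval sub hsub1
    rwa [one_mul] at h
  have hcomp : aeval Y G = F := by
    refine aeval_sub_eq B (fun i => B.repr (p 4) i) hα (fun i j => p i.castSucc j) (fun i => funext fun j => by rw [hB]) Y ξ rfl sub (fun j => ?_) (by simp [Y]) F
    simp [sub]
  obtain ⟨l, hl, hFl⟩ := exists_forms Y hY hY1 P hP G hG fun i => by rw [hcomp]; exact hFP i
  rw [hcomp] at hFl
  let M : Matrix (Fin 6) (Fin 6) (MvPolynomial (Fin 4) k) :=
    !![0, Y 0, 0, 0, -Y 4, l 0; -Y 0, 0, Y 1, 0, 0, l 1; 0, -Y 1, 0, Y 2, 0, l 2; 0, 0, -Y 2, 0, Y 3, l 3;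
      Y 4, 0, 0, -Y 3, 0, l 4; -l 0, -l 1, -l 2, -l 3, -l 4, 0]
  refine ⟨M, fun i j => ?_, ?_, fun i => ?_, 1, one_ne_zero, ?_⟩
  · have hz : (0 : MvPolynomial (Fin 4) k).IsHomogeneous 1 := isHomogeneous_zero _ _ _
    have hn := fun i => (hY1 i).neg
    have hln := fun i => (hl i).neg
    fin_cases i <;> fin_cases j <;> simp [M] <;> first | exact hY1 _ | exact hl _ | exact hn _ | exact hln _ | exact hz
  · refine Matrix.ext fun i j => ?_
    fin_cases i <;> fin_cases j <;> simp [M]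
  · fin_cases i <;> simp [M]
  · rw [C_1, one_mul, det6, hFl, Fin.sum_univ_five]
    norm_num
    rfl

end Groth.Agent.PfaffH28
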