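import Mathlib
import Groth.Agent.Lib.CubicH28.Basic
import Groth.Agent.Lib.PfaffH28.TPoint

/-!
Five rational points in general position on a cubic surface with a rational point that is not a T-point.
-/

set_option autoImplicit false

open MvPolynomial

namespace Groth.Agent.PfaffH28

open CubicH28

universe u

section GP

variable {k : Type u} [Field k]

theorem li_rows (B : Module.Basis (Fin 4) k (Fin 4 → k)) (M : Fin 4 → Fin 4 → k) (h : (Matrix.of M).det ≠ 0) :
    LinearIndependent k (fun i => ∑ j, M i j • B j) := by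
  have h1 := Matrix.linearIndependent_rows_of_det_ne_zero h
  have h2 := h1.map' B.equivFun.symm.toLinearMap (LinearEquiv.ker _)
  have h3 : (fun i => ∑ j, M i j • B j) = B.equivFun.symm.toLinearMap ∘ fun i => M i :=
    funext fun i => (B.equivFun_symm_apply (M i)).symm
  rw [h3]
  exact h2

theorem det_frame (α : Fin 4 → k) (hα : ∀ i, α i ≠ 0) (j : Fin 5) :
    (Matrix.of fun i => (![![1, 0, 0, 0], ![0, 1, 0, 0], ![0, 0, 1, 0], ![0, 0, 0, 1], α] : Fin 5 → Fin 4 → k)
      (j.succAbove i)).det ≠ 0 := by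
  fin_cases j <;>
    simp [Matrix.det_succ_row_zero, Fin.sum_univ_succ, Fin.succAbove, hα]

theorem det_smooth (b g e z : Fin 4 → k) (φ : k) (hb : b 3 = 0) (hg : g 3 = 0) (hz : z 3 = 0) (he : e 3 ≠ 0)
    (hφ : φ ≠ 0) (h12 : b 1 * g 2 - b 2 * g 1 ≠ 0) (hbz : b 1 * z 2 - b 2 * z 1 ≠ 0)
    (hgz : g 1 * z 2 - g 2 * z 1 ≠ 0)
    (h3 : b 0 * (g 1 * z 2 - g 2 * z 1) - b 1 * (g 0 * z 2 - g 2 * z 0) + b 2 * (g 0 * z 1 - g 1 * z 0) ≠ 0)
    (j : Fin 5) :
    (Matrix.of fun i => (![![1, 0, 0, 0], b, g, e, φ • e + z] : Fin 5 → Fin 4 → k)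
      (j.succAbove i)).det ≠ 0 := by
  fin_cases j <;> intro h <;>
    simp [Matrix.det_succ_row_zero, Fin.sum_univ_succ, Fin.succAbove, hb, hg, hz] at h
  · exact mul_ne_zero he h3 (by linear_combination (-1 : k) * h)
  · exact mul_ne_zero he hgz (by linear_combination (-1 : k) * h)
  · exact mul_ne_zero he hbz (by linear_combination (-1 : k) * h)
  · exact mul_ne_zero (mul_ne_zero hφ he) h12 (by linear_combination (1 : k) * h)
  · exact mul_ne_zero he h12 (by linear_combination (1 : k) * h)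

theorem exists_not_mem_span {n : ℕ} (v : Fin n → Fin 4 → k) (W : Submodule k (Fin 4 → k))
    (h : n < Module.finrank k W) : ∃ x ∈ W, x ∉ Submodule.span k (Set.range v) := by
  by_contra hc
  push Not at hc
  have h1 : W ≤ Submodule.span k (Set.range v) := hc
  have h2 := (Submodule.finrank_mono h1).trans (finrank_range_le_card (R := k) v)
  rw [Fintype.card_fin] at h2
  omega

end GP

section Singular

variable {k : Type u} [Field k] [CharZero k]

theorem isHomogeneous_not_isUnit {L : Type*} [Field L] {n : ℕ} (P : MvPolynomial (Fin 4) L) (hP : P.IsHomogeneous n)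
    (hn : n ≠ 0) : ¬ IsUnit P := by
  intro h
  have h1 := h.map constantCoeff
  rw [constantCoeff_eq, hP.coeff_eq_zero (by simpa using hn.symm)] at h1
  exact not_isUnit_zero h1

theorem five_points_singular (F : MvPolynomial (Fin 4) k) (hF : F.IsHomogeneous 3)
    (hirr : Irreducible (MvPolynomial.map (algebraMap k (AlgebraicClosure k)) F))
    (hcone : ¬ ∃ v : Fin 4 → k, v ≠ 0 ∧ ∑ i : Fin 4, v i • MvPolynomial.pderiv i F = 0)
    (a : Fin 4 → k) (ha : a ≠ 0) (hFa : eval a F = 0) (hsing : ∀ x, T F a a x = 0) :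
    ∃ p : Fin 5 → (Fin 4 → k), p 0 = a ∧ (∀ j : Fin 5, eval (p j) F = 0) ∧
      ∀ j : Fin 5, LinearIndependent k (fun i : Fin 4 => p (j.succAbove i)) := by
  classical
  let Qp : MvPolynomial (Fin 4) k := ∑ i, a i • pderiv i F
  have hQ : ∀ v, eval v Qp = T F a v v / 2 := fun v => by
    rw [T_symm12 F a v v, T_symm23 F v a v, ← pderiv_eq hF v a]
    simp [Qp, smul_eval]
  have hQ0 : Qp ≠ 0 := fun h => hcone ⟨a, ha, h⟩
  have hQh : Qp.IsHomogeneous 2 := IsHomogeneous.sum _ _ _ fun i _ => by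
    rw [smul_eq_C_mul]; exact (hF.pderiv).C_mul _
  let r : (Fin 4 → k) → (Fin 4 → k) := fun v => (-eval v F) • a + eval v Qp • v
  have hr : ∀ v, eval (r v) F = 0 := fun v => by
    have h := six_eval2 hF (-eval v F) (eval v Qp) a v
    rw [T_self hF a, hFa, hsing, T_self hF v, hQ] at h
    simp only [r, hQ]
    linear_combination (1 / 6 : k) * h
  let Rp : (Fin 4 → k) → MvPolynomial (Fin 4) k := fun d =>
    C (-∑ i, d i * a i) * F + Qp * ∑ i, C (d i) * X i
  have hRp : ∀ d v, eval v (Rp d) = ∑ i, d i * r v i := fun d v => by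
    simp only [Rp, r, map_add, map_mul, eval_C, eval_X, map_sum, Pi.add_apply, Pi.smul_apply, smul_eq_mul,
      Finset.mul_sum, neg_mul, Finset.sum_mul, ← Finset.sum_neg_distrib, ← Finset.sum_add_distrib]
    exact Finset.sum_congr rfl fun i _ => by ring
  have hRp0 : ∀ d, d ≠ 0 → Rp d ≠ 0 := by
    intro d hd h0
    have hL0 : (∑ i, C (d i) * X i : MvPolynomial (Fin 4) k) ≠ 0 := fun h => hd (funext fun j => by
      simpa [Pi.single_apply] using congrArg (eval (Pi.single j 1)) h)
    have hs : (∑ i, d i * a i) ≠ 0 := fun h => by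
      simp only [Rp, h, neg_zero, map_zero, zero_mul, zero_add] at h0
      exact mul_ne_zero hQ0 hL0 h0
    have hFe : F = (C (∑ i, d i * a i)⁻¹ * Qp) * ∑ i, C (d i) * X i := by
      have h1 : C (∑ i, d i * a i) * F = Qp * ∑ i, C (d i) * X i := by
        simp only [Rp, map_neg] at h0; linear_combination -h0
      rw [mul_assoc, ← h1, ← mul_assoc, ← map_mul, inv_mul_cancel₀ hs, map_one, one_mul]
    rw [hFe, map_mul] at hirr
    rcases hirr.isUnit_or_isUnit rfl with h | h
    · exact isHomogeneous_not_isUnit _ ((hQh.C_mul _).map _) two_ne_zero h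
    · exact isHomogeneous_not_isUnit _
        (IsHomogeneous.map (IsHomogeneous.sum _ _ _ fun i _ => (isHomogeneous_X k i).C_mul _) _) one_ne_zero h
  have hoff : ∀ (m : ℕ) (v : Fin m → Fin 4 → k), m < 4 → ∃ x, eval x F = 0 ∧ x ∉ Submodule.span k (Set.range v) := by
    intro m v hm
    by_contra hc
    push Not at hc
    have hne : Submodule.span k (Set.range v) < ⊤ := by
      refine lt_top_iff_ne_top.2 fun h => ?_
      have h1 := finrank_range_le_card (R := k) v
      rw [Set.finrank, h, finrank_top, Fintype.card_fin, Module.finrank_pi, Fintype.card_fin] at h1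
      omega
    obtain ⟨φ, hφ0, hφ⟩ := Submodule.exists_le_ker_of_lt_top _ hne
    let d : Fin 4 → k := fun i => φ (Pi.single i 1)
    have hd : ∀ x, φ x = ∑ i, d i * x i := fun x => by
      conv_lhs => rw [pi_eq_sum_univ' x, map_sum]
      exact Finset.sum_congr rfl fun i _ => by rw [map_smul, smul_eq_mul, mul_comm]
    refine hRp0 d (fun h => hφ0 (LinearMap.ext fun x => by rw [hd, h]; simp)) (MvPolynomial.funext fun x => ?_)
    rw [hRp, ← hd, map_zero]
    exact hφ (hc _ (hr x))
  obtain ⟨p1, h1, n1⟩ := hoff 1 ![a] (by norm_num)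
  obtain ⟨p2, h2, n2⟩ := hoff 2 ![a, p1] (by norm_num)
  obtain ⟨p3, h3, n3⟩ := hoff 3 ![a, p1, p2] (by norm_num)
  have l1 : LinearIndependent k ![a] := LinearIndependent.of_subsingleton (i := 0) (by simpa using ha)
  have e2 : (Fin.snoc ![a] p1 : Fin 2 → Fin 4 → k) = ![a, p1] := by funext i; fin_cases i <;> rfl
  have e3 : (Fin.snoc ![a, p1] p2 : Fin 3 → Fin 4 → k) = ![a, p1, p2] := by funext i; fin_cases i <;> rfl
  have e4 : (Fin.snoc ![a, p1, p2] p3 : Fin 4 → Fin 4 → k) = ![a, p1, p2, p3] := by funext i; fin_cases i <;> rfl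
  have l2 := linearIndependent_finSnoc.2 ⟨l1, n1⟩
  rw [e2] at l2
  have l3 := linearIndependent_finSnoc.2 ⟨l2, n2⟩
  rw [e3] at l3
  have l4 := linearIndependent_finSnoc.2 ⟨l3, n3⟩
  rw [e4] at l4
  let B := basisOfLinearIndependentOfCardEqFinrank l4 (by simp)
  have hB : ⇑B = ![a, p1, p2, p3] := coe_basisOfLinearIndependentOfCardEqFinrank _ _
  let d : Fin 4 → Fin 4 → k := fun l i => B.repr (Pi.single i 1) l
  have hd : ∀ l x, B.repr x l = ∑ i, d l i * x i := fun l x => by
    conv_lhs => rw [pi_eq_sum_univ' x, map_sum]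
    rw [Finsupp.finset_sum_apply]
    exact Finset.sum_congr rfl fun i _ => by rw [map_smul, Finsupp.smul_apply, smul_eq_mul, mul_comm]
  have hd0 : ∀ l, d l ≠ 0 := fun l h => by
    have := hd l (B l)
    rw [h] at this
    simp at this
  have hprod : ∏ l, Rp (d l) ≠ 0 := Finset.prod_ne_zero_iff.2 fun l _ => hRp0 _ (hd0 l)
  obtain ⟨v, hv⟩ : ∃ v, eval v (∏ l, Rp (d l)) ≠ 0 := by
    by_contra hc
    push Not at hc
    exact hprod (MvPolynomial.funext fun v => by rw [hc v, map_zero])
  rw [map_prod, Finset.prod_ne_zero_iff] at hv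
  have hv' : ∀ l, B.repr (r v) l ≠ 0 := fun l => by
    rw [hd, ← hRp]; exact hv l (Finset.mem_univ l)
  refine ⟨![a, p1, p2, p3, r v], rfl, fun j => ?_, fun j => ?_⟩
  · fin_cases j
    exacts [hFa, h1, h2, h3, hr v]
  · have hm : ∀ m, ∑ l, (![![1, 0, 0, 0], ![0, 1, 0, 0], ![0, 0, 1, 0], ![0, 0, 0, 1], ⇑(B.repr (r v))] :
        Fin 5 → Fin 4 → k) m l • B l = (![a, p1, p2, p3, r v] : Fin 5 → Fin 4 → k) m := by
      intro m
      fin_cases m
      · simp [Fin.sum_univ_four, hB]
      · simp [Fin.sum_univ_four, hB]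
      · simp [Fin.sum_univ_four, hB]
      · simp [Fin.sum_univ_four, hB]
      · exact B.sum_repr _
    have hl := li_rows B _ (det_frame _ hv' j)
    simpa only [hm] using hl

end Singular

section Smooth

variable {k : Type u} [Field k] [CharZero k]

theorem eq_C_mul_of_wronskian (P Q : Polynomial k) (hQ : Q ≠ 0)
    (h : Polynomial.derivative P * Q = P * Polynomial.derivative Q) : ∃ β : k, P = Polynomial.C β * Q := by
  have key : ∀ R : Polynomial k, R ≠ 0 → Polynomial.derivative R * Q = R * Polynomial.derivative Q →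
      R.natDegree = Q.natDegree := by
    intro R hR hw
    rcases Nat.eq_zero_or_pos R.natDegree with hn | hn
    · rw [hn]
      have hR' : Polynomial.derivative R = 0 := Polynomial.derivative_of_natDegree_zero hn
      rw [hR', zero_mul, eq_comm, mul_eq_zero] at hw
      exact (Polynomial.natDegree_eq_zero_of_derivative_eq_zero (hw.resolve_left hR)).symm
    · have hc := congrArg (fun p : Polynomial k => p.coeff (R.natDegree - 1 + Q.natDegree)) hw
      rw [Polynomial.coeff_mul_add_eq_of_natDegree_le (Polynomial.natDegree_derivative_le R) le_rfl] at hc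
      rcases Nat.eq_zero_or_pos Q.natDegree with hm | hm
      · rw [Polynomial.derivative_of_natDegree_zero hm, mul_zero, Polynomial.coeff_zero, Polynomial.coeff_derivative,
          Nat.sub_add_cancel hn] at hc
        rcases mul_eq_zero.1 hc with hc | hc
        · rcases mul_eq_zero.1 hc with hc | hc
          · exact absurd (Polynomial.leadingCoeff_eq_zero.1 hc) hR
          · rw [Nat.cast_sub hn, Nat.cast_one, sub_add_cancel] at hc
            exact absurd hc (Nat.cast_ne_zero.2 (by omega))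
        · exact absurd (Polynomial.leadingCoeff_eq_zero.1 hc) hQ
      · rw [show R.natDegree - 1 + Q.natDegree = R.natDegree + (Q.natDegree - 1) by omega,
          Polynomial.coeff_mul_add_eq_of_natDegree_le le_rfl (Polynomial.natDegree_derivative_le Q),
          Polynomial.coeff_derivative, Polynomial.coeff_derivative, Nat.sub_add_cancel hn, Nat.sub_add_cancel hm,
          Nat.cast_sub hn, Nat.cast_sub hm, Nat.cast_one, sub_add_cancel, sub_add_cancel] at hc
        have : R.leadingCoeff * Q.leadingCoeff * ((R.natDegree : k) - Q.natDegree) = 0 := by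
          simp only [Polynomial.leadingCoeff]; linear_combination hc
        simp only [mul_eq_zero, Polynomial.leadingCoeff_eq_zero, hR, hQ, sub_eq_zero, or_false, false_or] at this
        exact_mod_cast this
  refine ⟨P.coeff Q.natDegree / Q.leadingCoeff, ?_⟩
  by_contra hne
  have h0 : P - Polynomial.C (P.coeff Q.natDegree / Q.leadingCoeff) * Q ≠ 0 := sub_ne_zero.2 hne
  have hd := key _ h0 (by rw [map_sub, Polynomial.derivative_C_mul]; linear_combination h)
  have hc : (P - Polynomial.C (P.coeff Q.natDegree / Q.leadingCoeff) * Q).coeff Q.natDegree = 0 := by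
    rw [Polynomial.coeff_sub, Polynomial.coeff_C_mul, ← Polynomial.leadingCoeff,
      div_mul_cancel₀ _ (Polynomial.leadingCoeff_ne_zero.2 hQ), sub_self]
  refine h0 (Polynomial.leadingCoeff_eq_zero.1 ?_)
  rw [Polynomial.leadingCoeff, hd, hc]

/-- The vector with polynomial coordinates `g` in the family `e`, at the parameter `t`. -/
noncomputable def V3 (e : Fin 3 → Fin 4 → k) (g : Fin 3 → Polynomial k) (t : k) : Fin 4 → k :=
  ∑ i, (g i).eval t • e i

/-- The trilinear form evaluated on polynomial vectors. -/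
noncomputable def S3 (F : MvPolynomial (Fin 4) k) (e : Fin 3 → Fin 4 → k) (g h l : Fin 3 → Polynomial k) : Polynomial k :=
  ∑ i, ∑ j, ∑ m, Polynomial.C (T F (e i) (e j) (e m)) * g i * h j * l m

theorem S3_eval {F : MvPolynomial (Fin 4) k} (hF : F.IsHomogeneous 3) (e : Fin 3 → Fin 4 → k)
    (g h l : Fin 3 → Polynomial k) (t : k) :
    (S3 F e g h l).eval t = T F (V3 e g t) (V3 e h t) (V3 e l t) := by
  simp only [S3, V3, Fin.sum_univ_three, T_add hF, T_add₂ hF, T_add₃ hF, T_smul hF, T_smul₂ hF, T_smul₃ hF,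
    Polynomial.eval_add, Polynomial.eval_mul, Polynomial.eval_C]
  ring

theorem S3_deriv (F : MvPolynomial (Fin 4) k) (e : Fin 3 → Fin 4 → k) (g h l : Fin 3 → Polynomial k) :
    Polynomial.derivative (S3 F e g h l) = S3 F e (fun i => Polynomial.derivative (g i)) h l
      + S3 F e g (fun i => Polynomial.derivative (h i)) l + S3 F e g h (fun i => Polynomial.derivative (l i)) := by
  simp only [S3, Polynomial.derivative_sum, Polynomial.derivative_mul, Polynomial.derivative_C, zero_mul, zero_add,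
    add_mul, Finset.sum_add_distrib]

set_option maxHeartbeats 1600000 in
/-- Five points from a point of the surface, a basis adapted to its tangent plane, and the binary criterion. -/
theorem five_points_core (F : MvPolynomial (Fin 4) k) (hF : F.IsHomogeneous 3) (a u w x₀ : Fin 4 → k)
    (B : Module.Basis (Fin 4) k (Fin 4 → k)) (hB : ⇑B = ![a, u, w, x₀]) (hFa : eval a F = 0)
    (haau : T F a a u = 0) (haaw : T F a a w = 0)
    (hnoT : ((T F a u u = 0 ∧ T F a u w = 0 ∧ T F a w w = 0) ∨ ∃ α β : k,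
      T F u u u = 3 * α * T F a u u ∧ 3 * T F u u w = 3 * β * T F a u u + 6 * α * T F a u w ∧
      3 * T F u w w = 6 * β * T F a u w + 3 * α * T F a w w ∧ T F w w w = 3 * β * T F a w w) → False) :
    ∃ p : Fin 5 → (Fin 4 → k), p 0 = a ∧ (∀ j : Fin 5, eval (p j) F = 0) ∧
      ∀ j : Fin 5, LinearIndependent k (fun i : Fin 4 => p (j.succAbove i)) := by
  classical
  have haaa : T F a a a = 0 := by rw [T_self hF, hFa]; ring
  -- the tangent curve
  let cp : Polynomial k := Polynomial.C (T F u u u / 6) + Polynomial.C (T F u u w / 2) * Polynomial.X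
    + Polynomial.C (T F u w w / 2) * Polynomial.X ^ 2 + Polynomial.C (T F w w w / 6) * Polynomial.X ^ 3
  let qp : Polynomial k := Polynomial.C (T F a u u / 2) + Polynomial.C (T F a u w) * Polynomial.X
    + Polynomial.C (T F a w w / 2) * Polynomial.X ^ 2
  have hq0 : qp ≠ 0 := fun h => by
    have hz : ∀ t : k, T F a u u / 2 + t * T F a u w + t ^ 2 * (T F a w w / 2) + t ^ 3 * 0 = 0 := fun t => by
      have := congrArg (Polynomial.eval t) h
      simp [qp] at this
      linear_combination this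
    obtain ⟨h1, h2, h3, -⟩ := coeff_zero hz
    exact hnoT (Or.inl ⟨by linear_combination 2 * h1, h2, by linear_combination 2 * h3⟩)
  have hcq : ∀ α β : k, cp ≠ (Polynomial.C α + Polynomial.C β * Polynomial.X) * qp := fun α β h => by
    have hz : ∀ t : k, (T F u u u / 6 - α * (T F a u u / 2))
        + t * (T F u u w / 2 - α * T F a u w - β * (T F a u u / 2))
        + t ^ 2 * (T F u w w / 2 - α * (T F a w w / 2) - β * T F a u w)
        + t ^ 3 * (T F w w w / 6 - β * (T F a w w / 2)) = 0 := fun t => by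
      have := congrArg (Polynomial.eval t) h
      simp [cp, qp] at this
      linear_combination this
    obtain ⟨h1, h2, h3, h4⟩ := coeff_zero hz
    exact hnoT (Or.inr ⟨α, β, by linear_combination 6 * h1, by linear_combination 6 * h2,
      by linear_combination 6 * h3, by linear_combination 6 * h4⟩)
  let ev : Fin 3 → Fin 4 → k := ![a, u, w]
  let g : Fin 3 → Polynomial k := ![-cp, qp, Polynomial.X * qp]
  let g1 : Fin 3 → Polynomial k := fun i => Polynomial.derivative (g i)
  let g2 : Fin 3 → Polynomial k := fun i => Polynomial.derivative (g1 i)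
  have hV : ∀ t, V3 ev g t = (-cp.eval t) • a + qp.eval t • (u + t • w) := fun t => by
    simp [V3, ev, g, Fin.sum_univ_three, smul_add, smul_smul, mul_comm t, add_assoc]
  have hva : ∀ t, T F a a (u + t • w) = 0 := fun t => by
    rw [T_add₃ hF, T_smul₃ hF, haau, haaw]; ring
  have hvv : ∀ t, T F a (u + t • w) (u + t • w) = 2 * qp.eval t := fun t => by
    simp only [T_add₂ hF, T_add₃ hF, T_smul₂ hF, T_smul₃ hF, T_symm23 F a w u, qp, Polynomial.eval_add,
      Polynomial.eval_mul, Polynomial.eval_C, Polynomial.eval_X, Polynomial.eval_pow]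
    ring
  have hvvv : ∀ t, T F (u + t • w) (u + t • w) (u + t • w) = 6 * cp.eval t := fun t => by
    have h := six_eval3 hF 0 1 t a u w
    simp only [zero_smul, one_smul, zero_add] at h
    rw [T_self hF, h]
    simp [cp]
    ring
  have hFg : ∀ t, eval (V3 ev g t) F = 0 := fun t => by
    have h := six_eval2 hF (-cp.eval t) (qp.eval t) a (u + t • w)
    rw [haaa, hva, hvv, hvvv] at h
    rw [hV]
    linear_combination (1 / 6 : k) * h
  have symm12 : ∀ p q r, S3 F ev p q r = S3 F ev q p r := fun p q r => Polynomial.funext fun t => by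
    rw [S3_eval hF, S3_eval hF, T_symm12]
  have symm23 : ∀ p q r, S3 F ev p q r = S3 F ev p r q := fun p q r => Polynomial.funext fun t => by
    rw [S3_eval hF, S3_eval hF, T_symm23]
  have h000 : S3 F ev g g g = 0 := Polynomial.funext fun t => by
    rw [S3_eval hF, T_self hF, hFg]; simp
  have h001 : S3 F ev g g g1 = 0 := by
    have h := congrArg Polynomial.derivative h000
    rw [S3_deriv, map_zero] at h
    change S3 F ev g1 g g + S3 F ev g g1 g + S3 F ev g g g1 = 0 at h
    rw [symm12 g1 g g, symm23 g g1 g] at h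
    have : (3 : Polynomial k) * S3 F ev g g g1 = 0 := by linear_combination h
    exact (mul_eq_zero.1 this).resolve_left (by norm_num)
  have h011 : 2 * S3 F ev g g1 g1 + S3 F ev g g g2 = 0 := by
    have h := congrArg Polynomial.derivative h001
    rw [S3_deriv, map_zero] at h
    change S3 F ev g1 g g1 + S3 F ev g g1 g1 + S3 F ev g g g2 = 0 at h
    rw [symm12 g1 g g1] at h
    linear_combination h
  let E : Fin 3 → Polynomial k := fun m => S3 F ev g g ![if m = 0 then 1 else 0, if m = 1 then 1 else 0, if m = 2 then 1 else 0]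
  have hE : ∀ l, S3 F ev g g l = l 0 * E 0 + l 1 * E 1 + l 2 * E 2 := fun l => by
    simp [S3, E, Fin.sum_univ_three]
    ring
  have hE0 : E 0 = 2 * qp ^ 3 := Polynomial.funext fun t => by
    have : V3 ev ![if (0 : Fin 3) = 0 then 1 else 0, if (0 : Fin 3) = 1 then 1 else 0, if (0 : Fin 3) = 2 then 1 else 0] t = a := by
      simp [V3, ev, Fin.sum_univ_three]
    rw [S3_eval hF, this, hV]
    simp only [T_add hF, T_smul hF, T_add₂ hF, T_smul₂ hF]
    simp only [T_symm12 F u a a, T_symm12 F w a a, T_symm23 F a u a, T_symm23 F a w a,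
      T_symm23 F u u a, T_symm12 F u a u, T_symm23 F u w a, T_symm12 F u a w, T_symm23 F w u a,
      T_symm12 F w a u, T_symm23 F w w a, T_symm12 F w a w, T_symm23 F a w u, haaa, haau, haaw]
    have := hvv t
    simp only [T_add₂ hF, T_add₃ hF, T_smul₂ hF, T_smul₃ hF, T_symm23 F a w u] at this
    simp
    linear_combination (qp.eval t ^ 2) * this
  let N : Polynomial k := Polynomial.derivative (Polynomial.derivative cp) * qp ^ 2
    - cp * qp * Polynomial.derivative (Polynomial.derivative qp)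
    - 2 * Polynomial.derivative cp * Polynomial.derivative qp * qp + 2 * cp * Polynomial.derivative qp ^ 2
  have hS : S3 F ev g g1 g1 = qp * N := by
    have a0 := hE g
    have a1 := hE g1
    have a2 := hE g2
    rw [h000] at a0
    rw [h001] at a1
    simp only [g1, g2, g, Matrix.cons_val_zero, Matrix.cons_val_one, Matrix.cons_val, map_neg,
      Polynomial.derivative_mul, Polynomial.derivative_X, one_mul, map_add] at a0 a1 a2
    rw [hE0] at a0 a1 a2
    have key : ∀ c q c1 q1 c2 q2 X X1 X2 S11 Sg2 : Polynomial k, q ≠ 0 →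
        0 = -c * (2 * q ^ 3) + q * X1 + X * q * X2 →
        0 = -c1 * (2 * q ^ 3) + q1 * X1 + (q + X * q1) * X2 →
        Sg2 = -c2 * (2 * q ^ 3) + q2 * X1 + (q1 + (q1 + X * q2)) * X2 →
        2 * S11 + Sg2 = 0 →
        S11 = q * (c2 * q ^ 2 - c * q * q2 - 2 * c1 * q1 * q + 2 * c * q1 ^ 2) := by
      intro c q c1 q1 c2 q2 X X1 X2 S11 Sg2 hq b0 b1 b2 b3
      refine mul_left_cancel₀ (mul_ne_zero (two_ne_zero : (2 : Polynomial k) ≠ 0) (pow_ne_zero 2 hq)) ?_
      linear_combination q ^ 2 * b3 - q ^ 2 * b2 + (2 * q * q1) * b1 + (q * q2 - 2 * q1 ^ 2) * b0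
    exact key _ _ _ _ _ _ _ _ _ _ _ hq0 a0 a1 a2 h011
  have hN : N ≠ 0 := fun h => by
    let W := Polynomial.derivative cp * qp - cp * Polynomial.derivative qp
    obtain ⟨β, hβ⟩ := eq_C_mul_of_wronskian W (qp ^ 2) (pow_ne_zero _ hq0) (by
      simp only [W, map_sub, Polynomial.derivative_mul, Polynomial.derivative_pow, Nat.cast_ofNat,
        Nat.add_one_sub_one, pow_one, Polynomial.C_ofNat]
      simp only [N] at h
      linear_combination qp * h)
    obtain ⟨α, hα⟩ := eq_C_mul_of_wronskian (cp - Polynomial.C β * Polynomial.X * qp) qp hq0 (by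
      simp only [map_sub, Polynomial.derivative_mul, Polynomial.derivative_C, Polynomial.derivative_X]
      simp only [W] at hβ
      linear_combination hβ)
    exact hcq α β (by linear_combination hα)
  obtain ⟨t₀, ht₀⟩ := Infinite.exists_notMem_finset ((qp * N).roots.toFinset)
  have ht₀' : (qp * N).eval t₀ ≠ 0 := fun h => ht₀ (by
    rw [Multiset.mem_toFinset, Polynomial.mem_roots (mul_ne_zero hq0 hN)]; exact h)
  rw [Polynomial.eval_mul] at ht₀'
  have hq : qp.eval t₀ ≠ 0 := left_ne_zero_of_mul ht₀'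
  -- coordinates
  let bc : Fin 4 → k := ![-cp.eval t₀, qp.eval t₀, t₀ * qp.eval t₀, 0]
  let dc : Fin 4 → k := ![-(Polynomial.derivative cp).eval t₀, (Polynomial.derivative qp).eval t₀,
    qp.eval t₀ + t₀ * (Polynomial.derivative qp).eval t₀, 0]
  let pt : (Fin 4 → k) → Fin 4 → k := fun c => ∑ i, c i • B i
  have hpb : pt bc = V3 ev g t₀ := by simp [pt, bc, V3, ev, g, Fin.sum_univ_four, Fin.sum_univ_three, hB]
  have hpd : pt dc = V3 ev g1 t₀ := by simp [pt, dc, V3, ev, g1, g, Fin.sum_univ_four, Fin.sum_univ_three, hB]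
  have hbb : T F (pt bc) (pt bc) (pt bc) = 0 := by rw [hpb, T_self hF, hFg]; ring
  have hbd : T F (pt bc) (pt bc) (pt dc) = 0 := by rw [hpb, hpd, ← S3_eval hF, h001]; simp
  have hdd : T F (pt bc) (pt dc) (pt dc) ≠ 0 := by
    rw [hpb, hpd, ← S3_eval hF, hS, Polynomial.eval_mul]; exact ht₀'
  have hba : T F (pt bc) (pt bc) a ≠ 0 := by
    have h := congrArg (Polynomial.eval t₀) hE0
    rw [S3_eval hF] at h
    have e : V3 ev ![if (0 : Fin 3) = 0 then 1 else 0, if (0 : Fin 3) = 1 then 1 else 0, if (0 : Fin 3) = 2 then 1 else 0] t₀ = a := by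
      simp [V3, ev, Fin.sum_univ_three]
    rw [e, ← hpb] at h
    rw [h]
    simp [hq]
  let μ : k := T F (pt bc) (pt bc) x₀ / T F (pt bc) (pt bc) a
  let vc : k → Fin 4 → k := fun s => dc + s • ![-μ, 0, 0, 1]
  let Q : k → k := fun s => T F (pt bc) (pt (vc s)) (pt (vc s)) / 2
  let rc : k → Fin 4 → k := fun s => (-eval (pt (vc s)) F) • bc + Q s • vc s
  have hpt : ∀ (x y : k) (c d : Fin 4 → k), pt (x • c + y • d) = x • pt c + y • pt d := fun x y c d => by
    simp [pt, Finset.smul_sum, add_smul, Finset.sum_add_distrib, smul_smul]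
  have hp1 : pt ![-μ, 0, 0, 1] = (-μ) • a + x₀ := by simp [pt, Fin.sum_univ_four, hB]
  have hpv : ∀ s, pt (vc s) = pt dc + s • ((-μ) • a + x₀) := fun s => by
    rw [← hp1, ← one_smul k (pt dc), ← hpt]; simp [vc]
  have hr : ∀ s, eval (pt (rc s)) F = 0 := fun s => by
    have h0 : T F (pt bc) (pt bc) (pt (vc s)) = 0 := by
      rw [hpv, T_add₃ hF, T_smul₃ hF, T_add₃ hF, T_smul₃ hF, hbd]
      simp only [μ]
      field_simp
      ring
    have h := six_eval2 hF (-eval (pt (vc s)) F) (Q s) (pt bc) (pt (vc s))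
    rw [hbb, h0, T_self hF (pt (vc s))] at h
    simp only [rc]
    rw [hpt]
    simp only [Q] at h ⊢
    linear_combination (1 / 6 : k) * h
  -- Q is a nonzero quadratic in s
  let Qq : Polynomial k := Polynomial.C (T F (pt bc) (pt dc) (pt dc)) + Polynomial.C (2 * T F (pt bc) (pt dc) ((-μ) • a + x₀)) * Polynomial.X
    + Polynomial.C (T F (pt bc) ((-μ) • a + x₀) ((-μ) • a + x₀)) * Polynomial.X ^ 2
  have hQq : ∀ s, Qq.eval s = 2 * Q s := fun s => by
    simp only [Q, hpv, T_add₂ hF, T_add₃ hF, T_smul₂ hF, T_smul₃ hF, T_symm23 F (pt bc) _ (pt dc), Qq,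
      Polynomial.eval_add, Polynomial.eval_mul, Polynomial.eval_C, Polynomial.eval_X, Polynomial.eval_pow]
    ring
  have hQq0 : Qq ≠ 0 := fun h => hdd (by
    have := congrArg (Polynomial.eval (0 : k)) h
    simpa [Qq] using this)
  obtain ⟨s, hs⟩ := Infinite.exists_notMem_finset ((Qq * Polynomial.X).roots.toFinset)
  have hs' : (Qq * Polynomial.X).eval s ≠ 0 := fun h => hs (by
    rw [Multiset.mem_toFinset, Polynomial.mem_roots (mul_ne_zero hQq0 Polynomial.X_ne_zero)]; exact h)
  obtain ⟨s', hs2⟩ := Infinite.exists_notMem_finset (insert s (Qq * Polynomial.X).roots.toFinset)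
  have hs2' : (Qq * Polynomial.X).eval s' ≠ 0 := fun h => hs2 (Finset.mem_insert_of_mem (by
    rw [Multiset.mem_toFinset, Polynomial.mem_roots (mul_ne_zero hQq0 Polynomial.X_ne_zero)]; exact h))
  have hss : s' ≠ s := fun h => hs2 (by rw [h]; exact Finset.mem_insert_self _ _)
  simp only [Polynomial.eval_mul, Polynomial.eval_X, hQq, mul_ne_zero_iff] at hs' hs2'
  let φ : k := s' * Q s' / (s * Q s)
  let A : k := -eval (pt (vc s')) F + φ * eval (pt (vc s)) F
  let Bz : k := Q s' * (1 - s' / s)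
  let zc : Fin 4 → k := A • bc + Bz • dc
  have hQs := hs'.1.2
  have hs0 := hs'.2
  have hsplit : φ • rc s + zc = rc s' := by
    funext i
    simp only [rc, zc, vc, A, Bz, φ, Pi.add_apply, Pi.smul_apply, smul_eq_mul]
    field_simp
    ring
  have hBz : Bz ≠ 0 := mul_ne_zero hs2'.1.2 (sub_ne_zero.2 fun h => hss (by
    rw [eq_comm, div_eq_one_iff_eq hs0] at h; exact h))
  have hφ : φ ≠ 0 := div_ne_zero (mul_ne_zero hs2'.2 hs2'.1.2) (mul_ne_zero hs0 hQs)
  have he3 : rc s 3 ≠ 0 := by
    have : rc s 3 = Q s * s := by simp [rc, vc, bc, dc]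
    rw [this]; exact mul_ne_zero hQs hs0
  have hbz : bc 1 * zc 2 - bc 2 * zc 1 ≠ 0 := by
    have : bc 1 * zc 2 - bc 2 * zc 1 = Bz * qp.eval t₀ ^ 2 := by simp [zc, bc, dc]; ring
    rw [this]; exact mul_ne_zero hBz (pow_ne_zero _ hq)
  let R1 : Polynomial k := Polynomial.C (zc 2) - Polynomial.C (zc 1) * Polynomial.X
  let R2 : Polynomial k := -Polynomial.C (bc 1 * zc 2 - bc 2 * zc 1) * cp
    + (Polynomial.C (bc 2 * zc 0 - bc 0 * zc 2) + Polynomial.C (bc 0 * zc 1 - bc 1 * zc 0) * Polynomial.X) * qp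
  have hR1 : R1 ≠ 0 := fun h => hbz (by
    have := congrArg (Polynomial.eval t₀) h
    simp only [R1, Polynomial.eval_sub, Polynomial.eval_mul, Polynomial.eval_C, Polynomial.eval_X,
      Polynomial.eval_zero] at this
    show qp.eval t₀ * zc 2 - t₀ * qp.eval t₀ * zc 1 = 0
    linear_combination qp.eval t₀ * this)
  have hR2 : R2 ≠ 0 := fun h => by
    refine hcq ((bc 2 * zc 0 - bc 0 * zc 2) / (bc 1 * zc 2 - bc 2 * zc 1))
      ((bc 0 * zc 1 - bc 1 * zc 0) / (bc 1 * zc 2 - bc 2 * zc 1)) (Polynomial.funext fun t => ?_)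
    have := congrArg (Polynomial.eval t) h
    simp only [R2, Polynomial.eval_add, Polynomial.eval_mul, Polynomial.eval_neg, Polynomial.eval_C,
      Polynomial.eval_X, Polynomial.eval_zero] at this
    simp only [Polynomial.eval_add, Polynomial.eval_mul, Polynomial.eval_C, Polynomial.eval_X]
    have key : ∀ D x y c q : k, D ≠ 0 → -D * c + (x + y * t) * q = 0 → c = (x / D + y / D * t) * q := by
      intro D x y c q hD he
      field_simp
      linear_combination -he
    exact key _ _ _ _ _ hbz this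
  have hP0 : (Polynomial.X - Polynomial.C t₀) * qp * R1 * R2 ≠ 0 :=
    mul_ne_zero (mul_ne_zero (mul_ne_zero (Polynomial.X_sub_C_ne_zero t₀) hq0) hR1) hR2
  obtain ⟨t, ht⟩ := Infinite.exists_notMem_finset (((Polynomial.X - Polynomial.C t₀) * qp * R1 * R2).roots.toFinset)
  have ht' : ((Polynomial.X - Polynomial.C t₀) * qp * R1 * R2).eval t ≠ 0 := fun h => ht (by
    rw [Multiset.mem_toFinset, Polynomial.mem_roots hP0]; exact h)
  simp only [Polynomial.eval_mul, mul_ne_zero_iff, R1, R2, Polynomial.eval_sub, Polynomial.eval_X,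
    Polynomial.eval_C, Polynomial.eval_add, Polynomial.eval_neg] at ht'
  obtain ⟨⟨⟨ht1, htq⟩, htR1⟩, htR2⟩ := ht'
  let gc : Fin 4 → k := ![-cp.eval t, qp.eval t, t * qp.eval t, 0]
  have hpg : pt gc = V3 ev g t := by simp [pt, gc, V3, ev, g, Fin.sum_univ_four, Fin.sum_univ_three, hB]
  have hdet := det_smooth bc gc (rc s) zc φ rfl rfl (by simp [zc, bc, dc]) he3 hφ
    (by
      have : bc 1 * gc 2 - bc 2 * gc 1 = (t - t₀) * (qp.eval t₀ * qp.eval t) := by simp [bc, gc]; ring
      rw [this]; exact mul_ne_zero ht1 (mul_ne_zero hq htq))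
    hbz
    (by
      have : gc 1 * zc 2 - gc 2 * zc 1 = qp.eval t * (zc 2 - zc 1 * t) := by simp [gc]; ring
      rw [this]; exact mul_ne_zero htq htR1)
    (by
      refine fun h => htR2 ?_
      simp [gc] at h ⊢
      linear_combination -h)
  refine ⟨fun j => pt ((![![1, 0, 0, 0], bc, gc, rc s, φ • rc s + zc] : Fin 5 → Fin 4 → k) j), ?_,
    fun j => ?_, fun j => li_rows B _ (hdet j)⟩
  · simp [pt, Fin.sum_univ_four, hB]
  · fin_cases j
    · have : pt ![1, 0, 0, 0] = a := by simp [pt, Fin.sum_univ_four, hB]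
      show eval (pt ![1, 0, 0, 0]) F = 0
      rw [this]; exact hFa
    · show eval (pt bc) F = 0
      rw [hpb]; exact hFg t₀
    · show eval (pt gc) F = 0
      rw [hpg]; exact hFg t
    · exact hr s
    · show eval (pt (φ • rc s + zc)) F = 0
      rw [hsplit]; exact hr s'

theorem five_points_smooth (F : MvPolynomial (Fin 4) k) (hF : F.IsHomogeneous 3)
    (a : Fin 4 → k) (ha : a ≠ 0) (hFa : eval a F = 0) (hsm : ∃ i, eval a (pderiv i F) ≠ 0)
    (ℓ : MvPolynomial (Fin 4) (AlgebraicClosure k))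
    (hℓ : ℓ = ∑ i, C (algebraMap k (AlgebraicClosure k) (eval a (pderiv i F))) * X i)
    (hT : ¬ ∃ L₁ L₂ L₃ : MvPolynomial (Fin 4) (AlgebraicClosure k), L₁.IsHomogeneous 1 ∧ L₂.IsHomogeneous 1 ∧
      L₃.IsHomogeneous 1 ∧ MvPolynomial.map (algebraMap k (AlgebraicClosure k)) F - L₁ * L₂ * L₃ ∈ Ideal.span {ℓ}) :
    ∃ p : Fin 5 → (Fin 4 → k), p 0 = a ∧ (∀ j : Fin 5, eval (p j) F = 0) ∧
      ∀ j : Fin 5, LinearIndependent k (fun i : Fin 4 => p (j.succAbove i)) := by
  classical
  -- basis adapted to the tangent plane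
  let Φ : (Fin 4 → k) →ₗ[k] k := ∑ i, eval a (pderiv i F) • LinearMap.proj i
  have hΦ : ∀ x, Φ x = ∑ i, eval a (pderiv i F) * x i := fun x => by simp [Φ, LinearMap.sum_apply]
  have hΦT : ∀ x, Φ x = T F a a x / 2 := fun x => by
    rw [← pderiv_eq hF, hΦ]; exact Finset.sum_congr rfl fun i _ => mul_comm _ _
  obtain ⟨i₀, hi₀⟩ := hsm
  let x₀ : Fin 4 → k := Pi.single i₀ (eval a (pderiv i₀ F))⁻¹
  have hx₀ : Φ x₀ = 1 := by simp [hΦ, x₀, Pi.single_apply, hi₀]
  have hΦ0 : Φ ≠ 0 := fun h => by simp [h] at hx₀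
  have hker : Module.finrank k (LinearMap.ker Φ) = 3 := by
    have h1 := LinearMap.finrank_range_add_finrank_ker Φ
    rw [LinearMap.range_eq_top.2 (LinearMap.surjective hΦ0), finrank_top, Module.finrank_self, Module.finrank_pi,
      Fintype.card_fin] at h1
    omega
  have haker : Φ a = 0 := by rw [hΦT, T_self hF, hFa]; ring
  obtain ⟨u, hu, n1⟩ := exists_not_mem_span ![a] (LinearMap.ker Φ) (by omega)
  obtain ⟨w, hw, n2⟩ := exists_not_mem_span ![a, u] (LinearMap.ker Φ) (by omega)
  rw [LinearMap.mem_ker] at hu hw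
  have n3 : x₀ ∉ Submodule.span k (Set.range ![a, u, w]) := fun h => by
    have : Submodule.span k (Set.range ![a, u, w]) ≤ LinearMap.ker Φ :=
      Submodule.span_le.2 (by rintro x ⟨i, rfl⟩; fin_cases i <;> simp [haker, hu, hw])
    have h' := this h
    rw [LinearMap.mem_ker, hx₀] at h'
    exact one_ne_zero h'
  have l1 : LinearIndependent k ![a] := LinearIndependent.of_subsingleton (i := 0) (by simpa using ha)
  have e2 : (Fin.snoc ![a] u : Fin 2 → Fin 4 → k) = ![a, u] := by funext i; fin_cases i <;> rfl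
  have e3 : (Fin.snoc ![a, u] w : Fin 3 → Fin 4 → k) = ![a, u, w] := by funext i; fin_cases i <;> rfl
  have e4 : (Fin.snoc ![a, u, w] x₀ : Fin 4 → Fin 4 → k) = ![a, u, w, x₀] := by funext i; fin_cases i <;> rfl
  have l2 := linearIndependent_finSnoc.2 ⟨l1, n1⟩
  rw [e2] at l2
  have l3 := linearIndependent_finSnoc.2 ⟨l2, n2⟩
  rw [e3] at l3
  have l4 := linearIndependent_finSnoc.2 ⟨l3, n3⟩
  rw [e4] at l4
  let B := basisOfLinearIndependentOfCardEqFinrank l4 (by simp)
  have hB : ⇑B = ![a, u, w, x₀] := coe_basisOfLinearIndependentOfCardEqFinrank _ _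
  have haaa : T F a a a = 0 := by rw [T_self hF, hFa]; ring
  have haau : T F a a u = 0 := by have := hΦT u; rw [hu] at this; linear_combination (-2 : k) * this
  have haaw : T F a a w = 0 := by have := hΦT w; rw [hw] at this; linear_combination (-2 : k) * this
  have hnoT := fun hcase => hT (tpoint_of_forms hF B a u w x₀ hB (fun i => eval a (pderiv i F))
    (by rw [← hΦ, haker]) (by rw [← hΦ, hu]) (by rw [← hΦ, hw]) (by rw [← hΦ, hx₀]) haaa haau haaw ℓ hℓ hcase)
  exact five_points_core F hF a u w x₀ B hB hFa haau haaw hnoT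

end Smooth

theorem five_points {k : Type u} [Field k] [CharZero k]
    (F : MvPolynomial (Fin 4) k) (hF : F.IsHomogeneous 3)
    (hirr : Irreducible (MvPolynomial.map (algebraMap k (AlgebraicClosure k)) F))
    (hcone : ¬ ∃ v : Fin 4 → k, v ≠ 0 ∧ ∑ i : Fin 4, v i • MvPolynomial.pderiv i F = 0)
    (a : Fin 4 → k) (ha : a ≠ 0) (hFa : eval a F = 0)
    (ℓ : MvPolynomial (Fin 4) (AlgebraicClosure k))
    (hℓ : ℓ = ∑ i, C (algebraMap k (AlgebraicClosure k) (eval a (pderiv i F))) * X i)
    (hT : ¬ ∃ L₁ L₂ L₃ : MvPolynomial (Fin 4) (AlgebraicClosure k), L₁.IsHomogeneous 1 ∧ L₂.IsHomogeneous 1 ∧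
      L₃.IsHomogeneous 1 ∧ MvPolynomial.map (algebraMap k (AlgebraicClosure k)) F - L₁ * L₂ * L₃ ∈ Ideal.span {ℓ}) :
    ∃ p : Fin 5 → (Fin 4 → k), p 0 = a ∧ (∀ j : Fin 5, eval (p j) F = 0) ∧
      ∀ j : Fin 5, LinearIndependent k (fun i : Fin 4 => p (j.succAbove i)) := by
  by_cases h : ∃ i, eval a (pderiv i F) ≠ 0
  · exact five_points_smooth F hF a ha hFa h ℓ hℓ hT
  · push Not at h
    refine five_points_singular F hF hirr hcone a ha hFa fun x => ?_
    have := pderiv_eq hF a x
    simp [h] at this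
    linear_combination (-2 : k) * this

end Groth.Agent.PfaffH28
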