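import Mathlib
import Groth.Agent.Lib.CubicH28.Basic
import Groth.Agent.Lib.PfaffH28.TPoint
import Groth.Agent.Lib.PfaffH28.RatPts
import Groth.Agent.Lib.PfaffH28.Five
import Groth.Agent.Lib.PfaffH28.NonT

/-!
Pfaffian representations over an extension of degree at most three: a rational line through no point where the
chart criterion fails.
-/

set_option autoImplicit false

open MvPolynomial

namespace Groth.Agent.PfaffH28

open CubicH28

universe u v w

variable {k : Type u} [Field k] [CharZero k]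

/-- The binary criterion in its elimination form. -/
theorem hcase_R {L : Type v} [Field L] (Q0 Q1 Q2 C0 C1 C2 C3 : L) (h0 : Q0 ≠ 0)
    (h : (Q0 = 0 ∧ Q1 = 0 ∧ Q2 = 0) ∨ ∃ α β : L, C0 = 3 * α * Q0 ∧ 3 * C1 = 3 * β * Q0 + 6 * α * Q1 ∧
      3 * C2 = 6 * β * Q1 + 3 * α * Q2 ∧ C3 = 3 * β * Q2) :
    3 * C2 * Q0 ^ 2 - 2 * Q1 * (3 * C1 * Q0 - 2 * C0 * Q1) - Q2 * C0 * Q0 = 0 ∧
      C3 * Q0 ^ 2 - Q2 * (3 * C1 * Q0 - 2 * C0 * Q1) = 0 := by
  rcases h with ⟨h, -⟩ | ⟨α, β, e0, e1, e2, e3⟩
  · exact absurd h h0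
  rw [e0, e3]
  constructor
  · linear_combination Q0 ^ 2 * e2 - 2 * Q1 * Q0 * e1
  · linear_combination -(Q2 * Q0) * e1

theorem R_hcase {L : Type v} [Field L] [CharZero L] (Q0 Q1 Q2 C0 C1 C2 C3 : L) (h0 : Q0 ≠ 0)
    (h1 : 3 * C2 * Q0 ^ 2 - 2 * Q1 * (3 * C1 * Q0 - 2 * C0 * Q1) - Q2 * C0 * Q0 = 0)
    (h2 : C3 * Q0 ^ 2 - Q2 * (3 * C1 * Q0 - 2 * C0 * Q1) = 0) :
    ∃ α β : L, C0 = 3 * α * Q0 ∧ 3 * C1 = 3 * β * Q0 + 6 * α * Q1 ∧
      3 * C2 = 6 * β * Q1 + 3 * α * Q2 ∧ C3 = 3 * β * Q2 := by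
  refine ⟨C0 / (3 * Q0), (3 * C1 * Q0 - 2 * C0 * Q1) / (3 * Q0 ^ 2), by field_simp, by field_simp; ring, ?_, ?_⟩
  · field_simp
    linear_combination 3 * h1
  · field_simp
    linear_combination h2

/-- The binary criterion gives three lines. -/
theorem isProd_of_hcase {L : Type v} [Field L] [CharZero L] [IsAlgClosed L] (F : MvPolynomial (Fin 4) L)
    (hF : F.IsHomogeneous 3) (a u w x₀ : Fin 4 → L) (B : Module.Basis (Fin 4) L (Fin 4 → L))
    (hB : ⇑B = ![a, u, w, x₀]) (h1 : T F a a a = 0) (h2 : T F a a u = 0) (h3 : T F a a w = 0) (h4 : T F a a x₀ ≠ 0)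
    (hcase : (T F a u u = 0 ∧ T F a u w = 0 ∧ T F a w w = 0) ∨ ∃ α β : L,
      T F u u u = 3 * α * T F a u u ∧ 3 * T F u u w = 3 * β * T F a u u + 6 * α * T F a u w ∧
      3 * T F u w w = 6 * β * T F a u w + 3 * α * T F a w w ∧ T F w w w = 3 * β * T F a w w) :
    IsProd F a := by
  have hz : ∀ z, T F a a z = 0 → z = B.repr z 0 • a + B.repr z 1 • u + B.repr z 2 • w := fun z hz => by
    have hs := (B.sum_repr z).symm
    rw [Fin.sum_univ_four, hB] at hs
    simp only [Matrix.cons_val_zero, Matrix.cons_val_one, Matrix.cons_val] at hs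
    generalize B.repr z = g at hs ⊢
    have e : g 3 = 0 := by
      rw [hs, T_add₃ hF, T_add₃ hF, T_add₃ hF, T_smul₃ hF, T_smul₃ hF, T_smul₃ hF, T_smul₃ hF, h1, h2, h3] at hz
      simpa [h4] using hz
    rw [hs, e, zero_smul, add_zero]
  rcases hcase with ⟨e1, e2, e3⟩ | ⟨α, β, e1, e2, e3, e4⟩
  · obtain ⟨l₁, l₂, A, B', C', hcub⟩ := binary_cubic (T F u u u / 6) (T F u u w / 2) (T F u w w / 2) (T F w w w / 6)
    obtain ⟨m₁, m₂, n₁, n₂, hquad⟩ := binary_quad A B' C'
    refine ⟨l₁ • B.coord 1 + l₂ • B.coord 2, m₁ • B.coord 1 + m₂ • B.coord 2, n₁ • B.coord 1 + n₂ • B.coord 2,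
      fun z hzz => ?_⟩
    have h6 := six_eval3 hF (B.repr z 0) (B.repr z 1) (B.repr z 2) a u w
    rw [← hz z hzz, h1, h2, h3, e1, e2, e3] at h6
    have h5 := hcub (B.repr z 1) (B.repr z 2)
    rw [hquad] at h5
    simp only [LinearMap.add_apply, LinearMap.smul_apply, Module.Basis.coord_apply, smul_eq_mul]
    linear_combination (1 / 6 : L) * h6 + h5
  · obtain ⟨m₁, m₂, n₁, n₂, hquad⟩ := binary_quad (T F a u u / 2) (T F a u w) (T F a w w / 2)
    refine ⟨B.coord 0 + α • B.coord 1 + β • B.coord 2, m₁ • B.coord 1 + m₂ • B.coord 2,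
      n₁ • B.coord 1 + n₂ • B.coord 2, fun z hzz => ?_⟩
    have h6 := six_eval3 hF (B.repr z 0) (B.repr z 1) (B.repr z 2) a u w
    rw [← hz z hzz, h1, h2, h3] at h6
    have h5 := hquad (B.repr z 1) (B.repr z 2)
    simp only [LinearMap.add_apply, LinearMap.smul_apply, Module.Basis.coord_apply, smul_eq_mul]
    linear_combination (1 / 6 : L) * h6 + (B.repr z 0 + α * B.repr z 1 + β * B.repr z 2) * h5
      + (B.repr z 1 ^ 3 / 6) * e1 + (B.repr z 1 ^ 2 * B.repr z 2 / 6) * e2
      + (B.repr z 1 * B.repr z 2 ^ 2 / 6) * e3 + (B.repr z 2 ^ 3 / 6) * e4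

section Chart

/-- The vectors spanning the tangent plane in a chart. -/
def chU {L : Type v} [CommRing L] (c : Fin 4 → L) (i j l : Fin 4) (ν : L) : Fin 4 → L :=
  fun n => c i * ((if n = j then 1 else 0) + ν * (if n = l then 1 else 0)) - (c j + ν * c l) * (if n = i then 1 else 0)

def chW {L : Type v} [CommRing L] (c : Fin 4 → L) (i l : Fin 4) : Fin 4 → L :=
  fun n => c i * (if n = l then 1 else 0) - c l * (if n = i then 1 else 0)

theorem chart_basis {L : Type v} [Field L] [CharZero L] (F : MvPolynomial (Fin 4) L) (hF : F.IsHomogeneous 3)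
    (a c : Fin 4 → L) (hc : ∀ n, c n = eval a (pderiv n F)) (hFa : eval a F = 0) (i j l m : Fin 4)
    (hp : i ≠ j ∧ i ≠ l ∧ i ≠ m ∧ j ≠ l ∧ j ≠ m ∧ l ≠ m) (hci : c i ≠ 0) (ham : a m ≠ 0) (ν : L) :
    ∃ B : Module.Basis (Fin 4) L (Fin 4 → L), ⇑B = ![a, chU c i j l ν, chW c i l, Pi.single i 1] ∧
      T F a a (chU c i j l ν) = 0 ∧ T F a a (chW c i l) = 0 ∧ T F a a (Pi.single i 1) ≠ 0 := by
  obtain ⟨hij, hil, him, hjl, hjm, hlm⟩ := hp
  have key : ∀ x, T F a a x = 2 * ∑ n, x n * c n := fun x => by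
    simp only [hc]; rw [pderiv_eq hF]; ring
  have hli : LinearIndependent L ![a, chU c i j l ν, chW c i l, Pi.single i 1] := by
    rw [Fintype.linearIndependent_iff]
    intro g hg
    have hm := congrFun hg m
    have hj := congrFun hg j
    have hl := congrFun hg l
    have hi := congrFun hg i
    simp [Fin.sum_univ_four, chU, chW, Pi.single_apply, hij, hil, him, hjl, hjm, hlm, hij.symm, hil.symm, him.symm,
      hjl.symm, hjm.symm, hlm.symm] at hm hj hl hi
    have g0 : g 0 = 0 := by simpa [ham] using hm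
    have g1 : g 1 = 0 := by rw [g0] at hj; simpa [hci] using hj
    have g2 : g 2 = 0 := by rw [g0, g1] at hl; simpa [hci] using hl
    have g3 : g 3 = 0 := by rw [g0, g1, g2] at hi; simpa using hi
    intro n; fin_cases n <;> assumption
  refine ⟨basisOfLinearIndependentOfCardEqFinrank hli (by simp), coe_basisOfLinearIndependentOfCardEqFinrank _ _,
    ?_, ?_, ?_⟩
  · rw [key]
    simp [chU, sub_mul, mul_assoc, add_mul, mul_add, Finset.sum_sub_distrib, Finset.sum_add_distrib, ite_mul]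
    ring
  · rw [key]
    simp [chW, sub_mul, mul_assoc, Finset.sum_sub_distrib, ite_mul]
    ring
  · rw [key]
    simpa [Pi.single_apply] using hci

/-- `T` of three polynomial vectors. -/
noncomputable def PT (F : MvPolynomial (Fin 4) k) (U V W : Fin 4 → MvPolynomial (Fin 4) k) : MvPolynomial (Fin 4) k :=
  aeval (U + V + W) F - aeval (U + V) F - aeval (U + W) F - aeval (V + W) F + aeval U F + aeval V F + aeval W F

theorem aeval_PT {L : Type v} [Field L] [Algebra k L] (F : MvPolynomial (Fin 4) k) (a : Fin 4 → L)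
    (U V W : Fin 4 → MvPolynomial (Fin 4) k) :
    aeval a (PT F U V W) = T (MvPolynomial.map (algebraMap k L) F) (fun n => aeval a (U n)) (fun n => aeval a (V n))
      (fun n => aeval a (W n)) := by
  have h : ∀ X : Fin 4 → MvPolynomial (Fin 4) k,
      aeval a (aeval X F) = eval (fun n => aeval a (X n)) (MvPolynomial.map (algebraMap k L) F) := fun X => by
    rw [← AlgHom.comp_apply, comp_aeval, eval_map, aeval_def]
  simp only [PT, T, map_sub, map_add, h, Pi.add_def]

/-- The chart polynomial. -/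
noncomputable def Phi (F : MvPolynomial (Fin 4) k) (i j l m : Fin 4) (ν : k) (b : Bool) : MvPolynomial (Fin 4) k :=
  let U := chU (fun n => pderiv n F) i j l (C ν)
  let W := chW (fun n => pderiv n F) i l
  pderiv i F * X m * PT F X U U *
    if b then
      3 * PT F U W W * PT F X U U ^ 2 - 2 * PT F X U W * (3 * PT F U U W * PT F X U U - 2 * PT F U U U * PT F X U W)
        - PT F X W W * PT F U U U * PT F X U U
    else
      PT F W W W * PT F X U U ^ 2 - PT F X W W * (3 * PT F U U W * PT F X U U - 2 * PT F U U U * PT F X U W)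

theorem aeval_chU {L : Type v} [Field L] [Algebra k L] (F : MvPolynomial (Fin 4) k) (a : Fin 4 → L) (i j l : Fin 4)
    (ν : k) : (fun n => aeval a (chU (fun n => pderiv n F) i j l (C ν) n)) =
      chU (fun n => eval a (pderiv n (MvPolynomial.map (algebraMap k L) F))) i j l (algebraMap k L ν) := by
  funext n
  simp only [chU, map_sub, map_mul, map_add, apply_ite (aeval a), map_one, map_zero, algHom_C, pderiv_map, eval_map]
  rfl

theorem aeval_chW {L : Type v} [Field L] [Algebra k L] (F : MvPolynomial (Fin 4) k) (a : Fin 4 → L) (i l : Fin 4) :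
    (fun n => aeval a (chW (fun n => pderiv n F) i l n)) =
      chW (fun n => eval a (pderiv n (MvPolynomial.map (algebraMap k L) F))) i l := by
  funext n
  simp only [chW, map_sub, map_mul, apply_ite (aeval a), map_one, map_zero, pderiv_map, eval_map]
  rfl

/-- A point where the chart polynomial does not vanish gives a Pfaffian representation. -/
theorem rep_of_point {L : Type v} [Field L] [Algebra k L] (F : MvPolynomial (Fin 4) k) (hF : F.IsHomogeneous 3)
    (i j l m : Fin 4) (hp : i ≠ j ∧ i ≠ l ∧ i ≠ m ∧ j ≠ l ∧ j ≠ m ∧ l ≠ m) (ν : k) (b : Bool) (a : Fin 4 → L)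
    (hFa : aeval a F = 0) (hΦ : aeval a (Phi F i j l m ν b) ≠ 0) :
    ∃ M : Matrix (Fin 6) (Fin 6) (MvPolynomial (Fin 4) L), (∀ i j, (M i j).IsHomogeneous 1) ∧ M.transpose = -M ∧
      (∀ i, M i i = 0) ∧ ∃ c : L, c ≠ 0 ∧ M.det = C c * (MvPolynomial.map (algebraMap k L) F) ^ 2 := by
  haveI : CharZero L := charZero_of_injective_algebraMap (algebraMap k L).injective
  have hG := hF.map (algebraMap k L)
  have hGa : eval a (MvPolynomial.map (algebraMap k L) F) = 0 := by rw [eval_map, ← aeval_def, hFa]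
  simp only [Phi, map_mul, aeval_X, mul_ne_zero_iff] at hΦ
  obtain ⟨⟨⟨hci, ham⟩, hQ0⟩, hR⟩ := hΦ
  have hci' : eval a (pderiv i (MvPolynomial.map (algebraMap k L) F)) ≠ 0 := by
    rw [pderiv_map, eval_map, ← aeval_def]; exact hci
  obtain ⟨B, hB, h2, h3, -⟩ := chart_basis _ hG a _ (fun _ => rfl) hGa i j l m hp hci' ham (algebraMap k L ν)
  obtain ⟨p, -, hp0, hpl⟩ := five_points_core _ hG a _ _ _ B hB hGa h2 h3 fun hcase => by
    simp only [aeval_PT, aeval_X, aeval_chU, aeval_chW] at hQ0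
    obtain ⟨r1, r2⟩ := hcase_R _ _ _ _ _ _ _ hQ0 hcase
    refine hR ?_
    cases b
    · simp only [Bool.false_eq_true, if_false, map_sub, map_mul, map_pow, map_ofNat, aeval_PT, aeval_X, aeval_chU,
        aeval_chW]
      exact r2
    · simp only [if_true, map_sub, map_mul, map_pow, map_ofNat, aeval_PT, aeval_X, aeval_chU, aeval_chW]
      exact r1
  exact exists_pfaffianRep _ hG p hp0 hpl

theorem exists_others : ∀ i m : Fin 4, i ≠ m →
    ∃ j l : Fin 4, i ≠ j ∧ i ≠ l ∧ i ≠ m ∧ j ≠ l ∧ j ≠ m ∧ l ≠ m := by decide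

theorem pderiv_indep_ext {K : Type v} [Field K] [Algebra k K] (F : MvPolynomial (Fin 4) k)
    (hcone : ¬ ∃ v : Fin 4 → k, v ≠ 0 ∧ ∑ i : Fin 4, v i • pderiv i F = 0) :
    ¬ ∃ v : Fin 4 → K, v ≠ 0 ∧ ∑ i : Fin 4, v i • pderiv i (MvPolynomial.map (algebraMap k K) F) = 0 := by
  rintro ⟨v, hv, h⟩
  obtain ⟨n, hn⟩ := Function.ne_iff.1 hv
  obtain ⟨π, hπ⟩ := Module.Projective.exists_dual_ne_zero k hn
  refine hcone ⟨fun i => π (v i), Function.ne_iff.2 ⟨n, hπ⟩, MvPolynomial.ext _ _ fun d => ?_⟩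
  have h0 := congrArg (fun P => π (coeff d P)) h
  simp only [pderiv_map, coeff_sum, coeff_smul, coeff_map, MvPolynomial.coeff_zero, map_zero, map_sum, smul_eq_mul] at h0
  rw [coeff_sum, MvPolynomial.coeff_zero, ← h0]
  refine Finset.sum_congr rfl fun i _ => ?_
  rw [coeff_smul, smul_eq_mul, mul_comm (v i), ← Algebra.smul_def, map_smul, smul_eq_mul, mul_comm]

/-- Some chart polynomial does not vanish on the surface. -/
theorem exists_chart {K : Type v} [Field K] [CharZero K] [IsAlgClosed K] [Algebra k K] (F : MvPolynomial (Fin 4) k)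
    (hF : F.IsHomogeneous 3) (hirr : Irreducible (MvPolynomial.map (algebraMap k K) F))
    (hcone : ¬ ∃ v : Fin 4 → k, v ≠ 0 ∧ ∑ i : Fin 4, v i • pderiv i F = 0) :
    ∃ i j l m : Fin 4, (i ≠ j ∧ i ≠ l ∧ i ≠ m ∧ j ≠ l ∧ j ≠ m ∧ l ≠ m) ∧ ∃ (ν : k) (b : Bool) (x : Fin 4 → K),
      aeval x F = 0 ∧ aeval x (Phi F i j l m ν b) ≠ 0 := by
  classical
  have hG := hF.map (algebraMap k K)
  obtain ⟨x, hx, hns, hnp⟩ := exists_nonprod _ hG hirr (pderiv_indep_ext F hcone)
  set G := MvPolynomial.map (algebraMap k K) F with hGdef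
  have hxxx : T G x x x = 0 := by rw [T_self hG, hx]; ring
  obtain ⟨i, hi⟩ : ∃ i, eval x (pderiv i G) ≠ 0 := by
    by_contra h
    push Not at h
    refine hns fun y => ?_
    have := pderiv_eq hG x y
    simp [h] at this
    linear_combination (-2 : K) * this
  obtain ⟨m, hm, hxm⟩ : ∃ m, i ≠ m ∧ x m ≠ 0 := by
    by_contra h
    push Not at h
    have e := pderiv_eq hG x x
    rw [hxxx, zero_div, Finset.sum_eq_single i (fun n _ hn => by rw [h n (Ne.symm hn), zero_mul]) (by simp),
      mul_eq_zero] at e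
    have hx0 : x = 0 := funext fun n => by
      by_cases hn : i = n
      · subst hn; exact e.resolve_right hi
      · exact h n hn
    exact hns fun y => by rw [hx0]; simpa using T_smul hG 0 x (0 : Fin 4 → K) y
  obtain ⟨j, l, hp⟩ := exists_others i m hm
  set c : Fin 4 → K := fun n => eval x (pderiv n G) with hc
  set u₀ := chU c i j l 0
  set w := chW c i l
  have hu : ∀ ν, chU c i j l ν = u₀ + ν • w := fun ν => by
    funext n; simp [u₀, w, chU, chW]; split_ifs <;> ring
  obtain ⟨ν, hν⟩ : ∃ ν : k, T G x (chU c i j l (algebraMap k K ν)) (chU c i j l (algebraMap k K ν)) ≠ 0 := by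
    by_contra h
    push Not at h
    have e0 := h 0; have e1 := h 1; have e2 := h (-1)
    simp only [hu, map_zero, map_one, map_neg, zero_smul, add_zero, one_smul, T_add₂ hG, T_add₃ hG, T_smul₂ hG,
      T_smul₃ hG, T_symm23 G x w u₀] at e0 e1 e2
    obtain ⟨B, hB, h2, h3, h4⟩ := chart_basis G hG x c (fun _ => rfl) hx i j l m hp hi hxm 0
    exact hnp (isProd_of_hcase G hG x u₀ w _ B hB hxxx h2 h3 h4 (Or.inl ⟨e0,
      by linear_combination (1 / 4 : K) * e1 - (1 / 4 : K) * e2,
      by linear_combination (1 / 2 : K) * e1 + (1 / 2 : K) * e2 - e0⟩))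
  obtain ⟨B, hB, h2, h3, h4⟩ := chart_basis G hG x c (fun _ => rfl) hx i j l m hp hi hxm (algebraMap k K ν)
  have hFx : aeval x F = 0 := by rw [aeval_def, ← eval_map]; exact hx
  refine ⟨i, j, l, m, hp, ν, ?_⟩
  by_contra hc'
  push Not at hc'
  have hval : ∀ b, aeval x (Phi F i j l m ν b) = c i * x m * T G x (chU c i j l (algebraMap k K ν)) (chU c i j l (algebraMap k K ν))
      * (if b then 3 * T G (chU c i j l (algebraMap k K ν)) w w * T G x (chU c i j l (algebraMap k K ν)) (chU c i j l (algebraMap k K ν)) ^ 2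
          - 2 * T G x (chU c i j l (algebraMap k K ν)) w * (3 * T G (chU c i j l (algebraMap k K ν)) (chU c i j l (algebraMap k K ν)) w
            * T G x (chU c i j l (algebraMap k K ν)) (chU c i j l (algebraMap k K ν))
            - 2 * T G (chU c i j l (algebraMap k K ν)) (chU c i j l (algebraMap k K ν)) (chU c i j l (algebraMap k K ν)) * T G x (chU c i j l (algebraMap k K ν)) w)
          - T G x w w * T G (chU c i j l (algebraMap k K ν)) (chU c i j l (algebraMap k K ν)) (chU c i j l (algebraMap k K ν))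
            * T G x (chU c i j l (algebraMap k K ν)) (chU c i j l (algebraMap k K ν))
        else T G w w w * T G x (chU c i j l (algebraMap k K ν)) (chU c i j l (algebraMap k K ν)) ^ 2
          - T G x w w * (3 * T G (chU c i j l (algebraMap k K ν)) (chU c i j l (algebraMap k K ν)) w
            * T G x (chU c i j l (algebraMap k K ν)) (chU c i j l (algebraMap k K ν))
            - 2 * T G (chU c i j l (algebraMap k K ν)) (chU c i j l (algebraMap k K ν)) (chU c i j l (algebraMap k K ν)) * T G x (chU c i j l (algebraMap k K ν)) w)) := by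
    intro b
    have ec : aeval x (pderiv i F) = c i := by
      simp only [hc, hGdef, pderiv_map, eval_map, ← aeval_def]
    simp only [Phi, map_mul, aeval_X, aeval_PT, aeval_chU, aeval_chW, ec, apply_ite (aeval x), map_sub, map_pow,
      map_ofNat]
    rfl
  have hne := mul_ne_zero (mul_ne_zero hi hxm) hν
  have r1 := hc' true x hFx
  have r2 := hc' false x hFx
  rw [hval] at r1 r2
  simp only [if_true, Bool.false_eq_true, if_false, mul_eq_zero, hne, false_or] at r1 r2
  exact hnp (isProd_of_hcase G hG x _ w _ B hB hxxx h2 h3 h4 (Or.inr (R_hcase _ _ _ _ _ _ _ hν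
    (by simpa [c, hi, hxm, hν] using r1) (by simpa [c, hi, hxm, hν] using r2))))

end Chart

section Line

theorem aeval_C_comp {σ : Type*} (q : Fin 4 → k) (P : MvPolynomial (Fin 4) k) :
    aeval (fun n => (C (q n) : MvPolynomial σ k)) P = C (eval q P) := by
  induction P using MvPolynomial.induction_on with
  | C a => simp
  | add P Q hP hQ => rw [map_add, hP, hQ, map_add, map_add]
  | mul_X P n hP => rw [map_mul, hP, aeval_X, map_mul, eval_X, map_mul]

theorem unit_of_map {K : Type v} [Field K] [Algebra k K] {P : MvPolynomial (Fin 4) k}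
    (hu : IsUnit (MvPolynomial.map (algebraMap k K) P)) : IsUnit P := by
  obtain ⟨r, hr, he⟩ := MvPolynomial.isUnit_iff_eq_C_of_isReduced.1 hu
  have h0 : P.coeff 0 ≠ 0 := fun h0 => hr.ne_zero (by
    have := congrArg (coeff 0) he
    rw [coeff_map, coeff_zero_C, h0, map_zero] at this
    exact this.symm)
  refine MvPolynomial.isUnit_iff_eq_C_of_isReduced.2 ⟨P.coeff 0, isUnit_iff_ne_zero.2 h0, MvPolynomial.ext _ _ fun d => ?_⟩
  by_cases hd : d = 0
  · subst hd; exact (coeff_zero_C _).symm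
  · rw [coeff_C, if_neg (Ne.symm hd)]
    have := congrArg (coeff d) he
    rw [coeff_map, coeff_C, if_neg (Ne.symm hd)] at this
    exact (map_eq_zero _).1 this

theorem line_poly (F : MvPolynomial (Fin 4) k) (hF : F.IsHomogeneous 3) {A : Type v} [CommRing A] [Algebra k A]
    (p q : Fin 4 → A) :
    (aeval (fun n => Polynomial.C (p n) + Polynomial.X * Polynomial.C (q n)) F).natDegree ≤ 3 ∧
      (aeval (fun n => Polynomial.C (p n) + Polynomial.X * Polynomial.C (q n)) F).coeff 3 = aeval q F := by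
  refine cubic_induction (P := fun G =>
    (aeval (fun n => Polynomial.C (p n) + Polynomial.X * Polynomial.C (q n)) G).natDegree ≤ 3 ∧
      (aeval (fun n => Polynomial.C (p n) + Polynomial.X * Polynomial.C (q n)) G).coeff 3 = aeval q G)
    (by simp) (fun f g hf hg => ⟨by rw [map_add]; exact (Polynomial.natDegree_add_le _ _).trans (max_le hf.1 hg.1),
      by rw [map_add, map_add, Polynomial.coeff_add, hf.2, hg.2]⟩)
    (fun r f hf => ⟨by rw [map_smul]; exact (Polynomial.natDegree_smul_le _ _).trans hf.1,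
      by rw [map_smul, map_smul, Polynomial.coeff_smul, hf.2]⟩) (fun a b c => ?_) hF
  have h1 : ∀ n, (Polynomial.C (p n) + Polynomial.X * Polynomial.C (q n)).natDegree ≤ 1 := fun n =>
    (Polynomial.natDegree_add_le _ _).trans (max_le (by simp)
      (Polynomial.natDegree_mul_le.trans (by simpa using Polynomial.natDegree_X_le)))
  have h1c : ∀ n, (Polynomial.C (p n) + Polynomial.X * Polynomial.C (q n)).coeff 1 = q n := fun n => by simp
  simp only [map_mul, aeval_X]
  refine ⟨Polynomial.natDegree_mul_le.trans (add_le_add (Polynomial.natDegree_mul_le.trans (add_le_add (h1 a) (h1 b))) (h1 c)), ?_⟩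
  rw [show (3 : ℕ) = 1 + 1 + 1 from rfl,
    Polynomial.coeff_mul_add_eq_of_natDegree_le (Polynomial.natDegree_mul_le.trans (add_le_add (h1 a) (h1 b))) (h1 c),
    Polynomial.coeff_mul_add_eq_of_natDegree_le (h1 a) (h1 b), h1c, h1c, h1c]

theorem good_line_aux {K : Type v} [Field K] [Algebra k K] (F : MvPolynomial (Fin 4) k) (hF : F.IsHomogeneous 3)
    (q : Fin 4 → k) (hq : eval q F ≠ 0) (G : MvPolynomial (Fin 4) k) (x : Fin 4 → K) (hx : aeval x F = 0)
    (hG : aeval x G ≠ 0) {D : Type u} [CommRing D] [IsDomain D] (mk : MvPolynomial (Fin 4) k →+* D) (hmF : mk F = 0)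
    (hker : ∀ P, mk P = 0 → F ∣ P)
    (hlift : ∀ (L : Type w) [Field L] [Algebra k L] (a : Fin 4 → L), aeval a F = 0 →
      ∃ θD : D →+* L, ∀ P, θD (mk P) = aeval a P) :
    ∃ p q : Fin 4 → k, aeval q F ≠ (0 : k) ∧ ∀ (L : Type w) [Field L] [Algebra k L] (t : L),
      aeval (fun n => algebraMap k L (p n) + t * algebraMap k L (q n)) F = 0 →
      aeval (fun n => algebraMap k L (p n) + t * algebraMap k L (q n)) G ≠ 0 := by
  classical
  let gen : Fin 4 → Polynomial D := fun n =>
    Polynomial.C (mk (X n)) - Polynomial.X * Polynomial.C (mk (C (q n)))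
  let ψ : MvPolynomial (Fin 4) k →+* Polynomial D := eval₂Hom (Polynomial.C.comp (mk.comp C)) gen
  letI : Algebra (MvPolynomial (Fin 4) k) (Polynomial D) := ψ.toAlgebra
  have hmap : ∀ r, algebraMap (MvPolynomial (Fin 4) k) (Polynomial D) r = ψ r := fun _ => rfl
  let lin : Fin 4 → Polynomial (MvPolynomial (Fin 4) k) := fun n =>
    Polynomial.C (X n) + Polynomial.X * Polynomial.C (C (q n))
  have hback : ∀ P : MvPolynomial (Fin 4) k,
      Polynomial.eval₂ ψ Polynomial.X (aeval lin P) = Polynomial.C (mk P) := by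
    intro P
    induction P using MvPolynomial.induction_on with
    | C a => rw [aeval_C, Polynomial.algebraMap_apply, algebraMap_eq, Polynomial.eval₂_C]; simp [ψ]
    | add P Q hP hQ => rw [map_add, Polynomial.eval₂_add, hP, hQ, map_add, map_add]
    | mul_X P n hP =>
      rw [map_mul, Polynomial.eval₂_mul, hP, aeval_X, map_mul, map_mul]
      congr 1
      simp [lin, ψ, gen]
  obtain ⟨hdeg, hco⟩ := line_poly F hF (X : Fin 4 → MvPolynomial (Fin 4) k) (fun n => C (q n))
  have hco' : (aeval lin F).coeff 3 = C (eval q F) := by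
    rw [show (aeval lin F).coeff 3 = _ from hco, aeval_C_comp]
  let f := Polynomial.C (C (eval q F)⁻¹) * aeval lin F
  have hf : f.Monic := by
    refine Polynomial.monic_of_natDegree_le_of_coeff_eq_one 3 ((Polynomial.natDegree_C_mul_le _ _).trans hdeg) ?_
    rw [Polynomial.coeff_C_mul, hco', ← map_mul, inv_mul_cancel₀ hq, map_one]
  have hs : IsIntegral (MvPolynomial (Fin 4) k) (Polynomial.X : Polynomial D) := by
    refine ⟨f, hf, ?_⟩
    show Polynomial.eval₂ ψ Polynomial.X f = 0
    rw [Polynomial.eval₂_mul, hback, hmF,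
      map_zero, mul_zero]
  have hint : ∀ P : Polynomial (MvPolynomial (Fin 4) k),
      IsIntegral (MvPolynomial (Fin 4) k) (Polynomial.eval₂ ψ (Polynomial.X : Polynomial D) P) := by
    intro P
    induction P using Polynomial.induction_on' with
    | add P Q hP hQ => rw [Polynomial.eval₂_add]; exact hP.add hQ
    | monomial n r =>
      rw [Polynomial.eval₂_monomial]
      exact (isIntegral_algebraMap (x := r)).mul (hs.pow n)
  have he : IsIntegral (MvPolynomial (Fin 4) k) (Polynomial.C (mk G)) := hback G ▸ hint _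
  have hGF : mk G ≠ 0 := fun h => by
    obtain ⟨H, hH⟩ := hker _ h
    exact hG (by rw [hH, map_mul, hx, zero_mul])
  obtain ⟨M, hM, hMe⟩ := he
  obtain ⟨M', hM', hndvd⟩ := M.exists_eq_pow_rootMultiplicity_mul_and_not_dvd hM.ne_zero 0
  rw [map_zero, sub_zero] at hM' hndvd
  rw [Polynomial.X_dvd_iff] at hndvd
  rw [hM', Polynomial.eval₂_mul, Polynomial.eval₂_pow, Polynomial.eval₂_X] at hMe
  have hM'e : Polynomial.eval₂ (algebraMap (MvPolynomial (Fin 4) k) (Polynomial D)) (Polynomial.C (mk G)) M' = 0 :=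
    (mul_eq_zero.1 hMe).resolve_left (pow_ne_zero _ (Polynomial.C_ne_zero.2 hGF))
  obtain ⟨p, hp⟩ : ∃ p : Fin 4 → k, eval p (M'.coeff 0) ≠ 0 := by
    by_contra h
    push Not at h
    exact hndvd (MvPolynomial.funext fun v => by rw [h v, map_zero])
  refine ⟨p, q, by rwa [aeval_def, Algebra.algebraMap_self, eval₂_id], fun L _ _ t hFL hGL => hp ?_⟩
  set a : Fin 4 → L := fun n => algebraMap k L (p n) + t * algebraMap k L (q n) with ha
  obtain ⟨θD, hθD⟩ := hlift L a hFL
  let θ : Polynomial D →+* L := Polynomial.eval₂RingHom θD t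
  have hθψ : θ.comp ψ = (algebraMap k L).comp (eval p) := by
    refine MvPolynomial.ringHom_ext (fun r => ?_) (fun n => ?_)
    · simp [θ, ψ, hθD]
    · simp [θ, ψ, gen, hθD, ha]; ring
  have h := congrArg θ hM'e
  rw [Polynomial.hom_eval₂, map_zero] at h
  change Polynomial.eval₂ (θ.comp ψ) (θ (Polynomial.C (mk G))) M' = 0 at h
  rw [hθψ, show θ (Polynomial.C (mk G)) = aeval a G by simp [θ, hθD], hGL, Polynomial.eval₂_at_zero] at h
  exact (map_eq_zero (algebraMap k L)).1 h


/-- A rational line all of whose intersections with the surface avoid a given hypersurface. -/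
theorem exists_good_line {K : Type v} [Field K] [Algebra k K] (F : MvPolynomial (Fin 4) k) (hF : F.IsHomogeneous 3)
    (hirr : Irreducible (MvPolynomial.map (algebraMap k K) F)) (G : MvPolynomial (Fin 4) k) (x : Fin 4 → K)
    (hx : aeval x F = 0) (hG : aeval x G ≠ 0) :
    ∃ p q : Fin 4 → k, aeval q F ≠ (0 : k) ∧ ∀ (L : Type w) [Field L] [Algebra k L] (t : L),
      aeval (fun n => algebraMap k L (p n) + t * algebraMap k L (q n)) F = 0 →
      aeval (fun n => algebraMap k L (p n) + t * algebraMap k L (q n)) G ≠ 0 := by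
  classical
  have hF0 : F ≠ 0 := fun h => hirr.ne_zero (by rw [h, map_zero])
  obtain ⟨q, hq⟩ : ∃ q : Fin 4 → k, eval q F ≠ 0 := by
    by_contra h
    push Not at h
    exact hF0 (MvPolynomial.funext fun v => by rw [h v, map_zero])
  have hFirr : Irreducible F := by
    refine ⟨fun hu => hirr.not_isUnit (hu.map _), fun {a b} hab => ?_⟩
    rw [hab, map_mul] at hirr
    exact (hirr.isUnit_or_isUnit rfl).imp unit_of_map unit_of_map
  haveI hprime : (Ideal.span {F}).IsPrime := (Ideal.span_singleton_prime hF0).2 hFirr.prime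
  exact good_line_aux F hF q hq G x hx hG (Ideal.Quotient.mk (Ideal.span {F}))
    (Ideal.Quotient.eq_zero_iff_mem.2 (Ideal.mem_span_singleton_self F))
    (fun P h => Ideal.mem_span_singleton.1 (Ideal.Quotient.eq_zero_iff_mem.1 h))
    fun L _ _ a hFL => ⟨Ideal.Quotient.lift _ (aeval a).toRingHom fun P hP => by
      obtain ⟨H, rfl⟩ := Ideal.mem_span_singleton.1 hP
      show aeval a (F * H) = 0
      rw [map_mul, hFL, zero_mul], fun P => rfl⟩

end Line

/-- A Pfaffian representation over an intermediate field of degree at most three. -/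
theorem exists_rep_deg3 {L : Type v} [Field L] [Algebra k L]
    (hroot : ∀ f : Polynomial L, f.natDegree = 3 → ∃ t, f.IsRoot t) (F : MvPolynomial (Fin 4) k) (hF : F.IsHomogeneous 3)
    (i j l m : Fin 4) (hp : i ≠ j ∧ i ≠ l ∧ i ≠ m ∧ j ≠ l ∧ j ≠ m ∧ l ≠ m) (ν : k) (b : Bool) (p q : Fin 4 → k)
    (hq : aeval q F ≠ (0 : k))
    (hgood : ∀ t : L, aeval (fun n => algebraMap k L (p n) + t * algebraMap k L (q n)) F = 0 →
      aeval (fun n => algebraMap k L (p n) + t * algebraMap k L (q n)) (Phi F i j l m ν b) ≠ 0) :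
    ∃ E : IntermediateField k L, FiniteDimensional k ↥E ∧ Module.finrank k ↥E ≤ 3 ∧
      ∃ M : Matrix (Fin 6) (Fin 6) (MvPolynomial (Fin 4) ↥E), (∀ i j, (M i j).IsHomogeneous 1) ∧ M.transpose = -M ∧ (∀ i, M i i = 0) ∧
        ∃ c : ↥E, c ≠ 0 ∧ M.det = MvPolynomial.C c * (MvPolynomial.map (algebraMap k ↥E) F) ^ 2 := by
  obtain ⟨hdeg, hco⟩ := line_poly F hF p q
  set f : Polynomial k := aeval (fun n => Polynomial.C (p n) + Polynomial.X * Polynomial.C (q n)) F with hf
  have hf3 : f.natDegree = 3 := le_antisymm hdeg (Polynomial.le_natDegree_of_ne_zero (by rw [hco]; exact hq))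
  have hf0 : f ≠ 0 := fun h => by rw [h] at hf3; simp at hf3
  have hev : ∀ (E : Type v) [Field E] [Algebra k E] (t : E),
      Polynomial.aeval t f = aeval (fun n => algebraMap k E (p n) + t * algebraMap k E (q n)) F := by
    intro E _ _ t
    rw [hf, ← AlgHom.comp_apply, comp_aeval]
    congr 2
    funext n
    simp
    ring
  obtain ⟨t, ht⟩ := hroot (f.map (algebraMap k L)) (by rw [Polynomial.natDegree_map, hf3])
  have ht' : Polynomial.aeval t f = 0 := by
    rw [Polynomial.aeval_def, ← Polynomial.eval_map]; exact ht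
  have hint : IsIntegral k t := isAlgebraic_iff_isIntegral.1 ⟨f, hf0, ht'⟩
  refine ⟨IntermediateField.adjoin k {t}, IntermediateField.adjoin.finiteDimensional hint, ?_, ?_⟩
  · rw [IntermediateField.adjoin.finrank hint, ← hf3]
    exact Polynomial.natDegree_le_of_dvd (minpoly.dvd k t ht') hf0
  let E := IntermediateField.adjoin k {t}
  let tE : E := ⟨t, IntermediateField.mem_adjoin_simple_self k t⟩
  let a : Fin 4 → E := fun n => algebraMap k E (p n) + tE * algebraMap k E (q n)
  have hcomp : ∀ P : MvPolynomial (Fin 4) k,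
      E.val (aeval a P) = aeval (fun n => algebraMap k L (p n) + t * algebraMap k L (q n)) P := fun P => by
    rw [← AlgHom.comp_apply, comp_aeval]
    congr 2
  have hFt : aeval (fun n => algebraMap k L (p n) + t * algebraMap k L (q n)) F = 0 := by
    rw [← hev]; exact ht'
  refine rep_of_point F hF i j l m hp ν b a ?_ fun h => hgood t hFt ?_
  · apply E.val.injective
    show E.val (aeval a F) = E.val 0
    rw [hcomp, hFt, map_zero]
  · rw [← hcomp, h, map_zero]

theorem real_root_cubic (f : Polynomial ℝ) (hf : f.natDegree = 3) : ∃ t, f.IsRoot t := by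
  obtain ⟨c, hc, g, hg, hm, rfl⟩ : ∃ c : ℝ, c ≠ 0 ∧ ∃ g : Polynomial ℝ, g.natDegree = 3 ∧ g.Monic ∧ f = Polynomial.C c * g := by
    have h0 : f ≠ 0 := fun h => by rw [h] at hf; simp at hf
    refine ⟨f.leadingCoeff, Polynomial.leadingCoeff_ne_zero.2 h0, Polynomial.C f.leadingCoeff⁻¹ * f, ?_, ?_, ?_⟩
    · rw [Polynomial.natDegree_C_mul (inv_ne_zero (Polynomial.leadingCoeff_ne_zero.2 h0)), hf]
    · rw [mul_comm]; exact Polynomial.monic_mul_leadingCoeff_inv h0
    · rw [← mul_assoc, ← map_mul, mul_inv_cancel₀ (Polynomial.leadingCoeff_ne_zero.2 h0), map_one, one_mul]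
  have he : ∀ x, g.eval x = x ^ 3 + g.coeff 2 * x ^ 2 + g.coeff 1 * x + g.coeff 0 := fun x => by
    rw [Polynomial.eval_eq_sum_range, hg]
    simp [Finset.sum_range_succ]
    rw [show g.coeff 3 = 1 by rw [← hg]; exact hm]
    ring
  set M := 1 + |g.coeff 2| + |g.coeff 1| + |g.coeff 0| with hMd
  have hM1 : 1 ≤ M := by
    have := abs_nonneg (g.coeff 2); have := abs_nonneg (g.coeff 1); have := abs_nonneg (g.coeff 0); linarith
  have b2 : |g.coeff 2| * M ^ 2 + |g.coeff 1| * M + |g.coeff 0| ≤ (M - 1) * M ^ 2 := by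
    have e1 : |g.coeff 1| * M ≤ |g.coeff 1| * M ^ 2 := mul_le_mul_of_nonneg_left (by nlinarith) (abs_nonneg _)
    have e0 : |g.coeff 0| * 1 ≤ |g.coeff 0| * M ^ 2 := mul_le_mul_of_nonneg_left (by nlinarith) (abs_nonneg _)
    rw [hMd] at *
    nlinarith
  have hhi : 0 ≤ g.eval M := by
    rw [he]; nlinarith [neg_abs_le (g.coeff 2), neg_abs_le (g.coeff 1), neg_abs_le (g.coeff 0), sq_nonneg M]
  have hlo : g.eval (-M) ≤ 0 := by
    rw [he]; nlinarith [le_abs_self (g.coeff 2), neg_abs_le (g.coeff 1), le_abs_self (g.coeff 0), sq_nonneg M]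
  obtain ⟨t, -, ht⟩ := intermediate_value_Icc (by linarith : -M ≤ M) g.continuous.continuousOn ⟨hlo, hhi⟩
  exact ⟨t, by simp [Polynomial.IsRoot, ht]⟩

end Groth.Agent.PfaffH28
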