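import Mathlib
import Groth.Agent.Lib.CubicH28.Basic
import Groth.Agent.Lib.PfaffH28.TPoint
import Groth.Agent.Lib.PfaffH28.NonT
import Groth.Agent.Lib.PfaffH28.Deg3

/-!
Lines through a singular point, the polar section in a tangent plane, and reducedness of plane sections.
-/

set_option autoImplicit false

open MvPolynomial

namespace Groth.Agent.PfaffH28

open CubicH28

universe u

variable {K : Type u} [Field K] [CharZero K]

/-- A polynomial curve of degree `d` gives a polynomial of degree `3d`. -/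
theorem curve_poly (F : MvPolynomial (Fin 4) K) (hF : F.IsHomogeneous 3) (d : ℕ) (Pv : Fin 4 → Polynomial K)
    (hP : ∀ i, (Pv i).natDegree ≤ d) :
    (aeval Pv F).natDegree ≤ d + d + d ∧ (aeval Pv F).coeff (d + d + d) = eval (fun i => (Pv i).coeff d) F := by
  refine cubic_induction (P := fun G =>
    (aeval Pv G).natDegree ≤ d + d + d ∧ (aeval Pv G).coeff (d + d + d) = eval (fun i => (Pv i).coeff d) G)
    (by simp) (fun f g hf hg => ⟨by rw [map_add]; exact (Polynomial.natDegree_add_le _ _).trans (max_le hf.1 hg.1),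
      by rw [map_add, map_add, Polynomial.coeff_add, hf.2, hg.2]⟩)
    (fun r f hf => ⟨by rw [map_smul]; exact (Polynomial.natDegree_smul_le _ _).trans hf.1,
      by rw [map_smul, smul_eval, Polynomial.coeff_smul, hf.2, smul_eq_mul]⟩) (fun a b c => ?_) hF
  simp only [map_mul, aeval_X, eval_X]
  refine ⟨Polynomial.natDegree_mul_le.trans (add_le_add (Polynomial.natDegree_mul_le.trans (add_le_add (hP a) (hP b))) (hP c)), ?_⟩
  rw [Polynomial.coeff_mul_add_eq_of_natDegree_le (Polynomial.natDegree_mul_le.trans (add_le_add (hP a) (hP b))) (hP c),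
    Polynomial.coeff_mul_add_eq_of_natDegree_le (hP a) (hP b)]

/-- Roots of the polynomial together with the point at infinity. -/
theorem count_lines {α : Type*} (g : Polynomial K) (hg : g ≠ 0) (n : ℕ) (hn : g.natDegree ≤ n) (φ : K → α) (inf : α)
    (S : Set α) (hS : ∀ U ∈ S, (∃ t, g.eval t = 0 ∧ φ t = U) ∨ (g.coeff n = 0 ∧ inf = U)) : S.encard ≤ n := by
  classical
  have hr : g.roots.toFinset.card ≤ g.natDegree := (Multiset.toFinset_card_le _).trans (Polynomial.card_roots' g)
  let A : Finset α := g.roots.toFinset.image φ ∪ if g.coeff n = 0 then {inf} else ∅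
  have hsub : S ⊆ (A : Set α) := fun U hU => by
    rcases hS U hU with ⟨t, ht, rfl⟩ | ⟨h0, rfl⟩
    · exact Finset.mem_coe.2 (Finset.mem_union_left _ (Finset.mem_image_of_mem _ (by
        rw [Multiset.mem_toFinset, Polynomial.mem_roots hg]; exact ht)))
    · exact Finset.mem_coe.2 (Finset.mem_union_right _ (by rw [if_pos h0]; exact Finset.mem_singleton_self _))
  refine (Set.encard_le_encard hsub).trans ?_
  rw [Set.encard_coe_eq_coe_finsetCard, Nat.cast_le]
  by_cases h0 : g.coeff n = 0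
  · have hlt : g.natDegree < n := lt_of_le_of_ne hn fun h => by
      rw [← h, ← Polynomial.leadingCoeff] at h0; exact hg (Polynomial.leadingCoeff_eq_zero.1 h0)
    refine (Finset.card_union_le _ _).trans ?_
    rw [if_pos h0, Finset.card_singleton]
    have := Finset.card_image_le (s := g.roots.toFinset) (f := φ)
    omega
  · refine (Finset.card_union_le _ _).trans ?_
    rw [if_neg h0, Finset.card_empty]
    have := Finset.card_image_le (s := g.roots.toFinset) (f := φ)
    omega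

variable [IsAlgClosed K] (F : MvPolynomial (Fin 4) K) (hF : F.IsHomogeneous 3)
include hF

theorem eval_smul_cubic (c : K) (x : Fin 4 → K) : eval (c • x) F = c ^ 3 * eval x F := by
  have h := T_self hF (c • x)
  rw [T_smul hF, T_smul₂ hF, T_smul₃ hF, T_self hF] at h
  linear_combination (-1 / 6 : K) * h

theorem param_bound (d : ℕ) (Pv : Fin 4 → Polynomial K) (hP : ∀ i, (Pv i).natDegree ≤ d) (hne : aeval Pv F ≠ 0)
    (a : Fin 4 → K) (S : Set (Submodule K (Fin 4 → K)))
    (hS : ∀ U ∈ S, ∃ x, eval x F = 0 ∧ (∀ c : K, c ≠ 0 → Submodule.span K (Set.range ![a, c • x]) = U) ∧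
      ((∃ t l : K, l ≠ 0 ∧ (fun i => (Pv i).eval t) = l • x) ∨ ∃ l : K, l ≠ 0 ∧ (fun i => (Pv i).coeff d) = l • x)) :
    S.encard ≤ (d + d + d : ℕ) := by
  obtain ⟨hn, hc⟩ := curve_poly F hF d Pv hP
  refine count_lines (aeval Pv F) hne _ hn (fun t => Submodule.span K (Set.range ![a, fun i => (Pv i).eval t]))
    (Submodule.span K (Set.range ![a, fun i => (Pv i).coeff d])) S fun U hU => ?_
  obtain ⟨x, hx, hline, ⟨t, l, hl, hrt⟩ | ⟨l, hl, hrt⟩⟩ := hS U hU
  · refine Or.inl ⟨t, ?_, ?_⟩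
    · rw [eval_aeval_poly, hrt, eval_smul_cubic F hF, hx, mul_zero]
    · show Submodule.span K (Set.range ![a, fun i => (Pv i).eval t]) = U
      rw [hrt]; exact hline l hl
  · refine Or.inr ⟨?_, ?_⟩
    · rw [hc, hrt, eval_smul_cubic F hF, hx, mul_zero]
    · rw [hrt]; exact hline l hl

theorem line_bound (hirr : Irreducible F) (a w₀ w₁ : Fin 4 → K) (hs : Sg F a) (hli : LinearIndependent K ![a, w₀, w₁])
    (q0 : T F a w₀ w₀ = 0) (q1 : T F a w₁ w₁ = 0) (q2 : T F a w₀ w₁ = 0) (S : Set (Submodule K (Fin 4 → K)))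
    (hS : ∀ U ∈ S, ∃ u v : K, (u ≠ 0 ∨ v ≠ 0) ∧ eval (u • w₀ + v • w₁) F = 0 ∧
      ∀ c : K, c ≠ 0 → Submodule.span K (Set.range ![a, c • (u • w₀ + v • w₁)]) = U) : S.encard ≤ 3 := by
  let Pv : Fin 4 → Polynomial K := fun i => Polynomial.C (w₀ i) + Polynomial.C (w₁ i) * Polynomial.X
  have hdeg : ∀ i, (Pv i).natDegree ≤ 1 := fun i => (Polynomial.natDegree_add_le _ _).trans
    (max_le (by simp) ((Polynomial.natDegree_C_mul_le _ _).trans Polynomial.natDegree_X_le))
  have hev : ∀ t, (fun i => (Pv i).eval t) = w₀ + t • w₁ := fun t => by funext i; simp [Pv]; ring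
  refine param_bound F hF 1 Pv hdeg (fun h0 => ?_) a S fun U hU => ?_
  · obtain ⟨e1, e2, e3, e4⟩ := line_cond hF w₁ w₀ fun t => by
      rw [← hev, ← eval_aeval_poly, h0, Polynomial.eval_zero]
    exact no_plane F hF hirr a w₀ w₁ hli (hs a) (hs w₀) (hs w₁) q0 q2 q1
      (by rw [T_self hF, e1]; ring) e2 e3 (by rw [T_self hF, e4]; ring)
  · obtain ⟨u, v, huv, hFz, hline⟩ := hS U hU
    refine ⟨_, hFz, hline, ?_⟩
    by_cases hu : u = 0
    · right
      have hv : v ≠ 0 := huv.resolve_left (not_not.2 hu)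
      refine ⟨v⁻¹, inv_ne_zero hv, ?_⟩
      rw [hu, zero_smul, zero_add, inv_smul_smul₀ hv]
      funext i; simp [Pv]
    · left
      refine ⟨v / u, u⁻¹, inv_ne_zero hu, ?_⟩
      rw [hev, smul_add, inv_smul_smul₀ hu, smul_smul, div_eq_inv_mul]

set_option maxHeartbeats 1000000 in
theorem lines_through_sing (hirr : Irreducible F)
    (hcone : ¬ ∃ v : Fin 4 → K, v ≠ 0 ∧ ∑ i : Fin 4, v i • MvPolynomial.pderiv i F = 0)
    (a : Fin 4 → K) (ha : a ≠ 0) (hs : Sg F a) :
    {U : Submodule K (Fin 4 → K) | a ∈ U ∧ Module.finrank K ↥U = 2 ∧ ∀ u ∈ U, eval u F = 0}.encard ≤ 6 := by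
  classical
  have hQ0 : Qv F a ≠ 0 := Qv_ne_zero F hF hcone ha
  have haaa : T F a a a = 0 := hs a
  have l1 : LinearIndependent K ![a] := LinearIndependent.of_subsingleton (i := 0) (by simpa using ha)
  obtain ⟨e, -, ne⟩ := exists_not_mem_span ![a] ⊤ (by simp)
  have l2 := linearIndependent_finSnoc.2 ⟨l1, ne⟩
  rw [show (Fin.snoc ![a] e : Fin 2 → Fin 4 → K) = ![a, e] by funext i; fin_cases i <;> rfl] at l2
  obtain ⟨f, -, nf⟩ := exists_not_mem_span ![a, e] ⊤ (by simp)
  -- a zero of the conic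
  obtain ⟨p, hpa, hpq⟩ : ∃ p, p ∉ Submodule.span K (Set.range ![a]) ∧ T F a p p = 0 := by
    obtain ⟨l₁, l₂, m₁, m₂, hq⟩ := binary_quad (T F a e e) (2 * T F a e f) (T F a f f)
    obtain ⟨X, Y, hXY, hroot⟩ : ∃ X Y : K, (X ≠ 0 ∨ Y ≠ 0) ∧
        T F a e e * X ^ 2 + 2 * T F a e f * (X * Y) + T F a f f * Y ^ 2 = 0 := by
      by_cases hm : m₁ = 0 ∧ m₂ = 0
      · exact ⟨1, 0, Or.inl one_ne_zero, by rw [hq, hm.1, hm.2]; ring⟩
      · refine ⟨m₂, -m₁, ?_, by rw [hq]; ring⟩
        by_contra hh; push Not at hh; exact hm ⟨neg_eq_zero.1 hh.2, hh.1⟩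
    refine ⟨X • e + Y • f, fun h => ?_, ?_⟩
    · obtain ⟨g, hg⟩ := (Submodule.mem_span_range_iff_exists_fun K).1 h
      simp at hg
      have l3 := linearIndependent_finSnoc.2 ⟨l2, nf⟩
      have := Fintype.linearIndependent_iff.1 l3 ![-g 0, X, Y] (by
        simp [Fin.sum_univ_three, Fin.snoc]
        linear_combination (norm := module) -hg)
      rcases hXY with h' | h'
      exacts [h' (this 1), h' (this 2)]
    · simp only [T_add₂ hF, T_smul₂ hF, T_add₃ hF, T_smul₃ hF, T_symm23 F a f e]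
      linear_combination hroot
  have m1 := linearIndependent_finSnoc.2 ⟨l1, hpa⟩
  rw [show (Fin.snoc ![a] p : Fin 2 → Fin 4 → K) = ![a, p] by funext i; fin_cases i <;> rfl] at m1
  obtain ⟨g₀, -, ng₀⟩ := exists_not_mem_span ![a, p] ⊤ (by simp)
  have m2 := linearIndependent_finSnoc.2 ⟨m1, ng₀⟩
  rw [show (Fin.snoc ![a, p] g₀ : Fin 3 → Fin 4 → K) = ![a, p, g₀] by funext i; fin_cases i <;> rfl] at m2
  obtain ⟨g₁, -, ng₁⟩ := exists_not_mem_span ![a, p, g₀] ⊤ (by simp)
  have m3 := linearIndependent_finSnoc.2 ⟨m2, ng₁⟩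
  rw [show (Fin.snoc ![a, p, g₀] g₁ : Fin 4 → Fin 4 → K) = ![a, p, g₀, g₁] by funext i; fin_cases i <;> rfl] at m3
  let B := basisOfLinearIndependentOfCardEqFinrank m3 (by simp)
  have hB : ⇑B = ![a, p, g₀, g₁] := coe_basisOfLinearIndependentOfCardEqFinrank _ _
  -- coordinates on the plane opposite to a
  let l₀ := 2 * T F a p g₀
  let l₁ := 2 * T F a p g₁
  let qA := T F a g₀ g₀
  let qB := 2 * T F a g₀ g₁
  let qC := T F a g₁ g₁
  have hq : ∀ α X Y : K, T F a (α • p + X • g₀ + Y • g₁) (α • p + X • g₀ + Y • g₁) =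
      α * (l₀ * X + l₁ * Y) + (qA * X ^ 2 + qB * (X * Y) + qC * Y ^ 2) := fun α X Y => by
    simp only [T_add₂ hF, T_smul₂ hF, T_add₃ hF, T_smul₃ hF, T_symm23 F a g₀ p, T_symm23 F a g₁ p,
      T_symm23 F a g₁ g₀, hpq, l₀, l₁, qA, qB, qC]
    ring
  have hdec : ∀ z, ∃ s α X Y : K, z = s • a + (α • p + X • g₀ + Y • g₁) := fun z => by
    have hz := (B.sum_repr z).symm
    rw [Fin.sum_univ_four, hB] at hz
    simp only [Matrix.cons_val_zero, Matrix.cons_val_one, Matrix.cons_val] at hz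
    exact ⟨_, _, _, _, hz.trans (by abel)⟩
  have hQval : ∀ s α X Y : K, 2 * eval (s • a + (α • p + X • g₀ + Y • g₁)) (Qv F a) =
      α * (l₀ * X + l₁ * Y) + (qA * X ^ 2 + qB * (X * Y) + qC * Y ^ 2) := fun s α X Y => by
    rw [← hq, eval_Qv F hF]
    generalize α • p + X • g₀ + Y • g₁ = x
    simp only [T_add hF, T_add₂ hF, T_smul hF, T_smul₂ hF]
    rw [haaa, T_symm23 F a x a, hs x, T_symm12 F x a a, T_symm23 F a x a, hs x, T_symm23 F x x a, T_symm12 F x a x]
    ring
  have hnz : ¬ (l₀ = 0 ∧ l₁ = 0 ∧ qA = 0 ∧ qB = 0 ∧ qC = 0) := fun ⟨h1, h2, h3, h4, h5⟩ => by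
    refine hQ0 (MvPolynomial.funext fun z => ?_)
    obtain ⟨s, α, X, Y, rfl⟩ := hdec z
    have := hQval s α X Y
    rw [h1, h2, h3, h4, h5] at this
    rw [map_zero (eval _)]
    linear_combination (1 / 2 : K) * this
  have hkey : ∀ U : Submodule K (Fin 4 → K), a ∈ U → Module.finrank K U = 2 → (∀ u ∈ U, eval u F = 0) →
      ∃ α X Y : K, (α ≠ 0 ∨ X ≠ 0 ∨ Y ≠ 0) ∧ eval (α • p + X • g₀ + Y • g₁) F = 0 ∧
        T F a (α • p + X • g₀ + Y • g₁) (α • p + X • g₀ + Y • g₁) = 0 ∧
        ∀ c : K, c ≠ 0 → Submodule.span K (Set.range ![a, c • (α • p + X • g₀ + Y • g₁)]) = U := by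
    intro U hU hU2 hUF
    obtain ⟨z, hzU, hz⟩ := exists_not_mem_span ![a] U (by omega)
    obtain ⟨s, α, X, Y, rfl⟩ := hdec z
    set x := α • p + X • g₀ + Y • g₁ with hxd
    have hxU : x ∈ U := by simpa using sub_mem hzU (U.smul_mem s hU)
    have hxa : x ∉ Submodule.span K (Set.range ![a]) := fun h =>
      hz (add_mem (Submodule.smul_mem _ _ (Submodule.subset_span ⟨0, rfl⟩)) h)
    obtain ⟨h1, h2, h3, -⟩ := line_cond hF x a fun t => by
      exact hUF _ (add_mem hU (U.smul_mem t hxU))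
    refine ⟨α, X, Y, ?_, ?_, h3, fun c hc => ?_⟩
    · by_contra hh; push Not at hh
      refine hxa ?_
      rw [hxd, hh.1, hh.2.1, hh.2.2]
      simp
    · exact hUF x hxU
    refine Submodule.eq_of_le_of_finrank_le (Submodule.span_le.2 (by
      rintro y ⟨i, rfl⟩; fin_cases i
      exacts [hU, U.smul_mem c hxU])) ?_
    have hli : LinearIndependent K ![a, c • x] := by
      rw [show (![a, c • x] : Fin 2 → Fin 4 → K) = Fin.snoc ![a] (c • x) by funext i; fin_cases i <;> rfl]
      refine linearIndependent_finSnoc.2 ⟨l1, fun h => hxa ?_⟩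
      rw [← inv_smul_smul₀ hc x]
      exact Submodule.smul_mem _ _ h
    rw [hU2, finrank_span_eq_card hli, Fintype.card_fin]
  -- the cubic does not vanish on the conic
  have hnot : (∀ α X Y : K, T F a (α • p + X • g₀ + Y • g₁) (α • p + X • g₀ + Y • g₁) = 0 →
      eval (α • p + X • g₀ + Y • g₁) F = 0) → False := fun h => by
    obtain ⟨P, hP, hPQ⟩ := WfDvdMonoid.exists_irreducible_factor (α := MvPolynomial (Fin 4) K) (fun hu => by
      have h0 := hu.map constantCoeff
      rw [constantCoeff_eq, (Qv_hom F hF a).coeff_eq_zero (by simp)] at h0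
      exact not_isUnit_zero h0) hQ0
    have hp : (Ideal.span {P}).IsPrime := (Ideal.span_singleton_prime hP.ne_zero).2 hP.prime
    have h1 : F ∈ vanishingIdeal K (zeroLocus K (Ideal.span {P})) := by
      intro z hz
      rw [mem_zeroLocus_iff] at hz
      have hzP := hz P (Ideal.mem_span_singleton_self P)
      rw [aeval_def, Algebra.algebraMap_self, eval₂_id] at hzP ⊢
      obtain ⟨H, hH⟩ := hPQ
      have hzQ : eval z (Qv F a) = 0 := by rw [hH, map_mul, hzP, zero_mul]
      obtain ⟨s, α, X, Y, rfl⟩ := hdec z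
      have hq0 : T F a (α • p + X • g₀ + Y • g₁) (α • p + X • g₀ + Y • g₁) = 0 := by
        rw [hq, ← hQval s, hzQ, mul_zero]
      have h0 := h α X Y hq0
      generalize α • p + X • g₀ + Y • g₁ = x at hq0 h0
      have h6 := six_eval2 hF s 1 a x
      rw [haaa, hs x, hq0, T_self hF x, h0, one_smul] at h6
      linear_combination (1 / 6 : K) * h6
    rw [vanishingIdeal_zeroLocus_eq_radical, hp.radical, Ideal.mem_span_singleton] at h1
    exact not_dvd_of_deg F hF hirr _ hQ0 (Qv_hom F hF a) (((hP.associated_of_dvd hirr h1).symm.dvd).trans hPQ)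
  by_cases hsplit : ∃ L M : (Fin 4 → K) →ₗ[K] K, ∀ α X Y : K, α * (l₀ * X + l₁ * Y) + (qA * X ^ 2 + qB * (X * Y) + qC * Y ^ 2) =
      L (α • p + X • g₀ + Y • g₁) * M (α • p + X • g₀ + Y • g₁)
  · obtain ⟨L, M, hLM⟩ := hsplit
    have hone : ∀ L : (Fin 4 → K) →ₗ[K] K, (∃ α X Y : K, L (α • p + X • g₀ + Y • g₁) ≠ 0) →
        (∀ α X Y : K, L (α • p + X • g₀ + Y • g₁) = 0 → T F a (α • p + X • g₀ + Y • g₁) (α • p + X • g₀ + Y • g₁) = 0) →
        {U : Submodule K (Fin 4 → K) | ∃ α X Y : K, (α ≠ 0 ∨ X ≠ 0 ∨ Y ≠ 0) ∧ L (α • p + X • g₀ + Y • g₁) = 0 ∧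
          eval (α • p + X • g₀ + Y • g₁) F = 0 ∧
          ∀ c : K, c ≠ 0 → Submodule.span K (Set.range ![a, c • (α • p + X • g₀ + Y • g₁)]) = U}.encard ≤ 3 := by
      intro L hL hLq
      let W : Submodule K (Fin 4 → K) := Submodule.span K (Set.range ![p, g₀, g₁])
      have hW : ∀ α X Y : K, α • p + X • g₀ + Y • g₁ ∈ W := fun α X Y =>
        (Submodule.mem_span_range_iff_exists_fun K).2 ⟨![α, X, Y], by simp [Fin.sum_univ_three]⟩
      have hWc : ∀ z ∈ W, ∃ α X Y : K, z = α • p + X • g₀ + Y • g₁ := fun z hz => by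
        obtain ⟨g, hg⟩ := (Submodule.mem_span_range_iff_exists_fun K).1 hz
        exact ⟨g 0, g 1, g 2, by rw [← hg]; simp [Fin.sum_univ_three]⟩
      have lW : LinearIndependent K ![p, g₀, g₁] := by
        have := m3.comp ![1, 2, 3] (by decide)
        convert this using 1 <;> first | (funext i; fin_cases i <;> rfl) | rfl
      have hWf : Module.finrank K W = 3 := by rw [finrank_span_eq_card lW, Fintype.card_fin]
      obtain ⟨α₁, X₁, Y₁, hne₁⟩ := hL
      have hker : Module.finrank K (LinearMap.ker L) = 3 := by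
        have h1 := LinearMap.finrank_range_add_finrank_ker L
        have hne : L ≠ 0 := fun h => hne₁ (by simp [h])
        rw [LinearMap.range_eq_top.2 (LinearMap.surjective hne), finrank_top, Module.finrank_self, Module.finrank_pi,
          Fintype.card_fin] at h1
        omega
      have hlt : LinearMap.ker L ⊓ W < W := lt_of_le_of_ne inf_le_right fun h =>
        hne₁ ((h.symm ▸ hW α₁ X₁ Y₁ : α₁ • p + X₁ • g₀ + Y₁ • g₁ ∈ LinearMap.ker L ⊓ W).1)
      have hlt' := Submodule.finrank_lt_finrank_of_lt hlt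
      have hge : 2 ≤ Module.finrank K ↥(LinearMap.ker L ⊓ W) := by
        have h1 := Submodule.finrank_sup_add_finrank_inf_eq (LinearMap.ker L) W
        have h2 := (LinearMap.ker L ⊔ W).finrank_le
        rw [Module.finrank_pi, Fintype.card_fin] at h2
        omega
      obtain ⟨w₀, hw₀, nw₀⟩ := exists_not_mem_span (![] : Fin 0 → Fin 4 → K) (LinearMap.ker L ⊓ W) (by omega)
      obtain ⟨w₁, hw₁, nw₁⟩ := exists_not_mem_span ![w₀] (LinearMap.ker L ⊓ W) (by omega)
      have hw00 : w₀ ≠ 0 := fun h => nw₀ (h ▸ zero_mem _)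
      have k1 : LinearIndependent K ![w₀] := LinearIndependent.of_subsingleton (i := 0) (by simpa using hw00)
      have k2 := linearIndependent_finSnoc.2 ⟨k1, nw₁⟩
      rw [show (Fin.snoc ![w₀] w₁ : Fin 2 → Fin 4 → K) = ![w₀, w₁] by funext i; fin_cases i <;> rfl] at k2
      have hspan : Submodule.span K (Set.range ![w₀, w₁]) = LinearMap.ker L ⊓ W :=
        Submodule.eq_of_le_of_finrank_le (Submodule.span_le.2 (by
          rintro x ⟨i, rfl⟩; fin_cases i
          exacts [hw₀, hw₁])) (by rw [finrank_span_eq_card k2, Fintype.card_fin]; omega)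
      have haW : a ∉ W := fun h => by
        obtain ⟨α, X, Y, e⟩ := hWc a h
        have := Fintype.linearIndependent_iff.1 m3 ![-1, α, X, Y] (by
          simp [Fin.sum_univ_four]
          linear_combination (norm := module) -e)
        simpa using this 0
      have hli : LinearIndependent K ![a, w₀, w₁] := by
        rw [show (![a, w₀, w₁] : Fin 3 → Fin 4 → K) = Fin.cons a ![w₀, w₁] from rfl]
        refine linearIndependent_finCons.2 ⟨k2, fun h => haW ?_⟩
        rw [hspan] at h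
        exact h.2
      have hqw : ∀ u v : K, T F a (u • w₀ + v • w₁) (u • w₀ + v • w₁) = 0 := fun u v => by
        have hz : u • w₀ + v • w₁ ∈ LinearMap.ker L ⊓ W :=
          add_mem (Submodule.smul_mem _ _ hw₀) (Submodule.smul_mem _ _ hw₁)
        obtain ⟨α, X, Y, e⟩ := hWc _ hz.2
        rw [e]
        exact hLq α X Y (by rw [← e]; exact hz.1)
      have q0 := hqw 1 0
      have q1 := hqw 0 1
      have q2 := hqw 1 1
      simp only [one_smul, zero_smul, add_zero, zero_add] at q0 q1 q2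
      simp only [T_add₂ hF, T_add₃ hF, q0, q1, T_symm23 F a w₁ w₀] at q2
      refine line_bound F hF hirr a w₀ w₁ hs hli q0 q1 (by linear_combination (1 / 2 : K) * q2) _ fun U hU => ?_
      obtain ⟨α, X, Y, hne, hL0, hFz, hline⟩ := hU
      have hmem : α • p + X • g₀ + Y • g₁ ∈ Submodule.span K (Set.range ![w₀, w₁]) := by
        rw [hspan]; exact ⟨hL0, hW α X Y⟩
      obtain ⟨g, hg⟩ := (Submodule.mem_span_range_iff_exists_fun K).1 hmem
      simp [Fin.sum_univ_two] at hg
      refine ⟨g 0, g 1, ?_, by rw [hg]; exact hFz, by rw [hg]; exact hline⟩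
      by_contra hh
      push Not at hh
      rw [hh.1, hh.2, zero_smul, zero_smul, add_zero] at hg
      have := Fintype.linearIndependent_iff.1 lW ![α, X, Y] (by simpa [Fin.sum_univ_three] using hg.symm)
      rcases hne with h | h | h
      exacts [h (this 0), h (this 1), h (this 2)]
    have hL0 : ∃ α X Y : K, L (α • p + X • g₀ + Y • g₁) ≠ 0 ∧ M (α • p + X • g₀ + Y • g₁) ≠ 0 := by
      by_contra hh
      push Not at hh
      have h : ∀ α X Y : K, α * (l₀ * X + l₁ * Y) + (qA * X ^ 2 + qB * (X * Y) + qC * Y ^ 2) = 0 := fun α X Y => by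
        rw [hLM]
        by_cases h : L (α • p + X • g₀ + Y • g₁) = 0
        · rw [h, zero_mul]
        · rw [hh α X Y h, mul_zero]
      have a1 := h 0 1 0; have a2 := h 0 0 1; have a3 := h 0 1 1; have a4 := h 1 1 0; have a5 := h 1 0 1
      exact hnz ⟨by linear_combination a4 - a1, by linear_combination a5 - a2, by linear_combination a1,
        by linear_combination a3 - a1 - a2, by linear_combination a2⟩
    obtain ⟨α₀, X₀, Y₀, hL1, hM1⟩ := hL0
    have bL := hone L ⟨_, _, _, hL1⟩ (fun α X Y h => by rw [hq, hLM, h, zero_mul])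
    have bM := hone M ⟨_, _, _, hM1⟩ (fun α X Y h => by rw [hq, hLM, h, mul_zero])
    refine (Set.encard_le_encard (t := _ ∪ _) fun U hU => ?_).trans
      ((Set.encard_union_le _ _).trans ((add_le_add bL bM).trans (by norm_num)))
    obtain ⟨α, X, Y, hne, hFz, hqz, hline⟩ := hkey U hU.1 hU.2.1 hU.2.2
    rw [hq, hLM, mul_eq_zero] at hqz
    rcases hqz with h | h
    · exact Or.inl ⟨α, X, Y, hne, h, hFz, hline⟩
    · exact Or.inr ⟨α, X, Y, hne, h, hFz, hline⟩
  · -- a smooth conic, parametrised from p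
    have hl : l₀ ≠ 0 ∨ l₁ ≠ 0 := by
      by_contra hh; push Not at hh
      obtain ⟨u₁, u₂, v₁, v₂, hb⟩ := binary_quad qA qB qC
      refine hsplit ⟨u₁ • B.coord 2 + u₂ • B.coord 3, v₁ • B.coord 2 + v₂ • B.coord 3, fun α X Y => ?_⟩
      have hc : ∀ n, B.coord n (α • p + X • g₀ + Y • g₁) = ![0, α, X, Y] n := fun n => by
        have : α • p + X • g₀ + Y • g₁ = ∑ i, ![0, α, X, Y] i • B i := by simp [Fin.sum_univ_four, hB]
        rw [this, Module.Basis.coord_apply, B.repr_sum_self]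
      rw [hh.1, hh.2]
      simp only [LinearMap.add_apply, LinearMap.smul_apply, hc, smul_eq_mul]
      simp
      exact hb X Y
    have hstar : qA * l₁ ^ 2 - qB * (l₀ * l₁) + qC * l₀ ^ 2 ≠ 0 := fun h => by
      have hc : ∀ α X Y : K, ∀ n, B.coord n (α • p + X • g₀ + Y • g₁) = ![0, α, X, Y] n := fun α X Y n => by
        have : α • p + X • g₀ + Y • g₁ = ∑ i, ![0, α, X, Y] i • B i := by simp [Fin.sum_univ_four, hB]
        rw [this, Module.Basis.coord_apply, B.repr_sum_self]
      by_cases h1 : l₁ = 0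
      · have h0 : l₀ ≠ 0 := hl.resolve_right (not_not.2 h1)
        have hC : qC = 0 := by rw [h1] at h; simpa [h0] using h
        refine hsplit ⟨l₀ • B.coord 2, B.coord 1 + (qA / l₀) • B.coord 2 + (qB / l₀) • B.coord 3, fun α X Y => ?_⟩
        simp only [LinearMap.add_apply, LinearMap.smul_apply, hc, smul_eq_mul]
        simp
        rw [h1, hC]; field_simp; ring
      · refine hsplit ⟨l₀ • B.coord 2 + l₁ • B.coord 3,
          B.coord 1 + ((qB - l₀ * (qC / l₁)) / l₁) • B.coord 2 + (qC / l₁) • B.coord 3, fun α X Y => ?_⟩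
        simp only [LinearMap.add_apply, LinearMap.smul_apply, hc, smul_eq_mul]
        simp
        field_simp
        linear_combination X ^ 2 * h
    let qp : Polynomial K := Polynomial.C qA + Polynomial.C qB * Polynomial.X + Polynomial.C qC * Polynomial.X ^ 2
    let Lp : Polynomial K := Polynomial.C l₀ + Polynomial.C l₁ * Polynomial.X
    let Pv : Fin 4 → Polynomial K := fun i => -qp * Polynomial.C (p i) + Lp * (Polynomial.C (g₀ i) + Polynomial.C (g₁ i) * Polynomial.X)
    have hPv : ∀ i, Pv i = Polynomial.C (l₁ * g₁ i - qC * p i) * Polynomial.X ^ 2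
        + Polynomial.C (l₁ * g₀ i + l₀ * g₁ i - qB * p i) * Polynomial.X + Polynomial.C (l₀ * g₀ i - qA * p i) := fun i => by
      simp only [Pv, qp, Lp, map_add, map_sub, map_mul]; ring
    have hdeg : ∀ i, (Pv i).natDegree ≤ 2 := fun i => by rw [hPv]; exact Polynomial.natDegree_quadratic_le
    have hev : ∀ t, (fun i => (Pv i).eval t) = (-(qA + qB * t + qC * t ^ 2)) • p + (l₀ + l₁ * t) • (g₀ + t • g₁) := fun t => by
      funext i; simp [Pv, qp, Lp]; ring
    have hco : (fun i => (Pv i).coeff 2) = (-qC) • p + l₁ • g₁ := by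
      funext i
      rw [hPv]
      simp only [Polynomial.coeff_add, Polynomial.coeff_C_mul, Polynomial.coeff_X_pow, Polynomial.coeff_X,
        Polynomial.coeff_C, Pi.add_apply, Pi.smul_apply, smul_eq_mul]
      norm_num
      ring
    -- every point of the conic is a multiple of a value of the parametrisation
    have hcover : ∀ α X Y : K, (α ≠ 0 ∨ X ≠ 0 ∨ Y ≠ 0) → T F a (α • p + X • g₀ + Y • g₁) (α • p + X • g₀ + Y • g₁) = 0 →
        (∃ t l : K, l ≠ 0 ∧ (fun i => (Pv i).eval t) = l • (α • p + X • g₀ + Y • g₁)) ∨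
        ∃ l : K, l ≠ 0 ∧ (fun i => (Pv i).coeff 2) = l • (α • p + X • g₀ + Y • g₁) := by
      intro α X Y hne hz
      rw [hq] at hz
      by_cases hv : X = 0 ∧ Y = 0
      · have hα : α ≠ 0 := hne.resolve_right (by rw [hv.1, hv.2]; simp)
        by_cases h1 : l₁ = 0
        · right
          have hC : qC ≠ 0 := fun hC => hstar (by rw [h1, hC]; ring)
          refine ⟨-qC / α, div_ne_zero (neg_ne_zero.2 hC) hα, ?_⟩
          rw [hco, h1, hv.1, hv.2]
          match_scalars <;> field_simp <;> ring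
        · left
          refine ⟨-l₀ / l₁, -(qA * l₁ ^ 2 - qB * (l₀ * l₁) + qC * l₀ ^ 2) / (l₁ ^ 2 * α),
            div_ne_zero (neg_ne_zero.2 hstar) (mul_ne_zero (pow_ne_zero _ h1) hα), ?_⟩
          rw [hev, hv.1, hv.2]
          match_scalars <;> field_simp <;> ring
      have hL : l₀ * X + l₁ * Y ≠ 0 := fun hL => by
        rw [hL, mul_zero, zero_add] at hz
        rcases hl with h | h
        · refine hstar ((mul_eq_zero.1 (?_ : Y ^ 2 * _ = 0)).resolve_left (pow_ne_zero _ fun hY => ?_))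
          · linear_combination l₀ ^ 2 * hz - (qA * (l₀ * X - l₁ * Y) + qB * l₀ * Y) * hL
          · rw [hY, mul_zero, add_zero] at hL
            exact hv ⟨(mul_eq_zero.1 hL).resolve_left h, hY⟩
        · refine hstar ((mul_eq_zero.1 (?_ : X ^ 2 * _ = 0)).resolve_left (pow_ne_zero _ fun hX => ?_))
          · linear_combination l₁ ^ 2 * hz - (qC * (l₁ * Y - l₀ * X) + qB * l₁ * X) * hL
          · rw [hX, mul_zero, zero_add] at hL
            exact hv ⟨hX, (mul_eq_zero.1 hL).resolve_left h⟩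
      by_cases hX : X = 0
      · right
        have hY : Y ≠ 0 := fun hY => hv ⟨hX, hY⟩
        refine ⟨(l₀ * X + l₁ * Y) / Y ^ 2, div_ne_zero hL (pow_ne_zero _ hY), ?_⟩
        rw [hco]
        rw [hX] at hz hL ⊢
        match_scalars <;> field_simp
        all_goals first
          | linear_combination -hz
          | ring
      · left
        refine ⟨Y / X, (l₀ * X + l₁ * Y) / X ^ 2, div_ne_zero hL (pow_ne_zero _ hX), ?_⟩
        rw [hev]
        match_scalars <;> field_simp
        linear_combination -hz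
    refine param_bound F hF 2 Pv hdeg (fun h0 => hnot fun α X Y hz => ?_) a _ fun U hU => ?_
    · by_cases hne : α ≠ 0 ∨ X ≠ 0 ∨ Y ≠ 0
      · rcases hcover α X Y hne hz with ⟨t, l, hl', he⟩ | ⟨l, hl', he⟩
        · have := eval_aeval_poly Pv F t
          rw [h0, Polynomial.eval_zero, he, eval_smul_cubic F hF] at this
          simpa [hl'] using this.symm
        · have := (curve_poly F hF 2 Pv hdeg).2
          rw [h0, Polynomial.coeff_zero, he, eval_smul_cubic F hF] at this
          simpa [hl'] using this.symm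
      · push Not at hne
        rw [hne.1, hne.2.1, hne.2.2]
        have := eval_smul_cubic F hF 0 p
        simpa using this
    · obtain ⟨α, X, Y, hne, hFz, hqz, hline⟩ := hkey U hU.1 hU.2.1 hU.2.2
      exact ⟨_, hFz, hline, hcover α X Y hne hqz⟩

/-- The polar section of a tangent plane. -/
theorem polar_section (a : Fin 4 → K) (ha : a ≠ 0) (hFa : eval a F = 0) (x₀ : Fin 4 → K) (hx₀ : T F a a x₀ ≠ 0)
    (hnp : ¬ IsProd F a) :
    (∃ U₁ U₂ : Submodule K (Fin 4 → K), Module.finrank K ↥U₁ = 2 ∧ Module.finrank K ↥U₂ = 2 ∧ a ∈ U₁ ∧ a ∈ U₂ ∧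
        (∀ x ∈ U₁, T F a a x = 0) ∧ (∀ x ∈ U₂, T F a a x = 0) ∧
        {x : Fin 4 → K | T F a a x = 0 ∧ T F x x a = 0} = (U₁ : Set (Fin 4 → K)) ∪ (U₂ : Set (Fin 4 → K))) ∧
      ∀ U : Submodule K (Fin 4 → K), a ∈ U → Module.finrank K ↥U = 2 → (∀ u ∈ U, eval u F = 0) →
        ∀ u ∈ U, T F a a u = 0 ∧ T F u u a = 0 := by
  classical
  have haaa : T F a a a = 0 := by rw [T_self hF, hFa]; ring
  refine ⟨?_, fun U hU _ hUF u hu => ?_⟩
  swap
  · obtain ⟨-, h2, h3, -⟩ := line_cond hF u a fun t => hUF _ (add_mem hU (U.smul_mem t hu))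
    exact ⟨h2, by rw [T_symm23, T_symm12]; exact h3⟩
  let Φ : (Fin 4 → K) →ₗ[K] K :=
    { toFun := fun x => T F a a x, map_add' := T_add₃ hF a a, map_smul' := fun c x => T_smul₃ hF c a a x }
  have hker : Module.finrank K (LinearMap.ker Φ) = 3 := by
    have h1 := LinearMap.finrank_range_add_finrank_ker Φ
    have hne : Φ ≠ 0 := fun h => hx₀ (congrArg (fun f => f x₀) h)
    rw [LinearMap.range_eq_top.2 (LinearMap.surjective hne), finrank_top, Module.finrank_self, Module.finrank_pi,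
      Fintype.card_fin] at h1
    omega
  obtain ⟨u, hu, n1⟩ := exists_not_mem_span ![a] (LinearMap.ker Φ) (by omega)
  obtain ⟨w, hw, n2⟩ := exists_not_mem_span ![a, u] (LinearMap.ker Φ) (by omega)
  have hu' : T F a a u = 0 := hu
  have hw' : T F a a w = 0 := hw
  have n3 : x₀ ∉ Submodule.span K (Set.range ![a, u, w]) := fun h => hx₀ (by
    have : Submodule.span K (Set.range ![a, u, w]) ≤ LinearMap.ker Φ :=
      Submodule.span_le.2 (by
        rintro x ⟨i, rfl⟩; fin_cases i
        exacts [haaa, hu, hw])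
    exact this h)
  have l1 : LinearIndependent K ![a] := LinearIndependent.of_subsingleton (i := 0) (by simpa using ha)
  have l2 := linearIndependent_finSnoc.2 ⟨l1, n1⟩
  rw [show (Fin.snoc ![a] u : Fin 2 → Fin 4 → K) = ![a, u] by funext i; fin_cases i <;> rfl] at l2
  have l3 := linearIndependent_finSnoc.2 ⟨l2, n2⟩
  rw [show (Fin.snoc ![a, u] w : Fin 3 → Fin 4 → K) = ![a, u, w] by funext i; fin_cases i <;> rfl] at l3
  have l4 := linearIndependent_finSnoc.2 ⟨l3, n3⟩
  rw [show (Fin.snoc ![a, u, w] x₀ : Fin 4 → Fin 4 → K) = ![a, u, w, x₀] by funext i; fin_cases i <;> rfl] at l4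
  let B := basisOfLinearIndependentOfCardEqFinrank l4 (by simp)
  have hB : ⇑B = ![a, u, w, x₀] := coe_basisOfLinearIndependentOfCardEqFinrank _ _
  obtain ⟨m₁, m₂, n₁, n₂, hq⟩ := binary_quad (T F a u u) (2 * T F a u w) (T F a w w)
  have hnz : ¬ (m₁ = 0 ∧ m₂ = 0) ∧ ¬ (n₁ = 0 ∧ n₂ = 0) := by
    constructor <;> rintro ⟨h1, h2⟩ <;>
    · refine hnp (isProd_of_hcase F hF a u w x₀ B hB haaa hu' hw' hx₀ (Or.inl ⟨?_, ?_, ?_⟩))
      · have := hq 1 0; rw [h1, h2] at this; linear_combination this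
      · have := hq 1 1; have e0 := hq 1 0; have e1 := hq 0 1
        rw [h1, h2] at this e0 e1
        linear_combination (1 / 2 : K) * this - (1 / 2 : K) * e0 - (1 / 2 : K) * e1
      · have := hq 0 1; rw [h1, h2] at this; linear_combination this
  have hplane : ∀ s y z : K, T F a a (s • a + y • u + z • w) = 0 ∧
      T F (s • a + y • u + z • w) (s • a + y • u + z • w) a = (m₁ * y + m₂ * z) * (n₁ * y + n₂ * z) := fun s y z => by
    refine ⟨by simp only [T_add₃ hF, T_smul₃ hF, haaa, hu', hw']; ring, ?_⟩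
    rw [← hq, T_symm23, T_symm12]
    simp only [T_add₂ hF, T_smul₂ hF, T_add₃ hF, T_smul₃ hF, T_symm23 F a u a, T_symm23 F a w a, T_symm23 F a w u,
      haaa, hu', hw']
    ring
  have hdec : ∀ x, T F a a x = 0 → ∃ s y z : K, x = s • a + y • u + z • w := fun x hx => by
    have hs := (B.sum_repr x).symm
    rw [Fin.sum_univ_four, hB] at hs
    simp only [Matrix.cons_val_zero, Matrix.cons_val_one, Matrix.cons_val] at hs
    generalize B.repr x = g at hs
    refine ⟨g 0, g 1, g 2, ?_⟩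
    have e : g 3 = 0 := by
      rw [hs, T_add₃ hF, T_add₃ hF, T_add₃ hF, T_smul₃ hF, T_smul₃ hF, T_smul₃ hF, T_smul₃ hF, haaa, hu', hw'] at hx
      simpa [hx₀] using hx
    rw [hs, e, zero_smul, add_zero]
  -- the line through a and the zero of a linear form
  let Ln : K → K → Submodule K (Fin 4 → K) := fun c₁ c₂ => Submodule.span K (Set.range ![a, c₂ • u + (-c₁) • w])
  have hLn : ∀ c₁ c₂ : K, ¬ (c₁ = 0 ∧ c₂ = 0) → Module.finrank K (Ln c₁ c₂) = 2 ∧
      ∀ s y z : K, (s • a + y • u + z • w ∈ Ln c₁ c₂ ↔ c₁ * y + c₂ * z = 0) := by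
    intro c₁ c₂ hc
    refine ⟨?_, fun s y z => ⟨fun h => ?_, fun h => ?_⟩⟩
    · have : LinearIndependent K ![a, c₂ • u + (-c₁) • w] := by
        rw [Fintype.linearIndependent_iff]
        intro g hg
        simp [Fin.sum_univ_two] at hg
        have := Fintype.linearIndependent_iff.1 l3 ![g 0, g 1 * c₂, -(g 1 * c₁)] (by
          simp [Fin.sum_univ_three]; linear_combination (norm := module) hg)
        have e1 : g 1 * c₂ = 0 := this 1
        have e2 : -(g 1 * c₁) = 0 := this 2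
        intro i; fin_cases i
        · exact this 0
        · by_contra h
          have h' : g 1 ≠ 0 := h
          exact hc ⟨by simpa [h'] using e2, by simpa [h'] using e1⟩
      rw [finrank_span_eq_card this, Fintype.card_fin]
    · obtain ⟨g, hg⟩ := (Submodule.mem_span_range_iff_exists_fun K).1 h
      simp [Fin.sum_univ_two] at hg
      have := Fintype.linearIndependent_iff.1 l3 ![g 0 - s, g 1 * c₂ - y, -(g 1 * c₁) - z] (by
        simp [Fin.sum_univ_three]; linear_combination (norm := module) hg)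
      have e1 : g 1 * c₂ - y = 0 := this 1
      have e2 : -(g 1 * c₁) - z = 0 := this 2
      linear_combination -c₁ * e1 - c₂ * e2
    · refine (Submodule.mem_span_range_iff_exists_fun K).2 ?_
      by_cases h2 : c₂ = 0
      · have h1 : c₁ ≠ 0 := fun h1 => hc ⟨h1, h2⟩
        have hy : y = 0 := by rw [h2] at h; simpa [h1] using h
        refine ⟨![s, -z / c₁], ?_⟩
        simp [Fin.sum_univ_two, h2, hy]
        match_scalars <;> field_simp
      · refine ⟨![s, y / c₂], ?_⟩
        simp [Fin.sum_univ_two]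
        match_scalars <;> field_simp
        linear_combination -h
  have hin : ∀ c₁ c₂ : K, ∀ x ∈ Ln c₁ c₂, T F a a x = 0 := fun c₁ c₂ x hx => by
    have : Ln c₁ c₂ ≤ LinearMap.ker Φ := Submodule.span_le.2 (by
      rintro y ⟨i, rfl⟩; fin_cases i
      exacts [haaa, add_mem (Submodule.smul_mem _ _ hu) (Submodule.smul_mem _ _ hw)])
    exact this hx
  refine ⟨Ln m₁ m₂, Ln n₁ n₂, (hLn _ _ hnz.1).1, (hLn _ _ hnz.2).1, Submodule.subset_span ⟨0, rfl⟩,
    Submodule.subset_span ⟨0, rfl⟩, hin _ _, hin _ _, Set.ext fun x => ⟨fun ⟨h1, h2⟩ => ?_, fun h => ?_⟩⟩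
  · obtain ⟨s, y, z, rfl⟩ := hdec x h1
    rw [(hplane s y z).2, mul_eq_zero] at h2
    exact h2.imp ((hLn _ _ hnz.1).2 s y z).2 ((hLn _ _ hnz.2).2 s y z).2
  · have h1 : T F a a x = 0 := h.elim (hin _ _ x) (hin _ _ x)
    obtain ⟨s, y, z, rfl⟩ := hdec x h1
    refine ⟨h1, ?_⟩
    rw [(hplane s y z).2, mul_eq_zero]
    exact h.imp ((hLn _ _ hnz.1).2 s y z).1 ((hLn _ _ hnz.2).2 s y z).1

end Groth.Agent.PfaffH28
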