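import Mathlib
import Groth.Agent.Lib.CubicH28.Basic
import Groth.Agent.Lib.PfaffH28.NonT
import Groth.Agent.Lib.PfaffH28.SingLines
import Groth.Agent.Lib.PfaffH28.Tritangent

/-!
Finitely many T-points in the tangent plane at a point which is not a T-point: all T-points lie on
finitely many lines, and a line in that tangent plane carries finitely many.
-/

set_option autoImplicit false

open MvPolynomial

namespace Groth.Agent.PfaffH28

open CubicH28

universe u

variable {K : Type u} [Field K] [CharZero K]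
variable (F : MvPolynomial (Fin 4) K) (hF : F.IsHomogeneous 3)

/-- A smooth point with three lines as tangent section. -/
def IsT (b : Fin 4 → K) : Prop := eval b F = 0 ∧ ¬ Sg F b ∧ IsProd F b

/-- A line of the surface. -/
def IsLine (N : Submodule K (Fin 4 → K)) : Prop := Module.finrank K N = 2 ∧ ∀ u ∈ N, eval u F = 0

omit [CharZero K] in
theorem li2 {x y : Fin 4 → K} (hx : x ≠ 0) (hy : y ∉ Submodule.span K {x}) : LinearIndependent K ![x, y] := by
  rw [LinearIndependent.pair_iff' hx]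
  intro a ha
  exact hy (Submodule.mem_span_singleton.2 ⟨a, ha⟩)

omit [CharZero K] in
theorem extend4 {s p : Fin 4 → K} (h : LinearIndependent K ![s, p]) :
    ∃ (c₀ c₁ : Fin 4 → K) (B : Module.Basis (Fin 4) K (Fin 4 → K)), ⇑B = ![s, p, c₀, c₁] := by
  obtain ⟨c₀, -, n3⟩ := exists_not_mem_span ![s, p] ⊤ (by simp)
  have l3 := linearIndependent_finSnoc.2 ⟨h, n3⟩
  rw [show (Fin.snoc ![s, p] c₀ : Fin 3 → Fin 4 → K) = ![s, p, c₀] by funext i; fin_cases i <;> rfl] at l3
  obtain ⟨c₁, -, n4⟩ := exists_not_mem_span ![s, p, c₀] ⊤ (by simp)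
  have l4 := linearIndependent_finSnoc.2 ⟨l3, n4⟩
  rw [show (Fin.snoc ![s, p, c₀] c₁ : Fin 4 → Fin 4 → K) = ![s, p, c₀, c₁] by funext i; fin_cases i <;> rfl] at l4
  exact ⟨c₀, c₁, basisOfLinearIndependentOfCardEqFinrank l4 (by simp), coe_basisOfLinearIndependentOfCardEqFinrank _ _⟩

omit [CharZero K] in
theorem coords4 {s p c₀ c₁ : Fin 4 → K} (B : Module.Basis (Fin 4) K (Fin 4 → K)) (hB : ⇑B = ![s, p, c₀, c₁])
    (z : Fin 4 → K) : ∃ x y v w : K, z = x • s + y • p + v • c₀ + w • c₁ := by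
  have hs := (B.sum_repr z).symm
  rw [Fin.sum_univ_four, hB] at hs
  exact ⟨_, _, _, _, hs⟩

omit [CharZero K] in
theorem coords4_zero {s p c₀ c₁ : Fin 4 → K} (B : Module.Basis (Fin 4) K (Fin 4 → K)) (hB : ⇑B = ![s, p, c₀, c₁])
    (x y z w : K) (h : x • s + y • p + z • c₀ + w • c₁ = 0) : x = 0 ∧ y = 0 ∧ z = 0 ∧ w = 0 := by
  have := Fintype.linearIndependent_iff.1 B.linearIndependent ![x, y, z, w] (by simpa [Fin.sum_univ_four, hB] using h)
  exact ⟨this 0, this 1, this 2, this 3⟩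

/-- A nonzero binary quadratic form has two roots up to scalars. -/
theorem two_roots [IsAlgClosed K] (P Q R : K) (h : ¬ (P = 0 ∧ Q = 0 ∧ R = 0)) :
    ∃ l₁ l₂ m₁ m₂ : K, (l₁ ≠ 0 ∨ l₂ ≠ 0) ∧ (m₁ ≠ 0 ∨ m₂ ≠ 0) ∧ ∀ X Y : K,
      P * X ^ 2 + Q * (X * Y) + R * Y ^ 2 = 0 → (∃ c, X = c * l₁ ∧ Y = c * l₂) ∨ ∃ c, X = c * m₁ ∧ Y = c * m₂ := by
  obtain ⟨u₁, u₂, v₁, v₂, hq⟩ := binary_quad P Q R
  have hnz : (u₁ ≠ 0 ∨ u₂ ≠ 0) ∧ (v₁ ≠ 0 ∨ v₂ ≠ 0) := by
    constructor <;>
    · by_contra hh
      push Not at hh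
      refine h ⟨?_, ?_, ?_⟩
      · have := hq 1 0; rw [hh.1, hh.2] at this; linear_combination this
      · have e1 := hq 1 1; have e2 := hq 1 0; have e3 := hq 0 1
        rw [hh.1, hh.2] at e1 e2 e3; linear_combination e1 - e2 - e3
      · have := hq 0 1; rw [hh.1, hh.2] at this; linear_combination this
  have key : ∀ w₁ w₂ X Y : K, (w₁ ≠ 0 ∨ w₂ ≠ 0) → w₁ * X + w₂ * Y = 0 → ∃ c, X = c * w₂ ∧ Y = c * -w₁ := by
    intro w₁ w₂ X Y hw he
    by_cases h2 : w₂ = 0
    · have h1 : w₁ ≠ 0 := hw.resolve_right (not_not.2 h2)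
      refine ⟨-Y / w₁, ?_, by field_simp⟩
      rw [h2] at he ⊢
      simpa [h1] using he
    · refine ⟨X / w₂, by field_simp, ?_⟩
      field_simp
      linear_combination he
  refine ⟨u₂, -u₁, v₂, -v₁, ?_, ?_, fun X Y hXY => ?_⟩
  · exact hnz.1.elim (fun h => Or.inr (neg_ne_zero.2 h)) Or.inl
  · exact hnz.2.elim (fun h => Or.inr (neg_ne_zero.2 h)) Or.inl
  · rw [hq, mul_eq_zero] at hXY
    exact hXY.imp (key _ _ X Y hnz.1) (key _ _ X Y hnz.2)

include hF

theorem line_T_zero {N : Submodule K (Fin 4 → K)} (hN : ∀ u ∈ N, eval u F = 0) {r q : Fin 4 → K} (hr : r ∈ N)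
    (hq : q ∈ N) : T F r r q = 0 := by
  obtain ⟨-, -, h, -⟩ := line_cond hF r q fun t => hN _ (add_mem hq (N.smul_mem t hr))
  rw [T_symm23, T_symm12]
  exact h

variable [IsAlgClosed K] (hirr : Irreducible F)

/-- A degenerate residual conic splits the plane section. -/
theorem prod_of_disc (a : Fin 4 → K) (s p d c : Fin 4 → K) (B : Module.Basis (Fin 4) K (Fin 4 → K))
    (hB : ⇑B = ![s, p, d, c]) (h1 : T F s s s = 0) (h2 : T F s s p = 0) (h3 : T F s p p = 0) (h4 : T F p p p = 0)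
    (hs : T F a a s = 0) (hp : T F a a p = 0) (hd : T F a a d = 0) (hc : T F a a c ≠ 0) (hΔ : disc F s p d = 0) :
    IsProd F a := by
  let A := 3 * T F s s d
  let B₁ := 6 * T F s p d
  let C₁ := 3 * T F p p d
  let E := 3 * T F s d d
  let G := 3 * T F p d d
  let I := T F d d d
  obtain ⟨l₀, l₁, l₂, m₀, m₁, m₂, hQ⟩ : ∃ l₀ l₁ l₂ m₀ m₁ m₂ : K, ∀ X Y Z : K,
      A * X ^ 2 + B₁ * X * Y + C₁ * Y ^ 2 + E * X * Z + G * Y * Z + I * Z ^ 2 =
        (l₀ * X + l₁ * Y + l₂ * Z) * (m₀ * X + m₁ * Y + m₂ * Z) := by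
    by_cases hA : T F s s d = 0
    · by_cases hSP : T F s p d = 0
      · by_cases hC : T F p p d = 0
        · exact ⟨0, 0, 1, E, G, I, fun X Y Z => by simp only [A, B₁, C₁, hA, hSP, hC]; ring⟩
        · have hE : T F s d d = 0 := by
            rw [disc, hA, hSP] at hΔ
            have : T F p p d * T F s d d ^ 2 = 0 := by linear_combination (-1 / 3 : K) * hΔ
            simpa [hC] using this
          obtain ⟨u₁, u₂, v₁, v₂, hq⟩ := binary_quad C₁ G I
          refine ⟨0, u₁, u₂, 0, v₁, v₂, fun X Y Z => ?_⟩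
          have := hq Y Z
          simp only [A, B₁, E, hA, hSP, hE]
          linear_combination this
      · -- a vertex off the line
        rw [disc, hA] at hΔ
        let u := (T F p p d * T F s d d - T F s p d * T F p d d) / (2 * T F s p d ^ 2)
        let v := -T F s d d / (2 * T F s p d)
        obtain ⟨u₁, u₂, v₁, v₂, hq⟩ := binary_quad A B₁ C₁
        refine ⟨u₁, u₂, -(u₁ * u + u₂ * v), v₁, v₂, -(v₁ * u + v₂ * v), fun X Y Z => ?_⟩
        have := hq (X - u * Z) (Y - v * Z)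
        rw [show (u₁ * X + u₂ * Y + -(u₁ * u + u₂ * v) * Z) * (v₁ * X + v₂ * Y + -(v₁ * u + v₂ * v) * Z)
          = (u₁ * (X - u * Z) + u₂ * (Y - v * Z)) * (v₁ * (X - u * Z) + v₂ * (Y - v * Z)) by ring, ← this]
        simp only [A, B₁, C₁, E, G, I, u, v, hA]
        field_simp
        linear_combination (-Z ^ 2 * T F s p d ^ 2) * hΔ
    · by_cases hD : T F s s d * T F p p d - T F s p d ^ 2 = 0
      · have hG : T F p d d * T F s s d - T F s p d * T F s d d = 0 := by
          rw [disc] at hΔ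
          have : (T F p d d * T F s s d - T F s p d * T F s d d) ^ 2 = 0 := by
            linear_combination (-T F s s d / 3) * hΔ + (4 * T F s s d * T F d d d / 3 - T F s d d ^ 2) * hD
          simpa using this
        obtain ⟨u₁, u₂, v₁, v₂, hq⟩ := binary_quad A E I
        refine ⟨u₁, u₁ * (T F s p d / T F s s d), u₂, v₁, v₁ * (T F s p d / T F s s d), v₂, fun X Y Z => ?_⟩
        have := hq (X + T F s p d / T F s s d * Y) Z
        rw [show (u₁ * X + u₁ * (T F s p d / T F s s d) * Y + u₂ * Z) * (v₁ * X + v₁ * (T F s p d / T F s s d) * Y + v₂ * Z)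
          = (u₁ * (X + T F s p d / T F s s d * Y) + u₂ * Z) * (v₁ * (X + T F s p d / T F s s d * Y) + v₂ * Z) by ring,
          ← this]
        simp only [A, B₁, C₁, E, G, I]
        field_simp
        linear_combination (3 * Y ^ 2) * hD + (3 * Y * Z) * hG
      · let u := (T F s p d * T F p d d - T F p p d * T F s d d) / (2 * (T F s s d * T F p p d - T F s p d ^ 2))
        let v := (T F s p d * T F s d d - T F s s d * T F p d d) / (2 * (T F s s d * T F p p d - T F s p d ^ 2))
        obtain ⟨u₁, u₂, v₁, v₂, hq⟩ := binary_quad A B₁ C₁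
        refine ⟨u₁, u₂, -(u₁ * u + u₂ * v), v₁, v₂, -(v₁ * u + v₂ * v), fun X Y Z => ?_⟩
        have := hq (X - u * Z) (Y - v * Z)
        rw [show (u₁ * X + u₂ * Y + -(u₁ * u + u₂ * v) * Z) * (v₁ * X + v₂ * Y + -(v₁ * u + v₂ * v) * Z)
          = (u₁ * (X - u * Z) + u₂ * (Y - v * Z)) * (v₁ * (X - u * Z) + v₂ * (Y - v * Z)) by ring, ← this]
        rw [disc] at hΔ
        simp only [A, B₁, C₁, E, G, I, u, v]
        field_simp
        linear_combination (Z ^ 2 * (T F s s d * T F p p d - T F s p d ^ 2)) * hΔ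
  refine ⟨(1 / 6 : K) • B.coord 2, l₀ • B.coord 0 + l₁ • B.coord 1 + l₂ • B.coord 2,
    m₀ • B.coord 0 + m₁ • B.coord 1 + m₂ • B.coord 2, fun z hz => ?_⟩
  have hz' := (B.sum_repr z).symm
  rw [Fin.sum_univ_four, hB] at hz'
  simp only [Matrix.cons_val_zero, Matrix.cons_val_one, Matrix.cons_val] at hz'
  simp only [LinearMap.add_apply, LinearMap.smul_apply, Module.Basis.coord_apply, smul_eq_mul]
  generalize B.repr z = g at hz'
  have e : g 3 = 0 := by
    rw [hz', T_add₃ hF, T_add₃ hF, T_add₃ hF, T_smul₃ hF, T_smul₃ hF, T_smul₃ hF, T_smul₃ hF, hs, hp, hd] at hz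
    simpa [hc] using hz
  have h6 := six_eval3 hF (g 0) (g 1) (g 2) s p d
  rw [h1, h2, h3, h4] at h6
  have hQ' := hQ (g 0) (g 1) (g 2)
  simp only [A, B₁, C₁, E, G, I] at hQ'
  rw [hz', e, zero_smul, add_zero]
  linear_combination (1 / 6 : K) * h6 + (g 2 / 6) * hQ'

set_option maxHeartbeats 800000 in
/-- A line of the surface in the tangent plane at a non-T-point carries finitely many T-points. -/
theorem line_in_plane (a : Fin 4 → K) (hFa : eval a F = 0) (hna : ¬ Sg F a) (hnp : ¬ IsProd F a)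
    (M : Submodule K (Fin 4 → K)) (hM : IsLine F M) (hMH : ∀ u ∈ M, T F a a u = 0) :
    ∃ P : Set (Fin 4 → K), P.Finite ∧ ∀ b ∈ M, b ≠ 0 → IsT F b → ∃ v ∈ P, b ∈ Submodule.span K {v} := by
  classical
  obtain ⟨hM2, hMS⟩ := hM
  obtain ⟨s, hs, ns⟩ := exists_not_mem_span (![] : Fin 0 → Fin 4 → K) M (by omega)
  obtain ⟨p, hp, np⟩ := exists_not_mem_span ![s] M (by omega)
  have hs0 : s ≠ 0 := fun h => ns (h ▸ zero_mem _)
  have l2 : LinearIndependent K ![s, p] := li2 hs0 (by simpa using np)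
  have hspan : Submodule.span K (Set.range ![s, p]) = M :=
    Submodule.eq_of_le_of_finrank_le (Submodule.span_le.2 (by rintro x ⟨i, rfl⟩; fin_cases i; exacts [hs, hp]))
      (by rw [finrank_span_eq_card l2, Fintype.card_fin, hM2])
  have h1 := line_T_zero F hF hMS hs hs
  have h2 := line_T_zero F hF hMS hs hp
  have h3 : T F s p p = 0 := by rw [T_symm12, T_symm23]; exact line_T_zero F hF hMS hp hs
  have h4 := line_T_zero F hF hMS hp hp
  -- a basis with `c₀` in the tangent plane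
  obtain ⟨e₀, e₁, B₀, hB₀⟩ := extend4 l2
  obtain ⟨c₀, c₁, hc₀, hc₁, l4⟩ : ∃ c₀ c₁, T F a a c₀ = 0 ∧ T F a a c₁ ≠ 0 ∧ LinearIndependent K ![s, p, c₀, c₁] := by
    have hex : T F a a e₀ ≠ 0 ∨ T F a a e₁ ≠ 0 := by
      by_contra hh
      push Not at hh
      refine hna (T_zero_of_basis F hF B₀ _ _ fun i => ?_)
      fin_cases i <;> simp [hB₀, hMH s hs, hMH p hp, hh.1, hh.2]
    rcases hex with h | h
    · refine ⟨e₁ - (T F a a e₁ / T F a a e₀) • e₀, e₀, ?_, h, ?_⟩
      · rw [sub_eq_add_neg, ← neg_smul, T_add₃ hF, T_smul₃ hF]; field_simp; ring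
      · rw [Fintype.linearIndependent_iff]
        intro g hg
        simp [Fin.sum_univ_four] at hg
        obtain ⟨a0, a1, a2, a3⟩ := coords4_zero B₀ hB₀ (g 0) (g 1) (g 3 - g 2 * (T F a a e₁ / T F a a e₀)) (g 2)
          (by linear_combination (norm := module) hg)
        rw [a3, zero_mul, sub_zero] at a2
        intro i; fin_cases i <;> assumption
    · refine ⟨e₀ - (T F a a e₀ / T F a a e₁) • e₁, e₁, ?_, h, ?_⟩
      · rw [sub_eq_add_neg, ← neg_smul, T_add₃ hF, T_smul₃ hF]; field_simp; ring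
      · rw [Fintype.linearIndependent_iff]
        intro g hg
        simp [Fin.sum_univ_four] at hg
        obtain ⟨a0, a1, a2, a3⟩ := coords4_zero B₀ hB₀ (g 0) (g 1) (g 2) (g 3 - g 2 * (T F a a e₀ / T F a a e₁))
          (by linear_combination (norm := module) hg)
        rw [a2, zero_mul, sub_zero] at a3
        intro i; fin_cases i <;> assumption
  let B := basisOfLinearIndependentOfCardEqFinrank l4 (by simp)
  have hB : ⇑B = ![s, p, c₀, c₁] := coe_basisOfLinearIndependentOfCardEqFinrank _ _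
  have hΔ : disc F s p c₀ ≠ 0 := fun h =>
    hnp (prod_of_disc F hF a s p c₀ c₁ B hB h1 h2 h3 h4 (hMH s hs) (hMH p hp) hc₀ hc₁ h)
  -- the point `a` lies on the line
  have haM : a ∈ M := by
    obtain ⟨X, Y, Z, W, haz⟩ := coords4 B hB a
    have hta : T F a a a = 0 := by rw [T_self hF, hFa]; ring
    have hW : W = 0 := by
      nth_rewrite 3 [haz] at hta
      rw [T_add₃ hF, T_add₃ hF, T_add₃ hF, T_smul₃ hF, T_smul₃ hF, T_smul₃ hF, T_smul₃ hF, hMH s hs, hMH p hp,
        hc₀] at hta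
      simpa [hc₁] using hta
    rw [hW, zero_smul, add_zero] at haz
    by_cases hZ : Z = 0
    · rw [haz, hZ, zero_smul, add_zero, ← hspan]
      exact (Submodule.mem_span_range_iff_exists_fun K).2 ⟨![X, Y], by simp [Fin.sum_univ_two]⟩
    exfalso
    have e0 := hMH s hs
    have e1 := hMH p hp
    have e2 := hc₀
    have hF0 := six_eval3 hF X Y Z s p c₀
    rw [← haz, hFa, h1, h2, h3, h4] at hF0
    rw [haz] at e0 e1 e2
    simp only [T_add hF, T_smul hF, T_add₂ hF, T_smul₂ hF, T_symm23 F s p s, T_symm12 F p s s, T_symm23 F p p s,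
      T_symm12 F p s p, T_symm23 F s c₀ s, T_symm12 F c₀ s s, T_symm23 F p c₀ s, T_symm12 F p s c₀,
      T_symm23 F c₀ p s, T_symm12 F c₀ s p, T_symm23 F s c₀ p, T_symm23 F c₀ c₀ s, T_symm12 F c₀ s c₀,
      T_symm23 F p c₀ p, T_symm12 F c₀ p p, T_symm23 F c₀ c₀ p, T_symm12 F c₀ p c₀, h1, h2, h3, h4] at e0 e1 e2
    have f0 : 2 * X * T F s s c₀ + 2 * Y * T F s p c₀ + Z * T F s c₀ c₀ = 0 :=
      (mul_eq_zero.1 (by linear_combination e0 : Z * _ = 0)).resolve_left hZ
    have f1 : 2 * X * T F s p c₀ + 2 * Y * T F p p c₀ + Z * T F p c₀ c₀ = 0 :=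
      (mul_eq_zero.1 (by linear_combination e1 : Z * _ = 0)).resolve_left hZ
    have q0 : 3 * X ^ 2 * T F s s c₀ + 6 * X * Y * T F s p c₀ + 3 * Y ^ 2 * T F p p c₀ + 3 * X * Z * T F s c₀ c₀
        + 3 * Y * Z * T F p c₀ c₀ + Z ^ 2 * T F c₀ c₀ c₀ = 0 :=
      (mul_eq_zero.1 (by linear_combination -hF0 : Z * _ = 0)).resolve_left hZ
    have f2 : 3 * X * T F s c₀ c₀ + 3 * Y * T F p c₀ c₀ + 2 * Z * T F c₀ c₀ c₀ = 0 :=
      (mul_eq_zero.1 (by linear_combination 3 * e2 - q0 : Z * _ = 0)).resolve_left hZ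
    have : Z * disc F s p c₀ = 0 := by
      simp only [disc]
      linear_combination 3 * (T F s p c₀ * T F p c₀ c₀ - T F p p c₀ * T F s c₀ c₀) * f0
        + 3 * (T F s p c₀ * T F s c₀ c₀ - T F s s c₀ * T F p c₀ c₀) * f1
        + 2 * (T F s s c₀ * T F p p c₀ - T F s p c₀ ^ 2) * f2
    exact (mul_ne_zero hZ hΔ) this
  -- roots
  let B' := basisOfLinearIndependentOfCardEqFinrank (b := ![s, p, c₁, c₀]) (by
    have := l4.comp ![0, 1, 3, 2] (by decide)
    convert this using 1 <;> first | (funext i; fin_cases i <;> rfl) | rfl) (by simp)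
  let G := discP F s p c₁ c₀
  have hG0 : G ≠ 0 := fun h => hΔ (by
    rw [← (discP_degree F hF s p c₁ c₀).2, show discP F s p c₁ c₀ = G from rfl, h, Polynomial.coeff_zero])
  have hpts : ∀ t : K, ∃ v v' : Fin 4 → K, ∀ X Y : K,
      T F (X • s + Y • p) (X • s + Y • p) (c₁ + t • c₀) = 0 →
        X • s + Y • p ∈ Submodule.span K {v} ∨ X • s + Y • p ∈ Submodule.span K {v'} := by
    intro t
    obtain ⟨g, hg⟩ := (Submodule.mem_span_range_iff_exists_fun K).1 (hspan.symm ▸ haM : a ∈ Submodule.span K _)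
    simp [Fin.sum_univ_two] at hg
    have hform : ∀ X Y : K, T F (X • s + Y • p) (X • s + Y • p) (c₁ + t • c₀) = T F s s (c₁ + t • c₀) * X ^ 2
        + 2 * T F s p (c₁ + t • c₀) * (X * Y) + T F p p (c₁ + t • c₀) * Y ^ 2 := fun X Y => by
      simp only [T_add hF, T_smul hF, T_add₂ hF, T_smul₂ hF, T_symm12 F p s]; ring
    obtain ⟨l₁, l₂, m₁, m₂, -, -, hr⟩ := two_roots (T F s s (c₁ + t • c₀)) (2 * T F s p (c₁ + t • c₀))
      (T F p p (c₁ + t • c₀)) (fun ⟨z1, z2, z3⟩ => hc₁ (by
        have := hform (g 0) (g 1)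
        rw [z1, z2, z3, hg, T_add₃ hF, T_smul₃ hF, hc₀] at this
        simpa using this))
    refine ⟨l₁ • s + l₂ • p, m₁ • s + m₂ • p, fun X Y h => ?_⟩
    rw [hform] at h
    rcases hr X Y h with ⟨c, rfl, rfl⟩ | ⟨c, rfl, rfl⟩
    · exact Or.inl (Submodule.mem_span_singleton.2 ⟨c, by module⟩)
    · exact Or.inr (Submodule.mem_span_singleton.2 ⟨c, by module⟩)
  choose v v' hvv using hpts
  refine ⟨v '' {t | G.IsRoot t} ∪ v' '' {t | G.IsRoot t},
    ((Polynomial.finite_setOf_isRoot hG0).image _).union ((Polynomial.finite_setOf_isRoot hG0).image _),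
    fun b hb _ ⟨hbF, hbs, hbp⟩ => ?_⟩
  obtain ⟨g, hg⟩ := (Submodule.mem_span_range_iff_exists_fun K).1 (hspan.symm ▸ hb : b ∈ Submodule.span K _)
  simp [Fin.sum_univ_two] at hg
  have hbs' : T F b b s = 0 := line_T_zero F hF hMS hb hs
  have hbp' : T F b b p = 0 := line_T_zero F hF hMS hb hp
  have hb0 : T F b b c₀ ≠ 0 := fun h0 => by
    obtain ⟨L₁, L₂, L₃, hL⟩ := hbp
    refine hnp ⟨L₁, L₂, L₃, fun z hz => hL z ?_⟩
    obtain ⟨X, Y, Z, W, rfl⟩ := coords4 B hB z
    rw [T_add₃ hF, T_add₃ hF, T_add₃ hF, T_smul₃ hF, T_smul₃ hF, T_smul₃ hF, T_smul₃ hF, hMH s hs, hMH p hp, hc₀] at hz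
    have hW : W = 0 := by simpa [hc₁] using hz
    rw [hW, zero_smul, add_zero]
    simp [T_add₃ hF, T_smul₃ hF, hbs', hbp', h0]
  have ht : T F b b (c₁ + (-T F b b c₁ / T F b b c₀) • c₀) = 0 := by
    rw [T_add₃ hF, T_smul₃ hF]; field_simp; ring
  have hroot : G.IsRoot (-T F b b c₁ / T F b b c₀) := by
    rw [Polynomial.IsRoot, discP_eval F hF]
    exact disc_of_prod F hF s p _ h1 h2 h3 h4 (g 0) (g 1) (by rw [hg]; exact ht) (by rw [hg]; exact hbp)
  rcases hvv (-T F b b c₁ / T F b b c₀) (g 0) (g 1) (by rw [hg]; exact ht) with h | h <;> rw [hg] at h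
  · exact ⟨_, Or.inl ⟨_, hroot, rfl⟩, h⟩
  · exact ⟨_, Or.inr ⟨_, hroot, rfl⟩, h⟩

section NoSL

include hirr

/-- Finitely many lines in a plane. -/
theorem plane_lines_finite (W₀ : Submodule K (Fin 4 → K)) (hW₀ : Module.finrank K W₀ = 3) :
    {N : Submodule K (Fin 4 → K) | IsLine F N ∧ N ≤ W₀}.Finite := by
  classical
  obtain ⟨o, ho, hoF⟩ : ∃ o ∈ W₀, eval o F ≠ 0 := by
    by_contra hc
    push Not at hc
    obtain ⟨a, ha, na⟩ := exists_not_mem_span (![] : Fin 0 → Fin 4 → K) W₀ (by omega)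
    obtain ⟨b, hb, nb⟩ := exists_not_mem_span ![a] W₀ (by omega)
    obtain ⟨c, hc', nc⟩ := exists_not_mem_span ![a, b] W₀ (by omega)
    have l2 : LinearIndependent K ![a, b] := li2 (fun h => na (h ▸ zero_mem _)) (by simpa using nb)
    have l3 := linearIndependent_finSnoc.2 ⟨l2, nc⟩
    rw [show (Fin.snoc ![a, b] c : Fin 3 → Fin 4 → K) = ![a, b, c] by funext i; fin_cases i <;> rfl] at l3
    refine no_plane F hF hirr a b c l3 (line_T_zero F hF hc ha ha) (line_T_zero F hF hc ha hb)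
      (line_T_zero F hF hc ha hc') ?_ ?_ ?_ (line_T_zero F hF hc hb hb) (line_T_zero F hF hc hb hc') ?_
      (line_T_zero F hF hc hc' hc')
    · rw [T_symm12, T_symm23]; exact line_T_zero F hF hc hb ha
    · have h1 := line_T_zero F hF hc (add_mem ha hb) hc'
      rw [T_add hF, T_add₂ hF, T_add₂ hF, line_T_zero F hF hc ha hc', line_T_zero F hF hc hb hc', T_symm12 F b a] at h1
      linear_combination (1 / 2 : K) * h1
    · rw [T_symm12, T_symm23]; exact line_T_zero F hF hc hc' ha
    · rw [T_symm12, T_symm23]; exact line_T_zero F hF hc hc' hb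
  have ho0 : o ≠ 0 := fun h => hoF (by
    rw [h, show (0 : Fin 4 → K) = (0 : K) • o by simp, eval_smul_cubic F hF]; ring)
  obtain ⟨q₁, hq₁, n1⟩ := exists_not_mem_span ![o] W₀ (by omega)
  obtain ⟨q₂, hq₂, n2⟩ := exists_not_mem_span ![o, q₁] W₀ (by omega)
  have l2 : LinearIndependent K ![o, q₁] := li2 ho0 (by simpa using n1)
  have l3 := linearIndependent_finSnoc.2 ⟨l2, n2⟩
  rw [show (Fin.snoc ![o, q₁] q₂ : Fin 3 → Fin 4 → K) = ![o, q₁, q₂] by funext i; fin_cases i <;> rfl] at l3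
  let pts : (Fin 4 → K) → Set (Fin 4 → K) := fun q => (fun t : K => q + t • o) '' {t | eval (q + t • o) F = 0}
  have hfin : ∀ q, (pts q).Finite := fun q => by
    refine Set.Finite.image _ ?_
    let Pv : Fin 4 → Polynomial K := fun i => Polynomial.C (q i) + Polynomial.C (o i) * Polynomial.X
    have hdeg : ∀ i, (Pv i).natDegree ≤ 1 := fun i => (Polynomial.natDegree_add_le _ _).trans
      (max_le (by simp) ((Polynomial.natDegree_C_mul_le _ _).trans Polynomial.natDegree_X_le))
    have hne : aeval Pv F ≠ 0 := fun h => hoF (by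
      have := (curve_poly F hF 1 Pv hdeg).2
      rw [h, Polynomial.coeff_zero] at this
      rw [this]; congr 2; funext i; simp [Pv])
    refine (Polynomial.finite_setOf_isRoot hne).subset fun t ht => ?_
    show (aeval Pv F).eval t = 0
    rw [eval_aeval_poly, ← ht]; congr 2; funext i; simp [Pv]; ring
  refine ((((hfin q₁).prod (hfin q₂)).image fun x => Submodule.span K (Set.range ![x.1, x.2]))).subset ?_
  rintro N ⟨⟨hN2, hNS⟩, hNW⟩
  have key : ∀ q ∈ W₀, LinearIndependent K ![o, q] → ∃ t : K, q + t • o ∈ N ∧ eval (q + t • o) F = 0 := by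
    intro q hq hli
    obtain ⟨x, hx, hx0⟩ := (N ⊓ Submodule.span K (Set.range ![o, q])).exists_mem_ne_zero_of_ne_bot (fun h => by
      have e := Submodule.finrank_sup_add_finrank_inf_eq N (Submodule.span K (Set.range ![o, q]))
      rw [h, finrank_bot, finrank_span_eq_card hli, Fintype.card_fin, hN2] at e
      have := Submodule.finrank_mono (sup_le hNW (Submodule.span_le.2 (by
        rintro y ⟨i, rfl⟩; fin_cases i
        exacts [ho, hq]) : Submodule.span K (Set.range ![o, q]) ≤ W₀))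
      omega)
    obtain ⟨g, hg⟩ := (Submodule.mem_span_range_iff_exists_fun K).1 hx.2
    simp [Fin.sum_univ_two] at hg
    have hg1 : g 1 ≠ 0 := fun h => by
      rw [h, zero_smul, add_zero] at hg
      have hg0 : g 0 ≠ 0 := fun h0 => hx0 (by rw [← hg, h0, zero_smul])
      exact hoF (hNS o (by simpa [← hg, hg0] using N.smul_mem (g 0)⁻¹ hx.1))
    have hmem : q + (g 0 / g 1) • o ∈ N := by
      have : q + (g 0 / g 1) • o = (g 1)⁻¹ • x := by rw [← hg]; match_scalars <;> field_simp
      rw [this]; exact N.smul_mem _ hx.1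
    exact ⟨_, hmem, hNS _ hmem⟩
  have l2' : LinearIndependent K ![o, q₂] := by
    have := l3.comp ![0, 2] (by decide)
    convert this using 1 <;> first | (funext i; fin_cases i <;> rfl) | rfl
  obtain ⟨t₁, hm1, he1⟩ := key q₁ hq₁ l2
  obtain ⟨t₂, hm2, he2⟩ := key q₂ hq₂ l2'
  have hli : LinearIndependent K ![q₁ + t₁ • o, q₂ + t₂ • o] := by
    rw [Fintype.linearIndependent_iff]
    intro g hg
    simp [Fin.sum_univ_two] at hg
    have := Fintype.linearIndependent_iff.1 l3 ![g 0 * t₁ + g 1 * t₂, g 0, g 1] (by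
      simp [Fin.sum_univ_three]; linear_combination (norm := module) hg)
    intro i; fin_cases i
    exacts [this 1, this 2]
  refine ⟨(q₁ + t₁ • o, q₂ + t₂ • o), ⟨⟨t₁, he1, rfl⟩, ⟨t₂, he2, rfl⟩⟩, ?_⟩
  exact Submodule.eq_of_le_of_finrank_le (Submodule.span_le.2 (by
    rintro y ⟨i, rfl⟩; fin_cases i
    exacts [hm1, hm2])) (by rw [hN2, finrank_span_eq_card hli, Fintype.card_fin])

variable (hcone : ¬ ∃ v : Fin 4 → K, v ≠ 0 ∧ ∑ i : Fin 4, v i • MvPolynomial.pderiv i F = 0)
variable (hSL : ∀ a b : Fin 4 → K, LinearIndependent K ![a, b] → Sg F a → Sg F b → (∀ x, T F a b x = 0) → False)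
include hcone hSL

/-- Without a singular line, the lines meeting a given line are finite in number. -/
theorem lines_meeting_finite (M : Submodule K (Fin 4 → K)) (hM : IsLine F M) :
    {N : Submodule K (Fin 4 → K) | IsLine F N ∧ ∃ r ∈ N ⊓ M, r ≠ 0}.Finite := by
  classical
  obtain ⟨hM2, hMS⟩ := hM
  obtain ⟨s, hs, ns⟩ := exists_not_mem_span (![] : Fin 0 → Fin 4 → K) M (by omega)
  obtain ⟨p, hp, np⟩ := exists_not_mem_span ![s] M (by omega)
  have hs0 : s ≠ 0 := fun h => ns (h ▸ zero_mem _)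
  have l2 : LinearIndependent K ![s, p] := li2 hs0 (by simpa using np)
  have hspan : Submodule.span K (Set.range ![s, p]) = M :=
    Submodule.eq_of_le_of_finrank_le (Submodule.span_le.2 (by rintro x ⟨i, rfl⟩; fin_cases i; exacts [hs, hp]))
      (by rw [finrank_span_eq_card l2, Fintype.card_fin, hM2])
  have h1 := line_T_zero F hF hMS hs hs
  have h2 := line_T_zero F hF hMS hs hp
  have h3 : T F s p p = 0 := by rw [T_symm12, T_symm23]; exact line_T_zero F hF hMS hp hs
  have h4 := line_T_zero F hF hMS hp hp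
  obtain ⟨c₀, c₁, B, hB⟩ := extend4 l2
  by_cases hD : ∀ d, T F s s d * T F p p d - T F s p d ^ 2 = 0
  · -- a torsal line: one singular point, constant tangent plane
    have e1 := hD c₀; have e3 := hD c₁; have e2 := hD (c₀ + c₁)
    simp only [T_add₃ hF] at e2
    obtain ⟨X, Y, hXY, q0, q1⟩ := common_root (T F s s c₀) (T F s p c₀) (T F p p c₀) (T F s s c₁) (T F s p c₁) (T F p p c₁)
      (by linear_combination e1) (by linear_combination e2 - e1 - e3) (by linear_combination e3)
    let v := X • s + Y • p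
    have hv : Sg F v := T_zero_of_basis F hF B _ _ fun i => by
      fin_cases i <;>
        simp [v, hB, T_add hF, T_smul hF, T_add₂ hF, T_smul₂ hF, T_symm12 F p s, T_symm23 F s p s, T_symm23 F p p s,
          h1, h2, h3, h4]
      · linear_combination q0
      · linear_combination q1
    have hv0 : v ≠ 0 := fun h => by
      have := coords4_zero B hB X Y 0 0 (by simpa [v] using h)
      rcases hXY with h' | h'
      exacts [h' this.1, h' this.2.1]
    have hvM : v ∈ M := add_mem (M.smul_mem _ hs) (M.smul_mem _ hp)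
    obtain ⟨p', hp', hp'n⟩ := exists_not_mem_span ![v] M (by omega)
    have l2' : LinearIndependent K ![v, p'] := li2 hv0 (by simpa using hp'n)
    obtain ⟨g, hg⟩ := (Submodule.mem_span_range_iff_exists_fun K).1 (hspan.symm ▸ hp' : p' ∈ Submodule.span K _)
    simp [Fin.sum_univ_two] at hg
    have hvp : ∀ x, T F v p' x = 0 := fun x => by
      have hk : T F v p' x ^ 2 = T F v v x * T F p' p' x - (X * g 1 - Y * g 0) ^ 2 * (T F s s x * T F p p x - T F s p x ^ 2) := by
        rw [← hg]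
        simp only [v, T_add hF, T_smul hF, T_add₂ hF, T_smul₂ hF, T_symm12 F p s]
        ring
      rw [hv x, hD x] at hk
      simpa using hk
    have hp'ns : ¬ Sg F p' := fun h => hSL v p' l2' hv h hvp
    let Φ : (Fin 4 → K) →ₗ[K] K :=
      { toFun := fun x => T F p' p' x, map_add' := T_add₃ hF p' p', map_smul' := fun c x => T_smul₃ hF c p' p' x }
    have hker : Module.finrank K (LinearMap.ker Φ) = 3 := by
      have h1 := LinearMap.finrank_range_add_finrank_ker Φ
      have hne : Φ ≠ 0 := fun h => hp'ns fun x => congrArg (fun f => f x) h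
      rw [LinearMap.range_eq_top.2 (LinearMap.surjective hne), finrank_top, Module.finrank_self, Module.finrank_pi,
        Fintype.card_fin] at h1
      omega
    have h6 := lines_through_sing F hF hirr hcone v hv0 hv
    refine (((Set.finite_of_encard_le_coe h6).union (plane_lines_finite F hF hirr _ hker))).subset ?_
    rintro N ⟨hN, r, hr, hr0⟩
    have hspan' : Submodule.span K (Set.range ![v, p']) = M :=
      Submodule.eq_of_le_of_finrank_le (Submodule.span_le.2 (by rintro x ⟨i, rfl⟩; fin_cases i; exacts [hvM, hp']))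
        (by rw [finrank_span_eq_card l2', Fintype.card_fin, hM2])
    obtain ⟨f, hf⟩ := (Submodule.mem_span_range_iff_exists_fun K).1 (hspan'.symm ▸ hr.2 : r ∈ Submodule.span K _)
    simp [Fin.sum_univ_two] at hf
    by_cases hf1 : f 1 = 0
    · rw [hf1, zero_smul, add_zero] at hf
      have hf0 : f 0 ≠ 0 := fun h => hr0 (by rw [← hf, h, zero_smul])
      refine Or.inl ⟨?_, hN.1, hN.2⟩
      simpa [← hf, hf0] using N.smul_mem (f 0)⁻¹ hr.1
    · refine Or.inr ⟨hN, fun q hq => ?_⟩
      have h := line_T_zero F hF hN.2 hr.1 hq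
      rw [← hf] at h
      simp only [T_add hF, T_smul hF, T_add₂ hF, T_smul₂ hF, hv q, hvp q, T_symm12 F p' v] at h
      show T F p' p' q = 0
      simpa [hf1] using h
  · push Not at hD
    obtain ⟨d, hd⟩ := hD
    have hΔne : ∃ x, disc F s p x ≠ 0 := by
      by_contra hc
      push Not at hc
      obtain ⟨P, hP, hPsg⟩ := sing_finite F hF hirr hSL
      -- a pencil through `d`
      obtain ⟨x, y, α, β, rfl⟩ := coords4 B hB d
      have hd' : T F s s (α • c₀ + β • c₁) * T F p p (α • c₀ + β • c₁) - T F s p (α • c₀ + β • c₁) ^ 2 ≠ 0 := by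
        intro h0
        refine hd ?_
        simp only [T_add₃ hF, T_smul₃ hF, T_symm23 F s p s, T_symm23 F p p s, T_symm12 F p s p, h1, h2, h3, h4] at h0 ⊢
        linear_combination h0
      let Dp : Polynomial K := linP F s s c₀ c₁ * linP F p p c₀ c₁ - linP F s p c₀ c₁ ^ 2
      have hDp0 : Dp ≠ 0 := fun h => by
        have h0 : ∀ t : K, Dp.eval t = 0 := fun t => by rw [h]; simp
        simp only [Dp, Polynomial.eval_sub, Polynomial.eval_mul, Polynomial.eval_pow, linP_eval F hF] at h0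
        have hz : ∀ t : K, (T F s s c₀ * T F p p c₀ - T F s p c₀ ^ 2)
            + t * (T F s s c₀ * T F p p c₁ + T F p p c₀ * T F s s c₁ - 2 * T F s p c₀ * T F s p c₁)
            + t ^ 2 * (T F s s c₁ * T F p p c₁ - T F s p c₁ ^ 2) + t ^ 3 * 0 = 0 := fun t => by
          have := h0 t
          simp only [T_add₃ hF, T_smul₃ hF] at this
          linear_combination this
        obtain ⟨a1, a2, a3, -⟩ := coeff_zero hz
        refine hd' ?_
        simp only [T_add₃ hF, T_smul₃ hF]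
        linear_combination α ^ 2 * a1 + α * β * a2 + β ^ 2 * a3
      have hinf : {t : K | Dp.eval t ≠ 0}.Infinite := by
        intro hfin
        have hu : (Set.univ : Set K) ⊆ {t : K | Dp.eval t ≠ 0} ∪ {t : K | Dp.IsRoot t} := fun t _ => by
          by_cases h : Dp.eval t = 0
          · exact Or.inr h
          · exact Or.inl h
        exact Set.infinite_univ ((hfin.union (Polynomial.finite_setOf_isRoot hDp0)).subset hu)
      haveI := hinf.to_subtype
      have hsel : ∀ t : {t : K | Dp.eval t ≠ 0}, ∃ v : P, ∃ x y z c : K, z ≠ 0 ∧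
          x • s + y • p + z • (c₀ + (t : K) • c₁) = c • (v : Fin 4 → K) := fun t => by
        obtain ⟨x, y, z, hz, hsg⟩ := vertex_sing F hF B s p c₀ c₁ hB h1 h2 h3 h4 (fun t => hc _) t (by
          have := t.2
          simpa only [Dp, Set.mem_setOf_eq, Polynomial.eval_sub, Polynomial.eval_mul, Polynomial.eval_pow,
            linP_eval F hF] using this)
        have hne : x • s + y • p + z • (c₀ + (t : K) • c₁) ≠ 0 := fun h =>
          hz (coords4_zero B hB x y z (z * t) (by rw [← h]; module)).2.2.1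
        obtain ⟨v, hv, hmem⟩ := hPsg _ hne hsg
        obtain ⟨c, hc'⟩ := Submodule.mem_span_singleton.1 hmem
        exact ⟨⟨v, hv⟩, x, y, z, c, hz, hc'.symm⟩
      choose vf xf yf zf cf hzf heq using hsel
      obtain ⟨t, t', htne, hvv⟩ := Finite.exists_ne_map_eq_of_infinite vf
      have e := congrArg (fun z => cf t' • z) (heq t)
      rw [hvv, smul_comm, ← heq t'] at e
      obtain ⟨-, -, e2, e3⟩ := coords4_zero B hB (cf t' * xf t - cf t * xf t') (cf t' * yf t - cf t * yf t')
        (cf t' * zf t - cf t * zf t') (cf t' * zf t * t - cf t * zf t' * t') (by linear_combination (norm := module) e)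
      have hct' : cf t' ≠ 0 := fun h => hzf t' (coords4_zero B hB (xf t') (yf t') (zf t') (zf t' * t') (by
        have := heq t'; rw [h, zero_smul] at this
        linear_combination (norm := module) this)).2.2.1
      have h4' : cf t' * zf t * ((t : K) - t') = 0 := by linear_combination e3 - (t' : K) * e2
      simp [hct', hzf t, sub_eq_zero] at h4'
      exact htne (Subtype.ext h4')
    obtain ⟨x₀, hx₀⟩ := hΔne
    have hG0 : discP F s p c₀ c₁ ≠ 0 := fun h => by
      obtain ⟨u, v, α, β, rfl⟩ := coords4 B hB x₀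
      have hzero : ∀ t, disc F s p (c₀ + t • c₁) = 0 := fun t => by rw [← discP_eval F hF, h]; simp
      have h5 : disc F s p c₁ = 0 := by rw [← (discP_degree F hF s p c₀ c₁).2, h]; simp
      refine hx₀ ?_
      have hdesc : disc F s p (u • s + v • p + α • c₀ + β • c₁) = disc F s p (α • c₀ + β • c₁) := by
        simp only [disc, T_add hF, T_smul hF, T_add₂ hF, T_smul₂ hF, T_add₃ hF, T_smul₃ hF, T_symm12 F p s,
          T_symm23 F s p s, T_symm23 F p p s, T_symm23 F s c₀ s, T_symm12 F c₀ s s, T_symm23 F s c₁ s, T_symm12 F c₁ s s,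
          T_symm23 F p c₀ p, T_symm12 F c₀ p p, T_symm23 F p c₁ p, T_symm12 F c₁ p p, T_symm23 F s c₀ p,
          T_symm23 F p c₀ s, T_symm12 F c₀ s p, T_symm12 F c₀ p s, T_symm23 F s c₁ p, T_symm23 F p c₁ s,
          T_symm12 F c₁ s p, T_symm12 F c₁ p s, T_symm23 F c₀ c₀ s, T_symm12 F c₀ s c₀, T_symm23 F c₀ c₀ p,
          T_symm12 F c₀ p c₀, T_symm23 F c₁ c₁ s, T_symm12 F c₁ s c₁, T_symm23 F c₁ c₁ p, T_symm12 F c₁ p c₁,
          T_symm23 F c₀ c₁ s, T_symm12 F c₀ s c₁, T_symm23 F c₁ c₀ s, T_symm12 F c₁ s c₀,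
          T_symm23 F c₀ c₁ p, T_symm12 F c₀ p c₁, T_symm23 F c₁ c₀ p, T_symm12 F c₁ p c₀, h1, h2, h3, h4]
        ring
      rw [hdesc]
      by_cases hα : α = 0
      · rw [hα, zero_smul, zero_add]
        simp only [disc, T_add hF, T_smul hF, T_add₂ hF, T_smul₂ hF, T_add₃ hF, T_smul₃ hF]
        simp only [disc] at h5
        linear_combination β ^ 5 * h5
      · have := hzero (β / α)
        rw [show c₀ + (β / α) • c₁ = α⁻¹ • (α • c₀ + β • c₁) by match_scalars <;> field_simp] at this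
        generalize α • c₀ + β • c₁ = z at this ⊢
        simp only [disc, T_smul hF, T_smul₂ hF, T_smul₃ hF] at this
        simp only [disc]
        have h' : α⁻¹ ^ 5 ≠ 0 := pow_ne_zero _ (inv_ne_zero hα)
        refine (mul_eq_zero.1 (?_ : α⁻¹ ^ 5 * _ = 0)).resolve_left h'
        linear_combination this
    have hpl : ∀ d, d ∉ Submodule.span K (Set.range ![s, p]) →
        Module.finrank K (Submodule.span K (Set.range ![s, p, d])) = 3 := by
      intro d hd
      have l3 := linearIndependent_finSnoc.2 ⟨l2, hd⟩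
      rw [show (Fin.snoc ![s, p] d : Fin 3 → Fin 4 → K) = ![s, p, d] by funext i; fin_cases i <;> rfl] at l3
      rw [finrank_span_eq_card l3, Fintype.card_fin]
    have hc1 : c₁ ∉ Submodule.span K (Set.range ![s, p]) := fun h => by
      obtain ⟨g, hg⟩ := (Submodule.mem_span_range_iff_exists_fun K).1 h
      simp [Fin.sum_univ_two] at hg
      exact one_ne_zero (coords4_zero B hB (-g 0) (-g 1) 0 1 (by linear_combination (norm := module) -hg)).2.2.2
    have hct : ∀ t : K, c₀ + t • c₁ ∉ Submodule.span K (Set.range ![s, p]) := fun t h => by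
      obtain ⟨g, hg⟩ := (Submodule.mem_span_range_iff_exists_fun K).1 h
      simp [Fin.sum_univ_two] at hg
      exact one_ne_zero (coords4_zero B hB (-g 0) (-g 1) 1 t (by linear_combination (norm := module) -hg)).2.2.1
    refine ((((Polynomial.finite_setOf_isRoot hG0).biUnion fun t _ =>
      plane_lines_finite F hF hirr _ (hpl _ (hct t))).union (plane_lines_finite F hF hirr _ (hpl _ hc1))).union
        (Set.finite_singleton M)).subset ?_
    rintro N ⟨hN, r, hr, hr0⟩
    by_cases hNM : N ≤ M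
    · exact Or.inr (Submodule.eq_of_le_of_finrank_le hNM (by rw [hM2, hN.1]))
    obtain ⟨q, hq, hqM⟩ := SetLike.not_le_iff_exists.1 hNM
    obtain ⟨g, hg⟩ := (Submodule.mem_span_range_iff_exists_fun K).1 (hspan.symm ▸ hr.2 : r ∈ Submodule.span K _)
    simp [Fin.sum_univ_two] at hg
    have hXY : g 0 ≠ 0 ∨ g 1 ≠ 0 := by
      by_contra hh; push Not at hh; rw [hh.1, hh.2] at hg; exact hr0 (by rw [← hg]; simp)
    obtain ⟨u, v, α, β, hq'⟩ := coords4 B hB q
    have hNle : ∀ d, q ∈ Submodule.span K (Set.range ![s, p, d]) → N ≤ Submodule.span K (Set.range ![s, p, d]) := by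
      intro d hd
      have hlq : LinearIndependent K ![r, q] := li2 hr0 fun h => hqM (by
        obtain ⟨c, hc'⟩ := Submodule.mem_span_singleton.1 h
        rw [← hc']; exact M.smul_mem _ hr.2)
      have hNeq : Submodule.span K (Set.range ![r, q]) = N := Submodule.eq_of_le_of_finrank_le
        (Submodule.span_le.2 (by rintro y ⟨i, rfl⟩; fin_cases i; exacts [hr.1, hq]))
        (by rw [finrank_span_eq_card hlq, Fintype.card_fin, hN.1])
      rw [← hNeq]
      refine Submodule.span_le.2 ?_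
      rintro y ⟨i, rfl⟩
      fin_cases i
      · rw [← hg]
        exact (Submodule.mem_span_range_iff_exists_fun K).2 ⟨![g 0, g 1, 0], by simp [Fin.sum_univ_three]⟩
      · exact hd
    by_cases hα : α = 0
    · refine Or.inl (Or.inr ⟨hN, hNle c₁ ((Submodule.mem_span_range_iff_exists_fun K).2 ⟨![u, v, β], ?_⟩)⟩)
      rw [hq', hα]; simp [Fin.sum_univ_three]
    · refine Or.inl (Or.inl (Set.mem_biUnion (x := β / α) ?_ ⟨hN, hNle _ ((Submodule.mem_span_range_iff_exists_fun K).2 ⟨![u, v, α], ?_⟩)⟩))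
      · show (discP F s p c₀ c₁).eval (β / α) = 0
        rw [discP_eval F hF]
        refine disc_of_line F hF h1 h2 h3 h4 _ (g 0) (g 1) (u / α) (v / α) hXY fun t => hN.2 _ ?_
        rw [hg, show (u / α) • s + (v / α) • p + (c₀ + (β / α) • c₁) = α⁻¹ • q by rw [hq']; match_scalars <;> field_simp]
        exact add_mem (N.smul_mem _ hq) (N.smul_mem t hr.1)
      · rw [hq']; simp [Fin.sum_univ_three]; match_scalars <;> field_simp

/-- Without a singular line and with a T-point there are finitely many lines. -/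
theorem lines_finite (b : Fin 4 → K) (hb : IsT F b) : {N : Submodule K (Fin 4 → K) | IsLine F N}.Finite := by
  classical
  obtain ⟨-, hbs, L₁, L₂, L₃, hL⟩ := hb
  let Φ : (Fin 4 → K) →ₗ[K] K :=
    { toFun := fun x => T F b b x, map_add' := T_add₃ hF b b, map_smul' := fun c x => T_smul₃ hF c b b x }
  have hker : Module.finrank K (LinearMap.ker Φ) = 3 := by
    have h1 := LinearMap.finrank_range_add_finrank_ker Φ
    have hne : Φ ≠ 0 := fun h => hbs fun x => congrArg (fun f => f x) h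
    rw [LinearMap.range_eq_top.2 (LinearMap.surjective hne), finrank_top, Module.finrank_self, Module.finrank_pi,
      Fintype.card_fin] at h1
    omega
  have hne : ∀ L : (Fin 4 → K) →ₗ[K] K, (∀ x ∈ LinearMap.ker Φ ⊓ LinearMap.ker L, eval x F = 0) →
      IsLine F (LinearMap.ker Φ ⊓ LinearMap.ker L) := by
    intro L hLF
    refine ⟨?_, hLF⟩
    by_cases hle : LinearMap.ker Φ ≤ LinearMap.ker L
    · exfalso
      obtain ⟨a, ha, na⟩ := exists_not_mem_span (![] : Fin 0 → Fin 4 → K) (LinearMap.ker Φ) (by omega)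
      obtain ⟨a', ha', na'⟩ := exists_not_mem_span ![a] (LinearMap.ker Φ) (by omega)
      obtain ⟨a'', ha'', na''⟩ := exists_not_mem_span ![a, a'] (LinearMap.ker Φ) (by omega)
      have l2 : LinearIndependent K ![a, a'] := li2 (fun h => na (h ▸ zero_mem _)) (by simpa using na')
      have l3 := linearIndependent_finSnoc.2 ⟨l2, na''⟩
      rw [show (Fin.snoc ![a, a'] a'' : Fin 3 → Fin 4 → K) = ![a, a', a''] by funext i; fin_cases i <;> rfl] at l3
      rw [inf_eq_left.2 hle] at hLF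
      refine no_plane F hF hirr a a' a'' l3 (line_T_zero F hF hLF ha ha) (line_T_zero F hF hLF ha ha')
        (line_T_zero F hF hLF ha ha'') ?_ ?_ ?_ (line_T_zero F hF hLF ha' ha') (line_T_zero F hF hLF ha' ha'') ?_
        (line_T_zero F hF hLF ha'' ha'')
      · rw [T_symm12, T_symm23]; exact line_T_zero F hF hLF ha' ha
      · have h1 := line_T_zero F hF hLF (add_mem ha ha') ha''
        rw [T_add hF, T_add₂ hF, T_add₂ hF, line_T_zero F hF hLF ha ha'', line_T_zero F hF hLF ha' ha'', T_symm12 F a' a] at h1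
        linear_combination (1 / 2 : K) * h1
      · rw [T_symm12, T_symm23]; exact line_T_zero F hF hLF ha'' ha
      · rw [T_symm12, T_symm23]; exact line_T_zero F hF hLF ha'' ha'
    · have hlt : LinearMap.ker Φ ⊓ LinearMap.ker L < LinearMap.ker Φ :=
        lt_of_le_of_ne inf_le_left fun h => hle (inf_eq_left.1 h)
      have h2 := Submodule.finrank_lt_finrank_of_lt hlt
      have hL0 : L ≠ 0 := fun h => hle (by simp [h])
      have h1 := LinearMap.finrank_range_add_finrank_ker L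
      rw [LinearMap.range_eq_top.2 (LinearMap.surjective hL0), finrank_top, Module.finrank_self, Module.finrank_pi,
        Fintype.card_fin] at h1
      have h3 := Submodule.finrank_sup_add_finrank_inf_eq (LinearMap.ker Φ) (LinearMap.ker L)
      have h4 := (LinearMap.ker Φ ⊔ LinearMap.ker L).finrank_le
      rw [Module.finrank_pi, Fintype.card_fin] at h4
      omega
  have hM : ∀ L, (∀ x, T F b b x = 0 → L x = 0 → eval x F = 0) →
      IsLine F (LinearMap.ker Φ ⊓ LinearMap.ker (L : (Fin 4 → K) →ₗ[K] K)) :=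
    fun L h => hne L fun x hx => h x hx.1 hx.2
  have m1 := hM L₁ fun x h1 h2 => by rw [hL x h1, h2]; ring
  have m2 := hM L₂ fun x h1 h2 => by rw [hL x h1, h2]; ring
  have m3 := hM L₃ fun x h1 h2 => by rw [hL x h1, h2]; ring
  refine (((lines_meeting_finite F hF hirr hcone hSL _ m1).union (lines_meeting_finite F hF hirr hcone hSL _ m2)).union
    (lines_meeting_finite F hF hirr hcone hSL _ m3)).subset fun N hN => ?_
  obtain ⟨x, hx, hx0⟩ := (N ⊓ LinearMap.ker Φ).exists_mem_ne_zero_of_ne_bot (fun h => by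
    have e := Submodule.finrank_sup_add_finrank_inf_eq N (LinearMap.ker Φ)
    have h4 := (N ⊔ LinearMap.ker Φ).finrank_le
    rw [Module.finrank_pi, Fintype.card_fin] at h4
    rw [h, finrank_bot, hN.1, hker] at e
    omega)
  have hprod := hL x hx.2
  rw [hN.2 x hx.1, eq_comm, mul_eq_zero, mul_eq_zero] at hprod
  rcases hprod with (h | h) | h
  · exact Or.inl (Or.inl ⟨hN, x, ⟨hx.1, hx.2, h⟩, hx0⟩)
  · exact Or.inl (Or.inr ⟨hN, x, ⟨hx.1, hx.2, h⟩, hx0⟩)
  · exact Or.inr ⟨hN, x, ⟨hx.1, hx.2, h⟩, hx0⟩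

end NoSL

/-- A T-point lies on a line of the surface. -/
theorem line_through (r : Fin 4 → K) (hr : IsT F r) : ∃ N : Submodule K (Fin 4 → K), IsLine F N ∧ r ∈ N := by
  obtain ⟨hr, hrs, L₁, L₂, L₃, hL⟩ := hr
  have hrrr : T F r r r = 0 := by rw [T_self hF, hr]; ring
  have hr0 : r ≠ 0 := fun h => hrs fun x => by
    rw [h]; simpa using T_smul hF 0 r (0 : Fin 4 → K) x
  obtain ⟨L, hLr, hLv⟩ : ∃ L : (Fin 4 → K) →ₗ[K] K, L r = 0 ∧ ∀ x, T F r r x = 0 → L x = 0 → eval x F = 0 := by
    have h := hL r hrrr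
    rw [hr] at h
    rcases mul_eq_zero.1 h.symm with h | h
    · rcases mul_eq_zero.1 h with h | h
      · exact ⟨L₁, h, fun x h1 h2 => by rw [hL x h1, h2]; ring⟩
      · exact ⟨L₂, h, fun x h1 h2 => by rw [hL x h1, h2]; ring⟩
    · exact ⟨L₃, h, fun x h1 h2 => by rw [hL x h1, h2]; ring⟩
  let Tr : (Fin 4 → K) →ₗ[K] K :=
    { toFun := fun x => T F r r x, map_add' := T_add₃ hF r r, map_smul' := fun c x => T_smul₃ hF c r r x }
  let Ψ : (Fin 4 → K) →ₗ[K] K × K := Tr.prod L
  obtain ⟨x, hxk, hxr⟩ := exists_not_mem_span ![r] (LinearMap.ker Ψ) (by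
    have h1 := LinearMap.finrank_range_add_finrank_ker Ψ
    have h2 := (LinearMap.range Ψ).finrank_le
    rw [Module.finrank_prod, Module.finrank_self] at h2
    rw [Module.finrank_pi, Fintype.card_fin] at h1
    omega)
  have hxk' : T F r r x = 0 ∧ L x = 0 := by simpa [Ψ, Tr] using hxk
  refine ⟨Submodule.span K (Set.range ![r, x]), ⟨?_, fun u hu => ?_⟩, Submodule.subset_span ⟨0, rfl⟩⟩
  · rw [finrank_span_eq_card (li2 hr0 (by simpa using hxr)), Fintype.card_fin]
  · obtain ⟨g, rfl⟩ := (Submodule.mem_span_range_iff_exists_fun K).1 hu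
    refine hLv _ ?_ ?_
    · simp [Fin.sum_univ_two, T_add₃ hF, T_smul₃ hF, hrrr, hxk'.1]
    · simp [Fin.sum_univ_two, hLr, hxk'.2]

section SL

include hirr
variable (a b : Fin 4 → K) (hab : LinearIndependent K ![a, b]) (ha : Sg F a) (hb : Sg F b) (habx : ∀ x, T F a b x = 0)
include hab ha hb habx

omit hirr [IsAlgClosed K] in
theorem SL_sg (x y : K) : Sg F (x • a + y • b) := fun z => by
  rw [Sg_comb F hF ha hb, habx, mul_zero]

/-- Two lines skew to the singular line coincide. -/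
theorem skew_unique (N N' : Submodule K (Fin 4 → K)) (hN : IsLine F N) (hN' : IsLine F N')
    (hd : ∀ u ∈ N, u ∈ Submodule.span K (Set.range ![a, b]) → u = 0)
    (hd' : ∀ u ∈ N', u ∈ Submodule.span K (Set.range ![a, b]) → u = 0) : N = N' := by
  classical
  obtain ⟨e, he, ne⟩ := exists_not_mem_span (![] : Fin 0 → Fin 4 → K) N (by have := hN.1; omega)
  obtain ⟨f, hf, nf⟩ := exists_not_mem_span ![e] N (by have := hN.1; omega)
  have l2 : LinearIndependent K ![e, f] := li2 (fun h => ne (h ▸ zero_mem _)) (by simpa using nf)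
  have hspan : Submodule.span K (Set.range ![e, f]) = N :=
    Submodule.eq_of_le_of_finrank_le (Submodule.span_le.2 (by rintro x ⟨i, rfl⟩; fin_cases i; exacts [he, hf]))
      (by rw [finrank_span_eq_card l2, Fintype.card_fin, hN.1])
  have hsup : Submodule.span K (Set.range ![a, b]) ⊔ N' = ⊤ := by
    refine Submodule.eq_top_of_finrank_eq ?_
    have h := Submodule.finrank_sup_add_finrank_inf_eq (Submodule.span K (Set.range ![a, b])) N'
    rw [show Submodule.span K (Set.range ![a, b]) ⊓ N' = ⊥ from (Submodule.eq_bot_iff _).2 fun u hu => hd' u hu.2 hu.1,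
      finrank_bot, finrank_span_eq_card hab, hN'.1, Fintype.card_fin] at h
    rw [Module.finrank_pi, Fintype.card_fin]
    omega
  have hlift : ∀ y : Fin 4 → K, ∃ α β : K, α • a + β • b + y ∈ N' := fun y => by
    obtain ⟨r, hr, n, hn, hrn⟩ := Submodule.mem_sup.1 (hsup ▸ Submodule.mem_top : y ∈ _)
    obtain ⟨g, rfl⟩ := (Submodule.mem_span_range_iff_exists_fun K).1 hr
    refine ⟨-g 0, -g 1, ?_⟩
    rw [← hrn]
    simp [Fin.sum_univ_two]
    convert hn using 1
    module
  obtain ⟨α₁, β₁, hu⟩ := hlift e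
  obtain ⟨α₂, β₂, hv⟩ := hlift f
  -- the quadrics along the first line
  have heq : ∀ Z W : K, (α₁ * Z + α₂ * W) * (T F a e e * Z ^ 2 + 2 * T F a e f * (Z * W) + T F a f f * W ^ 2)
      + (β₁ * Z + β₂ * W) * (T F b e e * Z ^ 2 + 2 * T F b e f * (Z * W) + T F b f f * W ^ 2) = 0 := by
    intro Z W
    have hy : Z • e + W • f ∈ N := add_mem (N.smul_mem _ he) (N.smul_mem _ hf)
    have h0 := hN'.2 _ (add_mem (N'.smul_mem Z hu) (N'.smul_mem W hv))
    have h6 := six_eval2 hF 1 1 ((α₁ * Z + α₂ * W) • a + (β₁ * Z + β₂ * W) • b) (Z • e + W • f)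
    rw [one_smul, one_smul, show (α₁ * Z + α₂ * W) • a + (β₁ * Z + β₂ * W) • b + (Z • e + W • f)
      = Z • (α₁ • a + β₁ • b + e) + W • (α₂ • a + β₂ • b + f) by module, h0,
      SL_sg F hF a b hab ha hb habx, SL_sg F hF a b hab ha hb habx, line_T_zero F hF hN.2 hy hy] at h6
    simp only [T_add hF, T_smul hF, T_add₂ hF, T_smul₂ hF, T_add₃ hF, T_smul₃ hF, T_symm23 F a f e, T_symm23 F b f e] at h6
    linear_combination (-1 / 3 : K) * h6
  have hcr : ∀ Z W : K, (Z ≠ 0 ∨ W ≠ 0) → T F a e e * Z ^ 2 + 2 * T F a e f * (Z * W) + T F a f f * W ^ 2 = 0 →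
      T F b e e * Z ^ 2 + 2 * T F b e f * (Z * W) + T F b f f * W ^ 2 = 0 → False := by
    intro Z W hZW q0 q1
    have hy : Z • e + W • f ∈ N := add_mem (N.smul_mem _ he) (N.smul_mem _ hf)
    have hy0 : Z • e + W • f ≠ 0 := fun h => by
      have := Fintype.linearIndependent_iff.1 l2 ![Z, W] (by simpa [Fin.sum_univ_two] using h)
      rcases hZW with h' | h'
      exacts [h' (this 0), h' (this 1)]
    have hli : LinearIndependent K ![a, b, Z • e + W • f] := by
      rw [show (![a, b, Z • e + W • f] : Fin 3 → Fin 4 → K) = Fin.snoc ![a, b] (Z • e + W • f) by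
        funext i; fin_cases i <;> rfl]
      exact linearIndependent_finSnoc.2 ⟨hab, fun h => hy0 (hd _ hy h)⟩
    have A : T F a (Z • e + W • f) (Z • e + W • f) = 0 := by
      simp only [T_add₂ hF, T_smul₂ hF, T_add₃ hF, T_smul₃ hF, T_symm23 F a f e]; linear_combination q0
    have B : T F b (Z • e + W • f) (Z • e + W • f) = 0 := by
      simp only [T_add₂ hF, T_smul₂ hF, T_add₃ hF, T_smul₃ hF, T_symm23 F b f e]; linear_combination q1
    exact no_plane F hF hirr a b _ hli (ha a) (ha b) (ha _) (by rw [T_symm12, T_symm23]; exact hb a) (habx _)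
      A (hb b) (hb _) B (line_T_zero F hF hN.2 hy hy)
  have hroot : ∀ P Q R : K, ∃ X Y : K, (X ≠ 0 ∨ Y ≠ 0) ∧ P * X ^ 2 + Q * (X * Y) + R * Y ^ 2 = 0 := by
    intro P Q R
    obtain ⟨l₁, l₂, m₁, m₂, hq⟩ := binary_quad P Q R
    by_cases hm : m₁ = 0 ∧ m₂ = 0
    · exact ⟨1, 0, Or.inl one_ne_zero, by rw [hq, hm.1, hm.2]; ring⟩
    · refine ⟨m₂, -m₁, ?_, by rw [hq]; ring⟩
      by_contra hh; push Not at hh; exact hm ⟨neg_eq_zero.1 hh.2, hh.1⟩
  obtain ⟨l₁, l₂, m₁, m₂, hq⟩ := binary_quad (T F a e e) (2 * T F a e f) (T F a f f)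
  have hl : (l₁ ≠ 0 ∨ l₂ ≠ 0) ∧ (m₁ ≠ 0 ∨ m₂ ≠ 0) := by
    constructor <;>
    · by_contra hh
      push Not at hh
      obtain ⟨Z, W, hZW, q1⟩ := hroot (T F b e e) (2 * T F b e f) (T F b f f)
      exact hcr Z W hZW (by rw [hq, hh.1, hh.2]; ring) q1
  have hat : ∀ Z W : K, (Z ≠ 0 ∨ W ≠ 0) → (l₁ * Z + l₂ * W) * (m₁ * Z + m₂ * W) = 0 → β₁ * Z + β₂ * W = 0 := by
    intro Z W hZW h0
    have := heq Z W
    rw [hq, h0, mul_zero, zero_add, mul_eq_zero] at this
    exact this.resolve_right fun h => hcr Z W hZW ((hq Z W).trans h0) h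
  have e1 := hat l₂ (-l₁) (hl.1.elim (fun h => Or.inr (neg_ne_zero.2 h)) Or.inl) (by ring)
  have e2 := hat m₂ (-m₁) (hl.2.elim (fun h => Or.inr (neg_ne_zero.2 h)) Or.inl) (by ring)
  have hβ : β₁ = 0 ∧ β₂ = 0 := by
    by_cases hdist : l₁ * m₂ - l₂ * m₁ = 0
    · -- a double root
      by_contra hne
      obtain ⟨w₁, w₂, hw⟩ : ∃ w₁ w₂ : K, β₁ * w₁ + β₂ * w₂ ≠ 0 := by
        by_contra hh
        push Not at hh
        exact hne ⟨by simpa using hh 1 0, by simpa using hh 0 1⟩
      have hmz : m₁ * l₂ + m₂ * -l₁ = 0 := by linear_combination -hdist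
      have hz : ∀ t : K, 0 + t * ((β₁ * w₁ + β₂ * w₂) * (T F b e e * l₂ ^ 2 + 2 * T F b e f * (l₂ * -l₁) + T F b f f * l₁ ^ 2))
          + t ^ 2 * ((α₁ * l₂ + α₂ * -l₁) * ((l₁ * w₁ + l₂ * w₂) * (m₁ * w₁ + m₂ * w₂))
            + (β₁ * w₁ + β₂ * w₂) * (2 * T F b e e * l₂ * w₁ + 2 * T F b e f * (l₂ * w₂ - l₁ * w₁) + 2 * T F b f f * -l₁ * w₂))
          + t ^ 3 * ((α₁ * w₁ + α₂ * w₂) * ((l₁ * w₁ + l₂ * w₂) * (m₁ * w₁ + m₂ * w₂))
            + (β₁ * w₁ + β₂ * w₂) * (T F b e e * w₁ ^ 2 + 2 * T F b e f * (w₁ * w₂) + T F b f f * w₂ ^ 2)) = 0 := fun t => by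
        have h := heq (l₂ + t * w₁) (-l₁ + t * w₂)
        rw [hq] at h
        linear_combination h - (α₁ * (l₂ + t * w₁) + α₂ * (-l₁ + t * w₂)) * (t * (l₁ * w₁ + l₂ * w₂)) * hmz
          - (T F b e e * (l₂ + t * w₁) ^ 2 + 2 * T F b e f * ((l₂ + t * w₁) * (-l₁ + t * w₂)) + T F b f f * (-l₁ + t * w₂) ^ 2) * e1
      obtain ⟨-, h, -, -⟩ := coeff_zero hz
      refine hcr l₂ (-l₁) (hl.1.elim (fun h => Or.inr (neg_ne_zero.2 h)) Or.inl) (by rw [hq]; ring) ?_
      have := (mul_eq_zero.1 h).resolve_left hw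
      linear_combination this
    · exact ⟨(mul_eq_zero.1 (by linear_combination l₁ * e2 - m₁ * e1 : (l₁ * m₂ - l₂ * m₁) * β₁ = 0)).resolve_left hdist,
        (mul_eq_zero.1 (by linear_combination l₂ * e2 - m₂ * e1 : (l₁ * m₂ - l₂ * m₁) * β₂ = 0)).resolve_left hdist⟩
  have hα : α₁ = 0 ∧ α₂ = 0 := by
    obtain ⟨hb1, hb2⟩ := hβ
    have hA : ∀ Z W : K, (α₁ * Z + α₂ * W) * (T F a e e * Z ^ 2 + 2 * T F a e f * (Z * W) + T F a f f * W ^ 2) = 0 := fun Z W => by
      have := heq Z W; rw [hb1, hb2] at this; linear_combination this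
    let pA : Polynomial K := Polynomial.C α₁ + Polynomial.C α₂ * Polynomial.X
    let pQ : Polynomial K := Polynomial.C (T F a e e) + Polynomial.C (2 * T F a e f) * Polynomial.X + Polynomial.C (T F a f f) * Polynomial.X ^ 2
    have h : pA * pQ = 0 := Polynomial.funext fun t => by
      have := hA 1 t
      simp only [pA, pQ, Polynomial.eval_mul, Polynomial.eval_add, Polynomial.eval_C, Polynomial.eval_X,
        Polynomial.eval_pow, Polynomial.eval_zero]
      linear_combination this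
    rcases mul_eq_zero.1 h with h | h
    · have e0 := congrArg (fun q => Polynomial.coeff q 0) h
      have e1 := congrArg (fun q => Polynomial.coeff q 1) h
      simp [pA] at e0 e1
      exact ⟨e0, e1⟩
    · exfalso
      have hz : ∀ t : K, T F a e e + t * (2 * T F a e f) + t ^ 2 * T F a f f + t ^ 3 * 0 = 0 := fun t => by
        have := congrArg (Polynomial.eval t) h
        simp [pQ] at this
        linear_combination this
      obtain ⟨c1, c2, c3, -⟩ := coeff_zero hz
      obtain ⟨Z, W, hZW, q1⟩ := hroot (T F b e e) (2 * T F b e f) (T F b f f)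
      exact hcr Z W hZW (by rw [c1, c2, c3]; ring) q1
  refine Submodule.eq_of_le_of_finrank_le ?_ (by rw [hN.1, hN'.1])
  rw [← hspan]
  refine Submodule.span_le.2 ?_
  rintro x ⟨i, rfl⟩
  fin_cases i
  · simpa [hα.1, hβ.1] using hu
  · simpa [hα.2, hβ.2] using hv

/-- With a singular line the T-points lie on finitely many lines. -/
theorem SL_cover (hcone : ¬ ∃ v : Fin 4 → K, v ≠ 0 ∧ ∑ i : Fin 4, v i • MvPolynomial.pderiv i F = 0) :
    ∃ S : Set (Submodule K (Fin 4 → K)), S.Finite ∧ (∀ N ∈ S, IsLine F N) ∧ ∀ x, IsT F x → ∃ N ∈ S, x ∈ N := by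
  classical
  obtain ⟨e, f, B, hB⟩ := extend4 hab
  have a1 : ∀ y, T F a a y = 0 := ha
  have b1 : ∀ y, T F b b y = 0 := hb
  have a2 : ∀ y, T F a b y = 0 := habx
  have a3 : ∀ y, T F b a y = 0 := fun y => by rw [T_symm12]; exact habx y
  have a4 : ∀ y, T F a y a = 0 := fun y => by rw [T_symm23]; exact ha y
  have a5 : ∀ y, T F a y b = 0 := fun y => by rw [T_symm23]; exact habx y
  have b4 : ∀ y, T F b y b = 0 := fun y => by rw [T_symm23]; exact hb y
  have b5 : ∀ y, T F b y a = 0 := fun y => by rw [T_symm23]; exact a3 y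
  have hne : ∀ u v : K, (u ≠ 0 ∨ v ≠ 0) → u • a + v • b ≠ 0 := fun u v huv h => by
    have := Fintype.linearIndependent_iff.1 hab ![u, v] (by simpa [Fin.sum_univ_two] using h)
    rcases huv with hu | hv
    exacts [hu (this 0), hv (this 1)]
  -- no point of the line has vanishing cone
  have hq0 : ∀ u v : K, (u ≠ 0 ∨ v ≠ 0) → ¬ (u * T F a e e + v * T F b e e = 0 ∧ u * T F a e f + v * T F b e f = 0 ∧
      u * T F a f f + v * T F b f f = 0) := by
    rintro u v huv ⟨c1, c2, c3⟩
    apply Qv_ne_zero F hF hcone (hne u v huv)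
    refine MvPolynomial.funext fun z => ?_
    obtain ⟨x, y, g, g', rfl⟩ := coords4 B hB z
    rw [eval_Qv F hF, map_zero (eval _), T_symm23 F _ _ (u • a + v • b), T_symm12 F _ (u • a + v • b)]
    simp only [T_add hF, T_smul hF, T_add₂ hF, T_smul₂ hF, T_add₃ hF, T_smul₃ hF, a1, b1, a2, a3, a4, a5, b4, b5,
      T_symm23 F a f e, T_symm23 F b f e]
    linear_combination (g ^ 2 / 2) * c1 + (g * g') * c2 + (g' ^ 2 / 2) * c3
  obtain ⟨l₁, l₂, m₁, m₂, hdet⟩ := binary_quad (T F a e e * T F a f f - T F a e f ^ 2)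
    (T F a e e * T F b f f + T F b e e * T F a f f - 2 * T F a e f * T F b e f)
    (T F b e e * T F b f f - T F b e f ^ 2)
  have hlm : (l₁ ≠ 0 ∨ l₂ ≠ 0) ∧ (m₁ ≠ 0 ∨ m₂ ≠ 0) := by
    by_contra hzero
    have h0 : ∀ y z : K, (T F a e e * T F a f f - T F a e f ^ 2) * y ^ 2
        + (T F a e e * T F b f f + T F b e e * T F a f f - 2 * T F a e f * T F b e f) * (y * z)
        + (T F b e e * T F b f f - T F b e f ^ 2) * z ^ 2 = 0 := fun y z => by
      rw [hdet]
      simp only [not_and_or, not_or, not_not] at hzero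
      rcases hzero with ⟨h1, h2⟩ | ⟨h1, h2⟩ <;> rw [h1, h2] <;> ring
    have q1 := h0 1 0
    have q2 := h0 0 1
    have q3 := h0 1 1
    have p1 : T F a e e * T F a f f = T F a e f ^ 2 := by linear_combination q1
    have p2 : T F b e e * T F b f f = T F b e f ^ 2 := by linear_combination q2
    have p3 : T F a e e * T F b f f + T F b e e * T F a f f - 2 * T F a e f * T F b e f = 0 := by
      linear_combination q3 - q1 - q2
    by_cases h00 : T F a e e = 0 ∧ T F b e e = 0
    · obtain ⟨h1, h2⟩ := h00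
      have h1' : T F a e f = 0 := pow_eq_zero_iff two_ne_zero |>.1 (by rw [← p1, h1, zero_mul])
      have h2' : T F b e f = 0 := pow_eq_zero_iff two_ne_zero |>.1 (by rw [← p2, h2, zero_mul])
      by_cases h22 : T F a f f = 0 ∧ T F b f f = 0
      · exact hq0 1 0 (Or.inl one_ne_zero) ⟨by rw [h1]; ring, by rw [h1']; ring, by rw [h22.1]; ring⟩
      · refine hq0 (T F b f f) (-T F a f f) ?_ ⟨by rw [h1, h2]; ring, by rw [h1', h2']; ring, by ring⟩
        by_contra hh; push Not at hh
        exact h22 ⟨neg_eq_zero.1 hh.2, hh.1⟩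
    · have hsq : T F b e e * T F a e f + -T F a e e * T F b e f = 0 := by
        have : (T F b e e * T F a e f + -T F a e e * T F b e f) ^ 2 = 0 := by
          linear_combination (T F a e e * T F b e e) * p3 - T F b e e ^ 2 * p1 - T F a e e ^ 2 * p2
        exact pow_eq_zero_iff two_ne_zero |>.1 this
      refine hq0 (T F b e e) (-T F a e e) ?_ ⟨by ring, hsq, ?_⟩
      · by_contra hh; push Not at hh
        exact h00 ⟨neg_eq_zero.1 hh.2, hh.1⟩
      · by_cases h0a : T F a e e = 0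
        · have h1' : T F a e f = 0 := pow_eq_zero_iff two_ne_zero |>.1 (by rw [← p1, h0a, zero_mul])
          rw [h0a, h1'] at p3
          rw [h0a]; linear_combination p3
        · have : T F a e e * (T F b e e * T F a f f + -T F a e e * T F b f f) = 0 := by
            linear_combination 2 * T F a e f * hsq + 2 * T F b e e * p1 - T F a e e * p3
          exact (mul_eq_zero.1 this).resolve_left h0a
  -- torsal lines through a degenerate point of the singular line
  have htor : ∀ u v : K, (u ≠ 0 ∨ v ≠ 0) → (l₁ * u + l₂ * v) * (m₁ * u + m₂ * v) = 0 →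
      ∃ S : Set (Submodule K (Fin 4 → K)), S.Finite ∧ (∀ N ∈ S, IsLine F N) ∧
        ∀ x, eval x F = 0 → ¬ Sg F x → (∀ z, T F (u • a + v • b) x z = 0) → ∃ N ∈ S, x ∈ N := by
    intro u v huv h0
    have hd := hdet u v
    rw [h0] at hd
    set A := u * T F a e e + v * T F b e e with hA
    set B₁ := u * T F a e f + v * T F b e f with hB₁
    set C₁ := u * T F a f f + v * T F b f f with hC₁
    have hdet0 : A * C₁ = B₁ ^ 2 := by rw [hA, hB₁, hC₁]; linear_combination hd
    obtain ⟨κ, hκ0, hκ⟩ : ∃ κ : Fin 4 → K, κ ∉ Submodule.span K (Set.range ![a, b]) ∧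
        ∀ γ δ : K, γ * A + δ * B₁ = 0 → γ * B₁ + δ * C₁ = 0 → ∃ c, γ • e + δ • f = c • κ := by
      by_cases hA0 : A = 0
      · have hB0 : B₁ = 0 := pow_eq_zero_iff two_ne_zero |>.1 (by rw [← hdet0, hA0, zero_mul])
        have hC0 : C₁ ≠ 0 := fun h => hq0 u v huv ⟨hA0, hB0, h⟩
        refine ⟨e, fun h => ?_, fun γ δ _ h2 => ⟨γ, ?_⟩⟩
        · obtain ⟨g, hg⟩ := (Submodule.mem_span_range_iff_exists_fun K).1 h
          simp [Fin.sum_univ_two] at hg
          exact one_ne_zero (coords4_zero B hB (-g 0) (-g 1) 1 0 (by linear_combination (norm := module) -hg)).2.2.1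
        · have : δ = 0 := by rw [hB0] at h2; simpa [hC0] using h2
          rw [this, zero_smul, add_zero]
      · refine ⟨(-B₁) • e + A • f, fun h => ?_, fun γ δ h1 _ => ⟨δ / A, ?_⟩⟩
        · obtain ⟨g, hg⟩ := (Submodule.mem_span_range_iff_exists_fun K).1 h
          simp [Fin.sum_univ_two] at hg
          exact hA0 (coords4_zero B hB (-g 0) (-g 1) (-B₁) A (by linear_combination (norm := module) -hg)).2.2.2
        · have hγ : γ = δ / A * -B₁ := by field_simp; linear_combination h1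
          rw [hγ]; match_scalars <;> field_simp
    have l3 : LinearIndependent K ![a, b, κ] := by
      rw [show (![a, b, κ] : Fin 3 → Fin 4 → K) = Fin.snoc ![a, b] κ by funext i; fin_cases i <;> rfl]
      exact linearIndependent_finSnoc.2 ⟨hab, hκ0⟩
    have hF3 : ∀ X Y Z : K, 6 * eval (X • a + Y • b + Z • κ) F =
        Z ^ 2 * (3 * X * T F a κ κ + 3 * Y * T F b κ κ + Z * T F κ κ κ) := fun X Y Z => by
      rw [six_eval3 hF, ha a, ha b, ha κ, habx κ, show T F a b b = 0 by rw [T_symm12, T_symm23]; exact hb a, hb b, hb κ]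
      ring
    have hcov : ∀ x, eval x F = 0 → ¬ Sg F x → (∀ z, T F (u • a + v • b) x z = 0) →
        ∃ X Y Z : K, x = X • a + Y • b + Z • κ ∧ 3 * X * T F a κ κ + 3 * Y * T F b κ κ + Z * T F κ κ κ = 0 ∧ Z ≠ 0 := by
      intro x hx hns hz
      obtain ⟨X, Y, γ, δ, rfl⟩ := coords4 B hB x
      have he := hz e
      have hf := hz f
      simp only [T_add hF, T_smul hF, T_add₂ hF, T_smul₂ hF, a1, b1, a2, a3, T_symm23 F a f e, T_symm23 F b f e] at he hf
      obtain ⟨c, hc⟩ := hκ γ δ (by rw [hA, hB₁]; linear_combination he) (by rw [hB₁, hC₁]; linear_combination hf)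
      have hx' : X • a + Y • b + γ • e + δ • f = X • a + Y • b + c • κ := by rw [← hc]; abel
      have hc0 : c ≠ 0 := fun h => hns (by rw [hx', h, zero_smul, add_zero]; exact SL_sg F hF a b hab ha hb habx X Y)
      have h6 := hF3 X Y c
      rw [← hx', hx, mul_zero] at h6
      exact ⟨X, Y, c, hx', (mul_eq_zero.1 h6.symm).resolve_left (pow_ne_zero _ hc0), hc0⟩
    have hline : ∀ w₀ w₁ : Fin 4 → K, LinearIndependent K ![w₀, w₁] →
        (∀ p q : K, eval (p • w₀ + q • w₁) F = 0) → IsLine F (Submodule.span K (Set.range ![w₀, w₁])) := by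
      intro w₀ w₁ hl hev
      refine ⟨by rw [finrank_span_eq_card hl, Fintype.card_fin], fun x hx => ?_⟩
      obtain ⟨g, rfl⟩ := (Submodule.mem_span_range_iff_exists_fun K).1 hx
      simpa [Fin.sum_univ_two] using hev (g 0) (g 1)
    by_cases hA' : T F a κ κ = 0
    · by_cases hB' : T F b κ κ = 0
      · have hk : T F κ κ κ ≠ 0 := fun h =>
          no_plane F hF hirr a b κ l3 (ha a) (ha b) (ha κ) (by rw [T_symm12, T_symm23]; exact hb a) (habx κ) hA'
            (hb b) (hb κ) hB' h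
        refine ⟨∅, Set.finite_empty, fun N hN => hN.elim, fun x hx hns hz => ?_⟩
        obtain ⟨X, Y, Z, -, he, hZ⟩ := hcov x hx hns hz
        rw [hA', hB'] at he
        simp [hk, hZ] at he
      · refine ⟨{Submodule.span K (Set.range ![a, (-T F κ κ κ / (3 * T F b κ κ)) • b + κ])}, Set.finite_singleton _,
          fun N hN => hN ▸ hline _ _ (li2 (by simpa using hab.ne_zero 0) ?_) (fun p q => ?_), fun x hx hns hz => ?_⟩
        · intro h
          obtain ⟨c, hc⟩ := Submodule.mem_span_singleton.1 h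
          have := Fintype.linearIndependent_iff.1 l3 ![-c, -T F κ κ κ / (3 * T F b κ κ), 1] (by
            simp [Fin.sum_univ_three]; linear_combination (norm := module) -hc)
          exact one_ne_zero (this 2)
        · have := hF3 p (q * (-T F κ κ κ / (3 * T F b κ κ))) q
          rw [show p • a + q • ((-T F κ κ κ / (3 * T F b κ κ)) • b + κ)
            = p • a + (q * (-T F κ κ κ / (3 * T F b κ κ))) • b + q • κ by module]
          have e : 3 * p * T F a κ κ + 3 * (q * (-T F κ κ κ / (3 * T F b κ κ))) * T F b κ κ + q * T F κ κ κ = 0 := by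
            rw [hA']; field_simp; ring
          rw [e, mul_zero] at this
          linear_combination (1 / 6 : K) * this
        · obtain ⟨X, Y, Z, rfl, he, hZ⟩ := hcov x hx hns hz
          refine ⟨_, rfl, (Submodule.mem_span_range_iff_exists_fun K).2 ⟨![X, Z], ?_⟩⟩
          have hY : Y = Z * (-T F κ κ κ / (3 * T F b κ κ)) := by
            rw [hA'] at he; field_simp; linear_combination he
          simp [Fin.sum_univ_two, hY]; module
    · refine ⟨{Submodule.span K (Set.range ![(-T F b κ κ / T F a κ κ) • a + b, (-T F κ κ κ / (3 * T F a κ κ)) • a + κ])},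
        Set.finite_singleton _, fun N hN => hN ▸ hline _ _ ?_ (fun p q => ?_), fun x hx hns hz => ?_⟩
      · rw [Fintype.linearIndependent_iff]
        intro g hg
        have := Fintype.linearIndependent_iff.1 l3
          ![g 0 * (-T F b κ κ / T F a κ κ) + g 1 * (-T F κ κ κ / (3 * T F a κ κ)), g 0, g 1] (by
            simp [Fin.sum_univ_two] at hg
            simp [Fin.sum_univ_three]; linear_combination (norm := module) hg)
        intro i; fin_cases i
        exacts [this 1, this 2]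
      · have := hF3 (p * (-T F b κ κ / T F a κ κ) + q * (-T F κ κ κ / (3 * T F a κ κ))) p q
        rw [show p • ((-T F b κ κ / T F a κ κ) • a + b) + q • ((-T F κ κ κ / (3 * T F a κ κ)) • a + κ)
          = (p * (-T F b κ κ / T F a κ κ) + q * (-T F κ κ κ / (3 * T F a κ κ))) • a + p • b + q • κ by module]
        have e : 3 * (p * (-T F b κ κ / T F a κ κ) + q * (-T F κ κ κ / (3 * T F a κ κ))) * T F a κ κ
            + 3 * p * T F b κ κ + q * T F κ κ κ = 0 := by field_simp; ring
        rw [e, mul_zero] at this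
        linear_combination (1 / 6 : K) * this
      · obtain ⟨X, Y, Z, rfl, he, hZ⟩ := hcov x hx hns hz
        refine ⟨_, rfl, (Submodule.mem_span_range_iff_exists_fun K).2 ⟨![Y, Z], ?_⟩⟩
        have hX : X = Y * (-T F b κ κ / T F a κ κ) + Z * (-T F κ κ κ / (3 * T F a κ κ)) := by
          field_simp; linear_combination he
        simp [Fin.sum_univ_two, hX]; module
  obtain ⟨S₁, hf1, hS1, hc1⟩ := htor l₂ (-l₁) (hlm.1.elim (fun h => Or.inr (neg_ne_zero.2 h)) Or.inl) (by ring)
  obtain ⟨S₂, hf2, hS2, hc2⟩ := htor m₂ (-m₁) (hlm.2.elim (fun h => Or.inr (neg_ne_zero.2 h)) Or.inl) (by ring)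
  let S₀ : Set (Submodule K (Fin 4 → K)) :=
    {N | IsLine F N ∧ ∀ u ∈ N, u ∈ Submodule.span K (Set.range ![a, b]) → u = 0}
  have hf0 : S₀.Finite := Set.Subsingleton.finite fun N hN N' hN' =>
    skew_unique F hF hirr a b hab ha hb habx N N' hN.1 hN'.1 hN.2 hN'.2
  refine ⟨S₀ ∪ (S₁ ∪ S₂), hf0.union (hf1.union hf2), ?_, fun x hx => ?_⟩
  · rintro N (h | h | h)
    exacts [h.1, hS1 N h, hS2 N h]
  obtain ⟨hxF, hns, hprod⟩ := hx
  have hxxx : T F x x x = 0 := by rw [T_self hF, hxF]; ring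
  have hxs : x ∉ Submodule.span K (Set.range ![a, b]) := fun h => by
    obtain ⟨g, hg⟩ := (Submodule.mem_span_range_iff_exists_fun K).1 h
    exact hns (by rw [← hg]; simpa [Fin.sum_univ_two] using SL_sg F hF a b hab ha hb habx (g 0) (g 1))
  let X := T F x x b
  let Y := -T F x x a
  let s := X • a + Y • b
  obtain ⟨ab, habL, hxab⟩ : ∃ ab, ab ∈ Submodule.span K (Set.range ![a, b]) ∧ T F x x ab ≠ 0 := by
    by_contra hh
    push Not at hh
    have h1 := hh a (Submodule.subset_span ⟨0, rfl⟩)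
    have h2 := hh b (Submodule.subset_span ⟨1, rfl⟩)
    have hli : LinearIndependent K ![a, b, x] := by
      rw [show (![a, b, x] : Fin 3 → Fin 4 → K) = Fin.snoc ![a, b] x by funext i; fin_cases i <;> rfl]
      exact linearIndependent_finSnoc.2 ⟨hab, hxs⟩
    exact no_plane F hF hirr a b x hli (ha a) (ha b) (ha x) (by rw [T_symm12, T_symm23]; exact hb a) (habx x)
      (by rw [T_symm12, T_symm23]; exact h1) (hb b) (hb x) (by rw [T_symm12, T_symm23]; exact h2) hxxx
  obtain ⟨g, hg⟩ := (Submodule.mem_span_range_iff_exists_fun K).1 habL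
  simp [Fin.sum_univ_two] at hg
  have hs : Sg F s := SL_sg F hF a b hab ha hb habx X Y
  have hxxs : T F x x s = 0 := by simp only [s, X, Y, T_add₃ hF, T_smul₃ hF]; ring
  have hXY : X ≠ 0 ∨ Y ≠ 0 := by
    by_contra hh
    push Not at hh
    refine hxab ?_
    rw [← hg, T_add₃ hF, T_smul₃ hF, T_smul₃ hF, show T F x x b = 0 from hh.1,
      show T F x x a = 0 from neg_eq_zero.1 hh.2]
    ring
  by_cases htors : ∀ z, T F s x z = 0
  · obtain ⟨γ₁, δ₁, γ, δ, hxc⟩ := coords4 B hB x
    have he := htors e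
    have hf := htors f
    rw [hxc] at he hf
    simp only [s, T_add hF, T_smul hF, T_add₂ hF, T_smul₂ hF, a1, b1, a2, a3, T_symm23 F a f e, T_symm23 F b f e] at he hf
    have hgd : γ ≠ 0 ∨ δ ≠ 0 := by
      by_contra hh; push Not at hh
      exact hxs ((Submodule.mem_span_range_iff_exists_fun K).2 ⟨![γ₁, δ₁], by rw [hxc, hh.1, hh.2]; simp [Fin.sum_univ_two]⟩)
    have hd : (X * T F a e e + Y * T F b e e) * (X * T F a f f + Y * T F b f f)
        - (X * T F a e f + Y * T F b e f) ^ 2 = 0 := by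
      rcases hgd with hg | hg
      · refine (mul_eq_zero.1 (?_ : γ * _ = 0)).resolve_left hg
        linear_combination (X * T F a f f + Y * T F b f f) * he - (X * T F a e f + Y * T F b e f) * hf
      · refine (mul_eq_zero.1 (?_ : δ * _ = 0)).resolve_left hg
        linear_combination (X * T F a e e + Y * T F b e e) * hf - (X * T F a e f + Y * T F b e f) * he
    have hprod' : (l₁ * X + l₂ * Y) * (m₁ * X + m₂ * Y) = 0 := by rw [← hdet]; linear_combination hd
    have key : ∀ w₁ w₂ : K, (w₁ ≠ 0 ∨ w₂ ≠ 0) → w₁ * X + w₂ * Y = 0 → ∀ z, T F (w₂ • a + (-w₁) • b) x z = 0 := by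
      intro w₁ w₂ hw he' z
      have hz := htors z
      simp only [s, T_add hF, T_smul hF] at hz ⊢
      rcases hXY with h | h
      · refine (mul_eq_zero.1 (?_ : X * _ = 0)).resolve_left h
        linear_combination w₂ * hz - T F b x z * he'
      · refine (mul_eq_zero.1 (?_ : Y * _ = 0)).resolve_left h
        linear_combination -w₁ * hz + T F a x z * he'
    rcases mul_eq_zero.1 hprod' with h | h
    · obtain ⟨N, hN, hxN⟩ := hc1 x hxF hns (key _ _ hlm.1 h)
      exact ⟨N, Or.inr (Or.inl hN), hxN⟩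
    · obtain ⟨N, hN, hxN⟩ := hc2 x hxF hns (key _ _ hlm.2 h)
      exact ⟨N, Or.inr (Or.inr hN), hxN⟩
  · push Not at htors
    obtain ⟨c₁, hc₁⟩ := htors
    have hsxx : T F s x x = 0 := by rw [T_symm12, T_symm23]; exact hxxs
    have hsxa : T F s x ab = 0 := by
      rw [T_symm23, ← hg]
      simp [s, T_add hF, T_smul hF, T_add₂ hF, T_smul₂ hF, a1, b1, a2, a3]
    let t := -T F x x c₁ / T F x x ab
    let d := c₁ + t • ab
    have hxd : T F x x d = 0 := by simp only [d, t, T_add₃ hF, T_smul₃ hF]; field_simp; ring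
    have hσ : T F s x d ≠ 0 := by simp only [d, T_add₃ hF, T_smul₃ hF, hsxa, mul_zero, add_zero]; exact hc₁
    have hx1 : (0 : K) • s + (1 : K) • x = x := by simp
    have hΔ := disc_of_prod F hF s x d (hs s) (hs x) hsxx hxxx 0 1 (by rw [hx1]; exact hxd) (by rw [hx1]; exact hprod)
    rw [hs d, hxd] at hΔ
    have h3 : 2 * T F s x d * T F d d d = 3 * T F s d d * T F x d d :=
      mul_left_cancel₀ hσ (by linear_combination (-1 / 2 : K) * hΔ)
    let P := T F x d d • s + T F s d d • x + (-2 * T F s x d) • d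
    have hP1 : T F x x P = 0 := by simp only [P, T_add₃ hF, T_smul₃ hF, hxxs, hxxx, hxd]; ring
    have hP2 : T F x P P = 0 := by
      simp only [P, T_add₂ hF, T_smul₂ hF, T_add₃ hF, T_smul₃ hF, T_symm23 F x x s, T_symm23 F x s s,
        T_symm12 F x s s, T_symm23 F s x s, hs x, T_symm12 F x s x, T_symm23 F x d s, T_symm12 F x s d,
        T_symm23 F x d x, hsxx, hxxs, hxxx, hxd]
      ring
    have hP3 : eval P F = 0 := by
      have h6 := six_eval3 hF (T F x d d) (T F s d d) (-2 * T F s x d) s x d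
      rw [hs s, hs x, hs d, hsxx, hxxx, hxd] at h6
      linear_combination (1 / 6 : K) * h6 + (-2 / 3 : K) * T F s x d ^ 2 * h3
    have hLI : ∀ p q : K, p • x + q • P ∈ Submodule.span K (Set.range ![a, b]) → p = 0 ∧ q = 0 := by
      intro p q hm
      obtain ⟨G, hG⟩ := (Submodule.mem_span_range_iff_exists_fun K).1 hm
      simp [Fin.sum_univ_two] at hG
      have h := congrArg (fun z => T F s x z) hG
      simp only [T_add₃ hF, T_smul₃ hF, P] at h
      have za : T F s x a = 0 := by rw [T_symm23]; simp [s, T_add hF, T_smul hF, a1, a3]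
      have zb : T F s x b = 0 := by rw [T_symm23]; simp [s, T_add hF, T_smul hF, a2, b1]
      rw [za, zb, hsxx, show T F s x s = 0 by rw [T_symm23]; exact hs x] at h
      have hq : q = 0 := by
        have : q * T F s x d ^ 2 = 0 := by linear_combination (1 / 2 : K) * h
        simpa [hσ] using this
      refine ⟨?_, hq⟩
      by_contra hp
      rw [hq, zero_smul, add_zero] at hm
      exact hxs (by simpa [hp] using Submodule.smul_mem _ p⁻¹ hm)
    have hli : LinearIndependent K ![x, P] := by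
      rw [Fintype.linearIndependent_iff]
      intro G hG
      obtain ⟨e0, e1⟩ := hLI (G 0) (G 1) (by simp [Fin.sum_univ_two] at hG; rw [hG]; exact zero_mem _)
      intro i; fin_cases i <;> assumption
    refine ⟨Submodule.span K (Set.range ![x, P]),
      Or.inl ⟨⟨by rw [finrank_span_eq_card hli, Fintype.card_fin], fun u hu => ?_⟩, fun u hu hL => ?_⟩,
      Submodule.subset_span ⟨0, rfl⟩⟩
    · obtain ⟨G, rfl⟩ := (Submodule.mem_span_range_iff_exists_fun K).1 hu
      have h6 := six_eval2 hF (G 0) (G 1) x P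
      rw [hxxx, hP1, hP2, T_self hF P, hP3] at h6
      simp [Fin.sum_univ_two]
      linear_combination (1 / 6 : K) * h6
    · obtain ⟨G, rfl⟩ := (Submodule.mem_span_range_iff_exists_fun K).1 hu
      simp only [Fin.sum_univ_two, Matrix.cons_val_zero, Matrix.cons_val_one, Matrix.cons_val] at hL ⊢
      obtain ⟨e0, e1⟩ := hLI _ _ hL
      rw [e0, e1]; simp

end SL

/-- Finitely many T-points, up to scalars, in the tangent plane at a non-T-point. -/
theorem T_finite (hirr : Irreducible F)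
    (hcone : ¬ ∃ v : Fin 4 → K, v ≠ 0 ∧ ∑ i : Fin 4, v i • MvPolynomial.pderiv i F = 0)
    (a : Fin 4 → K) (hFa : eval a F = 0) (hna : ¬ Sg F a) (hnp : ¬ IsProd F a) :
    ∃ P : Set (Fin 4 → K), P.Finite ∧ ∀ b, b ≠ 0 → T F a a b = 0 → IsT F b → ∃ v ∈ P, b ∈ Submodule.span K {v} := by
  classical
  obtain ⟨S, hSf, hSl, hScov⟩ : ∃ S : Set (Submodule K (Fin 4 → K)), S.Finite ∧ (∀ N ∈ S, IsLine F N) ∧
      ∀ x, IsT F x → ∃ N ∈ S, x ∈ N := by
    by_cases hSL : ∃ a b : Fin 4 → K, LinearIndependent K ![a, b] ∧ Sg F a ∧ Sg F b ∧ ∀ x, T F a b x = 0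
    · obtain ⟨a₀, b₀, hab, ha₀, hb₀, habx⟩ := hSL
      exact SL_cover F hF hirr a₀ b₀ hab ha₀ hb₀ habx hcone
    push Not at hSL
    have hSL' : ∀ a b : Fin 4 → K, LinearIndependent K ![a, b] → Sg F a → Sg F b → (∀ x, T F a b x = 0) → False :=
      fun a b h1 h2 h3 h4 => by obtain ⟨x, hx⟩ := hSL a b h1 h2 h3; exact hx (h4 x)
    by_cases hT : ∃ b, IsT F b
    · obtain ⟨b₀, hb₀⟩ := hT
      refine ⟨_, lines_finite F hF hirr hcone hSL' b₀ hb₀, fun N hN => hN, fun x hx => ?_⟩
      obtain ⟨N, hN, hxN⟩ := line_through F hF x hx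
      exact ⟨N, hN, hxN⟩
    · exact ⟨∅, Set.finite_empty, fun N hN => hN.elim, fun x hx => absurd ⟨x, hx⟩ hT⟩
  have hper : ∀ N ∈ S, ∃ P : Set (Fin 4 → K), P.Finite ∧
      ∀ b ∈ N, b ≠ 0 → T F a a b = 0 → IsT F b → ∃ v ∈ P, b ∈ Submodule.span K {v} := by
    intro N hN
    by_cases hle : ∀ u ∈ N, T F a a u = 0
    · obtain ⟨P, hP, h⟩ := line_in_plane F hF a hFa hna hnp N (hSl N hN) hle
      exact ⟨P, hP, fun b hb hb0 _ hbT => h b hb hb0 hbT⟩
    · push Not at hle
      obtain ⟨u, hu, hu0⟩ := hle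
      by_cases hex : ∃ v ∈ N, v ≠ 0 ∧ T F a a v = 0
      · obtain ⟨v, hv, hv0, hva⟩ := hex
        have hli : LinearIndependent K ![v, u] := li2 hv0 fun h => by
          obtain ⟨c, hc⟩ := Submodule.mem_span_singleton.1 h
          exact hu0 (by rw [← hc, T_smul₃ hF, hva, mul_zero])
        have hspan : Submodule.span K (Set.range ![v, u]) = N :=
          Submodule.eq_of_le_of_finrank_le (Submodule.span_le.2 (by rintro x ⟨i, rfl⟩; fin_cases i; exacts [hv, hu]))
            (by rw [finrank_span_eq_card hli, Fintype.card_fin, (hSl N hN).1])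
        refine ⟨{v}, Set.finite_singleton v, fun b hb _ hba _ => ⟨v, rfl, ?_⟩⟩
        obtain ⟨g, hg⟩ := (Submodule.mem_span_range_iff_exists_fun K).1 (hspan.symm ▸ hb : b ∈ Submodule.span K _)
        simp [Fin.sum_univ_two] at hg
        rw [← hg, T_add₃ hF, T_smul₃ hF, T_smul₃ hF, hva, mul_zero, zero_add] at hba
        refine Submodule.mem_span_singleton.2 ⟨g 0, ?_⟩
        rw [← hg, show g 1 = 0 by simpa [hu0] using hba, zero_smul, add_zero]
      · exact ⟨∅, Set.finite_empty, fun b hb hb0 hba _ => absurd ⟨b, hb, hb0, hba⟩ hex⟩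
  choose! Pf hPf hPcov using hper
  refine ⟨⋃ N ∈ S, Pf N, hSf.biUnion fun N hN => hPf N hN, fun b hb0 hba hbT => ?_⟩
  obtain ⟨N, hN, hbN⟩ := hScov b hbT
  obtain ⟨v, hv, hbv⟩ := hPcov N hN b hbN hb0 hba hbT
  exact ⟨v, Set.mem_biUnion hN hv, hbv⟩

end Groth.Agent.PfaffH28
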